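import Mathlib

/-!
# Étale algebras over a weakly presented directed colimit of rings descend to a stage
-/

set_option autoImplicit false
set_option linter.unusedSectionVars false
set_option linter.style.haveILetI false
set_option linter.unusedVariables false
universe u

namespace Groth.Agent.H47.WeakColim

open TensorProduct

section

variable {ι : Type u} [Preorder ι] [IsDirected ι (· ≤ ·)] [Nonempty ι]
  (G : ι → Type u) [∀ i, CommRing (G i)] (f : ∀ i j, i ≤ j → (G i →+* G j))
  (A : Type u) [CommRing A] (g : ∀ i, G i →+* A)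
  (hg : ∀ i j (h : i ≤ j), (g j).comp (f i j h) = g i)
  (hsurj : ∀ a : A, ∃ i, ∃ x : G i, g i x = a)
  (hker : ∀ i (x : G i), g i x = 0 → ∃ j, ∃ h : i ≤ j, f i j h x = 0)

include hg hsurj in
/-- Finitely many elements of `A` come from a common stage. -/
lemma exists_common_stage {κ : Type*} [Finite κ] (a : κ → A) :
    ∃ (i : ι) (x : κ → G i), ∀ k, g i (x k) = a k := by
  choose ik xk hxk using fun k => hsurj (a k)
  obtain ⟨i, hi⟩ := Finite.exists_le ik
  refine ⟨i, fun k => f (ik k) i (hi k) (xk k), fun k => ?_⟩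
  have := RingHom.congr_fun (hg (ik k) i (hi k)) (xk k)
  rw [RingHom.comp_apply] at this
  rw [this, hxk]

include hg hker in
/-- Finitely many elements of `ker (g i)` die at a common later stage. -/
lemma exists_kill_finset (i : ι) (T : Finset (G i)) (hT : ∀ x ∈ T, g i x = 0) :
    ∃ (j : ι) (θ : G i →+* G j), (g j).comp θ = g i ∧ ∀ x ∈ T, θ x = 0 := by
  classical
  induction T using Finset.induction_on with
  | empty => exact ⟨i, RingHom.id _, RingHom.comp_id _, by simp⟩
  | insert a T _ ih =>
    obtain ⟨j, θ, hθ, hk⟩ := ih (fun x hx => hT x (Finset.mem_insert_of_mem hx))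
    have ha : g j (θ a) = 0 := by
      have := RingHom.congr_fun hθ a
      rw [RingHom.comp_apply] at this
      rw [this, hT a (Finset.mem_insert_self a T)]
    obtain ⟨k, hjk, hka⟩ := hker j (θ a) ha
    refine ⟨k, (f j k hjk).comp θ, ?_, ?_⟩
    · rw [← RingHom.comp_assoc, hg, hθ]
    · intro x hx
      rcases Finset.mem_insert.mp hx with rfl | hx
      · exact hka
      · rw [RingHom.comp_apply, hk x hx, map_zero]

include hg hsurj hker in
/-- A ring map from a finitely presented `ℤ`-algebra to `A` factors through a stage. -/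
theorem exists_lift_of_finitePresentation (C : Type u) [CommRing C]
    [Algebra.FinitePresentation ℤ C] (ψ : C →+* A) :
    ∃ (i : ι) (ψi : C →+* G i), (g i).comp ψi = ψ := by
  classical
  obtain ⟨n, φ, hφ, hfg⟩ := Algebra.FinitePresentation.out (R := ℤ) (A := C)
  obtain ⟨T, hT⟩ := hfg
  obtain ⟨i, x, hx⟩ := exists_common_stage G f A g hg hsurj
    (fun k : Fin n => ψ (φ (MvPolynomial.X k)))
  have hcomp : ((g i).toIntAlgHom).comp (MvPolynomial.aeval x) = ψ.toIntAlgHom.comp φ := by
    refine MvPolynomial.algHom_ext fun k => ?_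
    simp only [AlgHom.comp_apply, MvPolynomial.aeval_X]
    exact hx k
  obtain ⟨j, θ, hθ, hk⟩ := exists_kill_finset G f A g hg hker i
    (T.image (MvPolynomial.aeval x)) (by
      intro u hu
      obtain ⟨F, hF, rfl⟩ := Finset.mem_image.mp hu
      have := AlgHom.congr_fun hcomp F
      simp only [AlgHom.comp_apply] at this
      have hFk : F ∈ RingHom.ker φ.toRingHom := hT ▸ Ideal.subset_span hF
      have hF0 : φ F = 0 := hFk
      rw [hF0, map_zero] at this
      exact this)
  have hle : RingHom.ker φ.toRingHom ≤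
      RingHom.ker ((θ.toIntAlgHom).comp (MvPolynomial.aeval x)).toRingHom := by
    rw [← hT, Ideal.span_le]
    intro F hF
    exact hk _ (Finset.mem_image_of_mem _ hF)
  let ψj : C →ₐ[ℤ] G j :=
    AlgHom.liftOfSurjective φ hφ ((θ.toIntAlgHom).comp (MvPolynomial.aeval x)) hle
  refine ⟨j, ψj.toRingHom, ?_⟩
  have h2 : ((g j).toIntAlgHom.comp ψj).comp φ = ψ.toIntAlgHom.comp φ := by
    rw [AlgHom.comp_assoc, AlgHom.liftOfSurjective_comp, ← hcomp, ← AlgHom.comp_assoc]
    congr 1
    exact AlgHom.ext fun y => RingHom.congr_fun hθ y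
  have h3 := (AlgHom.cancel_right hφ).mp h2
  exact RingHom.ext fun c => AlgHom.congr_fun h3 c

include hg hsurj hker in
/-- An étale algebra over a weakly presented directed colimit descends to a stage. -/
theorem exists_etale_descends (B : Type u) [CommRing B] [Algebra A B] [Algebra.Etale A B] :
    ∃ (i : ι) (Bi : Type u) (_ : CommRing Bi) (_ : Algebra (G i) Bi), Algebra.Etale (G i) Bi ∧
      letI : Algebra (G i) A := (g i).toAlgebra
      Nonempty (B ≃ₐ[A] A ⊗[G i] Bi) := by
  classical
  obtain ⟨A₀, B₀, _, _, hfg, het, ⟨e⟩⟩ := Algebra.Etale.exists_subalgebra_fg ℤ A B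
  haveI : Algebra.FiniteType ℤ A₀ := (Subalgebra.fg_iff_finiteType A₀).mp hfg
  haveI : Algebra.FinitePresentation ℤ A₀ :=
    Algebra.FinitePresentation.of_finiteType.mp inferInstance
  obtain ⟨i, ψi, hψi⟩ := exists_lift_of_finitePresentation G f A g hg hsurj hker A₀
    (algebraMap A₀ A)
  letI : Algebra A₀ (G i) := ψi.toAlgebra
  letI : Algebra (G i) A := (g i).toAlgebra
  haveI : IsScalarTower A₀ (G i) A := IsScalarTower.of_algebraMap_eq (fun x => by
    have := RingHom.congr_fun hψi x
    exact this.symm)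
  refine ⟨i, (G i) ⊗[A₀] B₀, inferInstance, inferInstance, inferInstance, ?_⟩
  exact ⟨e.trans (Algebra.TensorProduct.cancelBaseChange A₀ (G i) A A B₀).symm⟩

end

end Groth.Agent.H47.WeakColim
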