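import Groth.Agent.S9392
import Mathlib.RingTheory.Localization.Basic

set_option autoImplicit false
universe u

namespace Groth.Agent.H47

/-- Being N-2 is invariant under ring isomorphisms. -/
theorem isN2_of_ringEquiv {C D : Type u} [CommRing C] [IsDomain C] [CommRing D] [IsDomain D]
    (e : C ≃+* D) (h : CAlg.IsN2 C) : CAlg.IsN2 D := by
  letI : Algebra C D := e.toRingHom.toAlgebra
  haveI : IsLocalization (⊥ : Submonoid C) D :=
    IsLocalization.of_le_isUnit_of_bijective (by
      rintro _ ⟨x, hx, rfl⟩
      rw [Submonoid.mem_bot.mp hx, map_one]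
      exact isUnit_one) e.bijective
  exact Groth.Agent.S9392.result C ⊥ D h

end Groth.Agent.H47
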