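import Mathlib
import Groth.Agent.S11741

set_option autoImplicit false
set_option linter.unusedSectionVars false
set_option linter.style.haveILetI false
set_option linter.unusedVariables false
universe u

namespace Groth.Agent.H47

open MvPowerSeries

section Eval

variable {k : Type*} {R : Type*} [CommRing k] [CommRing R] [Algebra k R]
  (I : Ideal R)

theorem aeval_mem_pow (d : ℕ) (b : Fin d → R) (hb : ∀ i, b i ∈ I) (n : ℕ)
    (q : MvPolynomial (Fin d) k) (hq : q ∈ (MvPolynomial.idealOfVars (Fin d) k) ^ n) :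
    MvPolynomial.aeval b q ∈ I ^ n := by
  have h1 : Ideal.map (MvPolynomial.aeval b : MvPolynomial (Fin d) k →ₐ[k] R)
      (MvPolynomial.idealOfVars (Fin d) k) ≤ I := by
    rw [MvPolynomial.idealOfVars, Ideal.map_span, Ideal.span_le]
    rintro _ ⟨_, ⟨i, rfl⟩, rfl⟩
    change (MvPolynomial.aeval b) (MvPolynomial.X i) ∈ _
    rw [MvPolynomial.aeval_X]
    exact hb i
  have h2 : (MvPolynomial.aeval b : MvPolynomial (Fin d) k →ₐ[k] R) q ∈
      Ideal.map (MvPolynomial.aeval b : MvPolynomial (Fin d) k →ₐ[k] R)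
        ((MvPolynomial.idealOfVars (Fin d) k) ^ n) :=
    Ideal.mem_map_of_mem _ hq
  rw [Ideal.map_pow] at h2
  exact Ideal.pow_right_mono h1 n h2

/-- evaluation of power series at elements of `I`, for `R` an `I`-adically complete ring. -/
theorem exists_evalHom_complete [IsAdicComplete I R] (d : ℕ) (b : Fin d → R)
    (hb : ∀ i, b i ∈ I) :
    ∃ ψ : MvPowerSeries (Fin d) k →ₐ[k] R, ∀ i, ψ (MvPowerSeries.X i) = b i := by
  classical
  let ψ₀ : MvPolynomial (Fin d) k →ₐ[k] R := MvPolynomial.aeval b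
  have h₀ : ∀ n : ℕ, ∀ q ∈ (MvPolynomial.idealOfVars (Fin d) k) ^ n,
      ((Ideal.Quotient.mkₐ k (I ^ n)).comp ψ₀) q = 0 := by
    intro n q hq
    change Ideal.Quotient.mk (I ^ n) (ψ₀ q) = 0
    rw [Ideal.Quotient.eq_zero_iff_mem]
    exact aeval_mem_pow I d b hb n q hq
  let f : (n : ℕ) → MvPowerSeries (Fin d) k →ₐ[k] R ⧸ I ^ n := fun n =>
    (Ideal.Quotient.liftₐ ((MvPolynomial.idealOfVars (Fin d) k) ^ n)
      ((Ideal.Quotient.mkₐ k (I ^ n)).comp ψ₀) (h₀ n)).comp
      ((MvPowerSeries.truncTotalAlgHom (Fin d) k n).restrictScalars k)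
  have hfapp : ∀ n p, f n p = Ideal.Quotient.mk (I ^ n) (ψ₀ (MvPowerSeries.truncTotal n p)) :=
    fun n p => rfl
  have hf : ∀ {m n : ℕ} (hle : m ≤ n),
      (Ideal.Quotient.factorₐ k (Ideal.pow_le_pow_right hle)).comp (f n) = f m := by
    intro m n hle
    apply AlgHom.ext
    intro p
    rw [AlgHom.comp_apply, hfapp, hfapp]
    change Ideal.Quotient.mk (I ^ m) _ = _
    rw [Ideal.Quotient.mk_eq_mk_iff_sub_mem, ← map_sub]
    exact aeval_mem_pow I d b hb m _
      (MvPowerSeries.truncTotal_sub_truncTotal_mem_pow_idealOfVars hle le_rfl p)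
  refine ⟨IsAdicComplete.liftAlgHom I f hf, fun i => ?_⟩
  have hX : ∀ n, Ideal.Quotient.mk (I ^ n) (IsAdicComplete.liftAlgHom I f hf (X i)) =
      Ideal.Quotient.mk (I ^ n) (b i) := by
    intro n
    rw [IsAdicComplete.mk_liftAlgHom, hfapp, Ideal.Quotient.mk_eq_mk_iff_sub_mem]
    have h1 : ψ₀ (MvPolynomial.X i) = b i := MvPolynomial.aeval_X _ _
    rw [← h1, ← map_sub]
    apply aeval_mem_pow I d b hb n
    have := (MvPowerSeries.truncTotalAlgHom (Fin d) k n).commutes (MvPolynomial.X i)
    have h5 : algebraMap (MvPolynomial (Fin d) k) (MvPowerSeries (Fin d) k) (MvPolynomial.X i) =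
        (X i : MvPowerSeries (Fin d) k) := by
      rw [MvPowerSeries.algebraMap_apply', Algebra.algebraMap_self, MvPowerSeries.map_id]
      exact MvPolynomial.coe_X i
    rw [h5] at this
    change Ideal.Quotient.mk _ (MvPowerSeries.truncTotal n (X i)) = Ideal.Quotient.mk _ _ at this
    rwa [Ideal.Quotient.mk_eq_mk_iff_sub_mem] at this
  have hH : IsHausdorff I R := inferInstance
  rw [← sub_eq_zero]
  apply hH.haus'
  intro n
  rw [SModEq.zero, smul_eq_mul, Ideal.mul_top]
  have := hX n
  rwa [Ideal.Quotient.mk_eq_mk_iff_sub_mem] at this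

end Eval

/-- Cohen structure theorem with a given coefficient field: a complete regular local ring with
coefficient field `k` is a power series ring over `k`. -/
theorem exists_algEquiv_mvPowerSeries (R : Type u)
    [CommRing R] [IsRegularLocalRing R] [IsAdicComplete (IsLocalRing.maximalIdeal R) R]
    (k : Type u) [Field k] [Algebra k R]
    (hk : Function.Bijective (algebraMap k (IsLocalRing.ResidueField R))) :
    ∃ d : ℕ, Nonempty (R ≃ₐ[k] MvPowerSeries (Fin d) k) := by
  classical
  let κ := IsLocalRing.ResidueField R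
  let d := Module.finrank κ (IsLocalRing.CotangentSpace R)
  let v : Module.Basis (Fin d) κ (IsLocalRing.CotangentSpace R) := Module.finBasis κ _
  have hsurjc := Ideal.toCotangent_surjective (IsLocalRing.maximalIdeal R)
  choose c hc using fun i => hsurjc (v i)
  obtain ⟨ψ, hψX⟩ := exists_evalHom_complete (k := k) (IsLocalRing.maximalIdeal R) d
    (fun i => (c i : R)) (fun i => (c i).2)
  have hψ : ∀ i : Fin d, ψ (MvPowerSeries.X i) ∈ IsLocalRing.maximalIdeal R := by
    intro i
    rw [hψX]
    exact (c i).2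
  have hfun : (fun i : Fin d => (IsLocalRing.maximalIdeal R).toCotangent
      ⟨ψ (MvPowerSeries.X i), hψ i⟩) = fun i => v i := by
    funext i
    rw [← hc i]
    congr 1
    exact Subtype.ext (hψX i)
  have hR : Function.Surjective ((IsLocalRing.residue R).comp (algebraMap k R)) := by
    intro x
    obtain ⟨a, ha⟩ := hk.2 x
    refine ⟨a, ?_⟩
    rw [← ha]
    rfl
  have hiff := Groth.Agent.S11741.result k R hR d ψ hψ
    (by rw [hfun]; exact v.linearIndependent)
    (by rw [hfun]; exact v.span_eq)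
  have hbij : Function.Bijective ψ := hiff.1 inferInstance
  exact ⟨d, ⟨(AlgEquiv.ofBijective ψ hbij).symm⟩⟩

end Groth.Agent.H47
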