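import Mathlib

set_option autoImplicit false
set_option linter.unusedSectionVars false
set_option linter.style.haveILetI false
set_option linter.unusedVariables false
universe u v

namespace Groth.Agent.H47

open MvPolynomial Algebra

/-- `H¹(L_{S/R})` vanishes if every finite subset of `S` lies in (the image of) an `R`-algebra
`L ↪ S` with vanishing `H¹(L_{L/R})`. -/
theorem subsingleton_h1Cotangent_of_forall_finset {R : Type u} {S : Type v} [CommRing R]
    [CommRing S] [Algebra R S]
    (h : ∀ s : Finset S, ∃ (L : Type v) (_ : CommRing L) (_ : Algebra R L) (ι : L →ₐ[R] S),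
      Function.Injective ι ∧ (↑s ⊆ Set.range ι) ∧ Subsingleton (Algebra.H1Cotangent R L)) :
    Subsingleton (Algebra.H1Cotangent R S) := by
  classical
  let P := Generators.self R S
  change Subsingleton P.toExtension.H1Cotangent
  rw [Extension.subsingleton_h1Cotangent, injective_iff_map_eq_zero]
  intro c hc
  obtain ⟨⟨f, hf⟩, rfl⟩ := Extension.Cotangent.mk_surjective c
  rw [Extension.cotangentComplex_mk] at hc
  -- all partial derivatives of `f` vanish at the tautological point
  have hpd : ∀ j : S, aeval P.val (pderiv j f) = 0 := by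
    intro j
    have := congrArg (fun z => P.cotangentSpaceBasis.repr z j) hc
    simp only [map_zero, Finsupp.coe_zero, Pi.zero_apply] at this
    rw [← this]
    exact (P.cotangentSpaceBasis_repr_one_tmul f j).symm
  have hf0 : aeval P.val f = 0 := P.aeval_val_eq_zero hf
  obtain ⟨L, _, _, ι, hι, hs, hL⟩ := h f.vars
  let Q := Generators.self R L
  obtain ⟨f', hf'⟩ := exists_rename_eq_of_vars_subset_range f ι hι hs
  have hren : ∀ g : MvPolynomial L R, aeval P.val (rename ι g) = ι (aeval Q.val g) := by
    intro g
    rw [aeval_rename]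
    exact (MvPolynomial.comp_aeval_apply (Q.val) ι g).symm
  have hf'0 : aeval Q.val f' = 0 := by
    apply hι
    rw [← hren, hf', hf0, map_zero]
  have hf'ker : f' ∈ Q.ker := by
    rw [Generators.ker_eq_ker_aeval_val]
    exact hf'0
  have hQinj : Function.Injective Q.toExtension.cotangentComplex :=
    (Extension.subsingleton_h1Cotangent _).1 hL
  have hc' : Q.toExtension.cotangentComplex (Extension.Cotangent.mk ⟨f', hf'ker⟩) = 0 := by
    rw [Extension.cotangentComplex_mk]
    apply Q.cotangentSpaceBasis.repr.injective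
    ext t
    rw [Q.cotangentSpaceBasis_repr_one_tmul]
    simp only [map_zero, Finsupp.coe_zero, Pi.zero_apply]
    apply hι
    rw [map_zero, ← hren, ← pderiv_rename hι, hf']
    exact hpd (ι t)
  have h0 : Extension.Cotangent.mk (P := Q.toExtension) ⟨f', hf'ker⟩ = 0 :=
    hQinj (by rw [hc', map_zero])
  rw [Extension.Cotangent.mk_eq_zero_iff] at h0 ⊢
  change f' ∈ Q.ker ^ 2 at h0
  change f ∈ P.ker ^ 2
  have hmap : Ideal.map (rename ι : MvPolynomial L R →ₐ[R] MvPolynomial S R) Q.ker ≤ P.ker := by
    rw [Ideal.map_le_iff_le_comap]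
    intro g hg
    rw [Generators.ker_eq_ker_aeval_val] at hg
    rw [Ideal.mem_comap, Generators.ker_eq_ker_aeval_val]
    change aeval P.val (rename ι g) = 0
    rw [hren]
    have : aeval Q.val g = 0 := hg
    rw [this, map_zero]
  have h1 : (rename ι : MvPolynomial L R →ₐ[R] MvPolynomial S R) f' ∈
      Ideal.map (rename ι : MvPolynomial L R →ₐ[R] MvPolynomial S R) (Q.ker ^ 2) :=
    Ideal.mem_map_of_mem _ h0
  rw [Ideal.map_pow] at h1
  rw [← hf']
  exact Ideal.pow_right_mono hmap 2 h1

/-- A field extension which is a directed union of formally smooth subalgebras is formally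
smooth. -/
theorem formallySmooth_of_forall_finset {k : Type u} {K : Type v} [CommRing k]
    [Field K] [Algebra k K]
    (h : ∀ s : Finset K, ∃ (L : Type v) (_ : CommRing L) (_ : Algebra k L) (ι : L →ₐ[k] K),
      Function.Injective ι ∧ (↑s ⊆ Set.range ι) ∧ Algebra.FormallySmooth k L) :
    Algebra.FormallySmooth k K := by
  refine ⟨inferInstance, subsingleton_h1Cotangent_of_forall_finset fun s => ?_⟩
  obtain ⟨L, i1, i2, ι, hι, hs, hL⟩ := h s
  exact ⟨L, i1, i2, ι, hι, hs, hL.subsingleton_h1Cotangent⟩

end Groth.Agent.H47
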