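import Mathlib

/-!
# Geometrically reduced finitely generated field extensions are formally smooth
-/

set_option autoImplicit false

namespace Groth.Agent.H47

open TensorProduct

variable {k K : Type*} [Field k] [Field K] [Algebra k K]

/-- For a geometrically reduced field extension in characteristic `p`, `p`-th powers of linearly
independent elements stay linearly independent. -/
lemma linearIndepOn_pow_of_isGeometricallyReduced [Algebra.IsGeometricallyReduced k K] (p : ℕ)
    (hp : p.Prime) [CharP k p] (s : Finset K) (hs : LinearIndepOn k _root_.id (s : Set K)) :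
    LinearIndepOn k (· ^ p) (s : Set K) := by
  classical
  haveI : Fact p.Prime := ⟨hp⟩
  let L := AlgebraicClosure k
  haveI : IsReduced (L ⊗[k] K) := inferInstance
  haveI : CharP (L ⊗[k] K) p :=
    charP_of_injective_algebraMap (algebraMap k (L ⊗[k] K)).injective p
  rw [LinearIndepOn, Fintype.linearIndependent_iff]
  intro c hc i
  choose d hd using fun x : (s : Set K) =>
    IsAlgClosed.exists_pow_nat_eq (algebraMap k L (c x)) hp.pos
  let z : L ⊗[k] K := ∑ x : (s : Set K), d x ⊗ₜ[k] (x : K)
  have hz : z ^ p = 0 := by
    rw [sum_pow_char]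
    simp_rw [Algebra.TensorProduct.tmul_pow, hd]
    have : ∀ x : (s : Set K), algebraMap k L (c x) ⊗ₜ[k] ((x : K) ^ p) =
        (1 : L) ⊗ₜ[k] (c x • (x : K) ^ p) := fun x => by
      rw [Algebra.algebraMap_eq_smul_one, TensorProduct.smul_tmul]
    simp_rw [this, ← TensorProduct.tmul_sum]
    rw [hc, tmul_zero]
  have hz0 : z = 0 := IsNilpotent.eq_zero ⟨p, hz⟩
  have hli := Module.Flat.linearIndependent_one_tmul (S := L) hs
  have hd0 := Fintype.linearIndependent_iff.mp hli d (by
    rw [← hz0]
    refine Finset.sum_congr rfl (fun x _ => ?_)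
    rw [TensorProduct.smul_tmul', smul_eq_mul, mul_one]
    rfl) i
  have : algebraMap k L (c i) = 0 := by rw [← hd, hd0, zero_pow hp.ne_zero]
  exact (map_eq_zero _).mp this

/-- A finitely generated, geometrically reduced (= separable) field extension is formally
smooth. -/
theorem formallySmooth_of_isGeometricallyReduced [Algebra.EssFiniteType k K]
    [Algebra.IsGeometricallyReduced k K] : Algebra.FormallySmooth k K := by
  obtain _ | ⟨p, hp, hpk⟩ := CharP.exists' k
  · infer_instance
  · have : ExpChar k p := .prime hp.out
    obtain ⟨s, hs, H⟩ :=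
      exists_isTranscendenceBasis_and_isSeparable_of_linearIndepOn_pow_of_essFiniteType p hp.out
        (fun s hs => linearIndepOn_pow_of_isGeometricallyReduced (k := k) (K := K) p hp.out s hs)
    have : Algebra.IsSeparable (↥(IntermediateField.adjoin k (Set.range ((↑) : s → K)))) K := by
      convert H <;> simp
    exact .of_algebraicIndependent_of_isSeparable hs.1

end Groth.Agent.H47

namespace Groth.Agent.H47

open KaehlerDifferential in
/-- If `P → S` is a surjection of `R`-algebras with `S` formally smooth over `R`, then
`J/J² → S ⊗_P Ω_{P/R}` is injective. -/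
theorem kerCotangentToTensor_injective_of_formallySmooth (R P S : Type*) [CommRing R] [CommRing P]
    [CommRing S] [Algebra R P] [Algebra R S] [Algebra P S] [IsScalarTower R P S]
    [Algebra.FormallySmooth R S] (hs : Function.Surjective (algebraMap P S)) :
    Function.Injective (kerCotangentToTensor R P S) := by
  let f : (P ⧸ RingHom.ker (IsScalarTower.toAlgHom R P S).toRingHom ^ 2) →ₐ[R] S :=
    (IsScalarTower.toAlgHom R P S).kerSquareLift
  have hf : Function.Surjective f := fun s => by
    obtain ⟨p, rfl⟩ := hs s
    exact ⟨Ideal.Quotient.mk _ p, rfl⟩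
  have hnil : IsNilpotent (RingHom.ker
      (f : (P ⧸ RingHom.ker (IsScalarTower.toAlgHom R P S).toRingHom ^ 2) →+* S)) := by
    refine ⟨2, ?_⟩
    have := (IsScalarTower.toAlgHom R P S).ker_kerSquareLift
    change RingHom.ker f.toRingHom ^ 2 = 0
    rw [this, Ideal.cotangentIdeal_square]
    rfl
  let g : S →ₐ[R] _ := Algebra.FormallySmooth.liftOfSurjective (AlgHom.id R S) f hf hnil
  have hg : f.comp g = AlgHom.id R S := Algebra.FormallySmooth.comp_liftOfSurjective _ _ hf hnil
  obtain ⟨l, hl⟩ := (retractionKerCotangentToTensorEquivSection (R := R) (P := P) (S := S) hs).symm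
    ⟨g, hg⟩
  exact Function.LeftInverse.injective (g := l) (fun x => LinearMap.congr_fun hl x)

theorem kerCotangentToTensor_residueField_injective (k : Type*) [Field k] (R : Type*)
    [CommRing R] [IsLocalRing R] [Algebra k R]
    [Algebra.EssFiniteType k (IsLocalRing.ResidueField R)]
    [Algebra.IsGeometricallyReduced k (IsLocalRing.ResidueField R)] :
    Function.Injective
      (KaehlerDifferential.kerCotangentToTensor k R (IsLocalRing.ResidueField R)) := by
  haveI : Algebra.FormallySmooth k (IsLocalRing.ResidueField R) :=
    formallySmooth_of_isGeometricallyReduced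
  exact kerCotangentToTensor_injective_of_formallySmooth k R _ IsLocalRing.residue_surjective

end Groth.Agent.H47
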