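import Mathlib
import Groth.Agent.H47.FSUnion
import Groth.Agent.H47.SepFS

set_option autoImplicit false
set_option linter.unusedSectionVars false
set_option linter.style.haveILetI false
set_option linter.unusedVariables false
universe u v

namespace Groth.Agent.H47

open Algebra IsLocalRing

/-- EGA 0_IV 19.6.1 (⇐): a separable (= geometrically reduced) field extension, not necessarily
finitely generated, is formally smooth. -/
theorem formallySmooth_of_isGeometricallyReduced_field {k : Type u} {K : Type v} [Field k]
    [Field K] [Algebra k K] [Algebra.IsGeometricallyReduced k K] : Algebra.FormallySmooth k K := by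
  apply formallySmooth_of_forall_finset
  intro s
  let L := IntermediateField.adjoin k (s : Set K)
  haveI : Algebra.EssFiniteType k L :=
    IntermediateField.essFiniteType_iff.2 (IntermediateField.fg_adjoin_of_finite s.finite_toSet)
  haveI : Algebra.IsGeometricallyReduced k L :=
    Algebra.IsGeometricallyReduced.of_injective L.val L.val.injective
  refine ⟨L, inferInstance, inferInstance, L.val, L.val.injective, ?_,
    formallySmooth_of_isGeometricallyReduced⟩
  intro x hx
  exact ⟨⟨x, IntermediateField.subset_adjoin k _ hx⟩, rfl⟩

/-- Every field extension of a perfect field is formally smooth. -/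
theorem formallySmooth_of_perfectField_field {k : Type u} {K : Type v} [Field k] [PerfectField k]
    [Field K] [Algebra k K] : Algebra.FormallySmooth k K := by
  apply formallySmooth_of_forall_finset
  intro s
  let L := IntermediateField.adjoin k (s : Set K)
  haveI : Algebra.EssFiniteType k L :=
    IntermediateField.essFiniteType_iff.2 (IntermediateField.fg_adjoin_of_finite s.finite_toSet)
  refine ⟨L, inferInstance, inferInstance, L.val, L.val.injective, ?_, inferInstance⟩
  intro x hx
  exact ⟨⟨x, IntermediateField.subset_adjoin k _ hx⟩, rfl⟩

/-- EGA 0_IV 19.6.2: coefficient field containing `k` when the residue field is separable over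
`k`. -/
theorem exists_coeffField_of_isGeometricallyReduced {k A : Type u} [Field k] [CommRing A]
    [IsLocalRing A] [Algebra k A]
    [IsAdicComplete (maximalIdeal A) A] [Algebra.IsGeometricallyReduced k (ResidueField A)] :
    ∃ σ : ResidueField A →ₐ[k] A, ∀ x : ResidueField A, residue A (σ x) = x := by
  haveI : Algebra.FormallySmooth k (ResidueField A) :=
    formallySmooth_of_isGeometricallyReduced_field
  let f : ResidueField A →ₐ[k] A ⧸ maximalIdeal A :=
    { toRingHom := RingHom.id _
      commutes' := fun r => rfl }
  obtain ⟨g, hg⟩ := Algebra.FormallySmooth.exists_mkₐ_comp_eq_of_isAdicComplete f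
  exact ⟨g, fun x => congrArg (fun h => h x) hg⟩

end Groth.Agent.H47
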