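import Mathlib

/-!
# Regularity ascends along étale and smooth ring maps
-/

set_option autoImplicit false
set_option linter.unusedSectionVars false
set_option linter.style.haveILetI false
set_option linter.unusedVariables false
universe u

namespace Groth.Agent.H47

open IsLocalRing

/-- If `B` is flat, essentially of finite type and formally unramified over a Noetherian ring `A`,
`q` is a prime of `B` over `p` and `A_p` is regular, then `B_q` is regular. -/
theorem isRegularLocalRing_of_unramified_flat (A B : Type*) [CommRing A] [CommRing B] [Algebra A B]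
    [IsNoetherianRing A] [IsNoetherianRing B] [Module.Flat A B] [Algebra.EssFiniteType A B]
    [Algebra.FormallyUnramified A B] (p : Ideal A) [p.IsPrime] (q : Ideal B) [q.IsPrime]
    [q.LiesOver p] [IsRegularLocalRing (Localization.AtPrime p)] :
    IsRegularLocalRing (Localization.AtPrime q) := by
  letI := Localization.AtPrime.algebraOfLiesOver p q
  haveI : Algebra.IsUnramifiedAt A q := inferInstance
  have hmap : p.map (algebraMap A (Localization.AtPrime q)) = maximalIdeal _ :=
    ((Algebra.isUnramifiedAt_iff_map_eq A p q).mp inferInstance).2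
  have hmap' : (maximalIdeal (Localization.AtPrime p)).map
      (algebraMap (Localization.AtPrime p) (Localization.AtPrime q)) =
      maximalIdeal (Localization.AtPrime q) := by
    rw [← hmap, ← Localization.AtPrime.map_eq_maximalIdeal, Ideal.map_map,
      ← IsScalarTower.algebraMap_eq]
  apply IsRegularLocalRing.of_spanFinrank_maximalIdeal_le
  have h1 : (maximalIdeal (Localization.AtPrime q)).spanFinrank ≤
      (maximalIdeal (Localization.AtPrime p)).spanFinrank := by
    rw [← hmap']
    exact Ideal.spanFinrank_map_le_of_fg _ (IsNoetherian.noetherian _)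
  have h2 : ((maximalIdeal (Localization.AtPrime p)).spanFinrank : WithBot ℕ∞) =
      ringKrullDim (Localization.AtPrime p) :=
    (isRegularLocalRing_iff _).mp inferInstance
  have h3 : ringKrullDim (Localization.AtPrime p) = p.height :=
    IsLocalization.AtPrime.ringKrullDim_eq_height p _
  have h4 : ringKrullDim (Localization.AtPrime q) = q.height :=
    IsLocalization.AtPrime.ringKrullDim_eq_height q _
  have h5 : p.height ≤ q.height := by
    rw [Ideal.height_eq_height_add_of_liesOver_of_hasGoingDown p q]
    exact le_self_add
  rw [h4]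
  calc ((maximalIdeal (Localization.AtPrime q)).spanFinrank : WithBot ℕ∞)
      ≤ ((maximalIdeal (Localization.AtPrime p)).spanFinrank : WithBot ℕ∞) := by
        exact_mod_cast h1
    _ = p.height := by rw [h2, h3]
    _ ≤ q.height := by exact_mod_cast h5

/-- Regularity ascends along étale maps (of Noetherian rings). -/
theorem isRegularRing_of_etale (A B : Type*) [CommRing A] [CommRing B] [Algebra A B]
    [IsRegularRing A] [Algebra.Etale A B] : IsRegularRing B := by
  haveI : IsNoetherianRing B := Algebra.FiniteType.isNoetherianRing A B
  refine { isRegularLocalRing_localization := fun q _ => ?_ }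
  haveI : q.LiesOver (q.under A) := ⟨rfl⟩
  exact isRegularLocalRing_of_unramified_flat A B (q.under A) q

/-- A Noetherian ring is regular if it is so on a cover by basic opens. -/
theorem isRegularRing_of_span_eq_top {B : Type*} [CommRing B] [IsNoetherianRing B] (s : Set B)
    (hs : Ideal.span s = ⊤) (h : ∀ g ∈ s, IsRegularRing (Localization.Away g)) :
    IsRegularRing B := by
  refine { isRegularLocalRing_localization := fun q _ => ?_ }
  obtain ⟨g, hgs, hgq⟩ : ∃ g ∈ s, g ∉ q := by
    by_contra hcon
    push Not at hcon
    have : Ideal.span s ≤ q := Ideal.span_le.mpr hcon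
    rw [hs] at this
    exact (Ideal.IsPrime.ne_top ‹_›) (top_le_iff.mp this)
  haveI := h g hgs
  -- the prime of `B_g` corresponding to `q`
  let q' : Ideal (Localization.Away g) := q.map (algebraMap B (Localization.Away g))
  have hdisj : Disjoint (Submonoid.powers g : Set B) (q : Set B) := by
    rw [Set.disjoint_left]
    rintro _ ⟨n, rfl⟩ hmem
    exact hgq (Ideal.IsPrime.mem_of_pow_mem ‹_› n hmem)
  haveI hq' : q'.IsPrime :=
    IsLocalization.isPrime_of_isPrime_disjoint (Submonoid.powers g) _ q ‹_› hdisj
  have hcomap : q'.comap (algebraMap B (Localization.Away g)) = q :=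
    IsLocalization.comap_map_of_isPrime_disjoint (Submonoid.powers g) _ ‹_› hdisj
  haveI : IsLocalization.AtPrime (Localization.AtPrime q')
      (q'.comap (algebraMap B (Localization.Away g))) :=
    IsLocalization.isLocalization_isLocalization_atPrime_isLocalization (Submonoid.powers g)
      (Localization.AtPrime q') q'
  haveI : IsLocalization.AtPrime (Localization.AtPrime q') q := by
    convert this
    exact hcomap.symm
  exact IsRegularLocalRing.of_ringEquiv
    (IsLocalization.algEquiv q.primeCompl (Localization.AtPrime q')
      (Localization.AtPrime q)).toRingEquiv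

/-- Regularity ascends along smooth maps (of Noetherian rings). -/
theorem isRegularRing_of_smooth (A B : Type u) [CommRing A] [CommRing B] [Algebra A B]
    [IsRegularRing A] [Algebra.Smooth A B] : IsRegularRing B := by
  haveI : IsNoetherianRing B := Algebra.FiniteType.isNoetherianRing A B
  obtain ⟨s, hs, hstd⟩ := Algebra.Smooth.exists_span_eq_top_isStandardSmooth A B
  refine isRegularRing_of_span_eq_top s hs (fun g hg => ?_)
  obtain ⟨ι, σ, _, _, ⟨P⟩⟩ := (hstd g hg).out
  haveI : Algebra.IsStandardSmoothOfRelativeDimension P.dimension A (Localization.Away g) :=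
    ⟨_, _, _, ‹_›, P, rfl⟩
  obtain ⟨φ, hφ⟩ := Algebra.IsStandardSmoothOfRelativeDimension.exists_etale_mvPolynomial
    P.dimension A (Localization.Away g)
  letI : Algebra (MvPolynomial (Fin P.dimension) A) (Localization.Away g) :=
    φ.toRingHom.toAlgebra
  haveI : Algebra.Etale (MvPolynomial (Fin P.dimension) A) (Localization.Away g) := hφ
  exact isRegularRing_of_etale (MvPolynomial (Fin P.dimension) A) (Localization.Away g)

end Groth.Agent.H47

namespace Groth.Agent.H47

open TensorProduct

/-- Geometric regularity over a field ascends along smooth maps (finite-extension form). -/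
theorem isRegularRing_tensor_of_smooth (k : Type u) [Field k] (A : Type u) [CommRing A]
    [Algebra k A] (B : Type u) [CommRing B] [Algebra k B] [Algebra A B]
    [IsScalarTower k A B] [Algebra.Smooth A B] (k' : Type u) [Field k'] [Algebra k k']
    (hA : IsRegularRing (k' ⊗[k] A)) : IsRegularRing (k' ⊗[k] B) := by
  haveI : IsRegularRing (A ⊗[k] k') :=
    IsRegularRing.of_ringEquiv (Algebra.TensorProduct.comm k k' A).toRingEquiv
  haveI : IsRegularRing ((A ⊗[k] k') ⊗[A] B) := isRegularRing_of_smooth (A ⊗[k] k') _
  let e₁ : (A ⊗[k] k') ⊗[A] B ≃ₐ[A] B ⊗[A] (A ⊗[k] k') := Algebra.TensorProduct.comm A _ _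
  let e₂ : B ⊗[A] (A ⊗[k] k') ≃ₐ[B] B ⊗[k] k' := Algebra.TensorProduct.cancelBaseChange k A B B k'
  let e₃ : B ⊗[k] k' ≃ₐ[k] k' ⊗[k] B := Algebra.TensorProduct.comm k B k'
  exact IsRegularRing.of_ringEquiv
    ((e₁.toRingEquiv.trans e₂.toRingEquiv).trans e₃.toRingEquiv)

end Groth.Agent.H47
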