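import Mathlib
import Groth.Agent.Lead.RegularLocal4
import Groth.Agent.H47.FSField
import Groth.Agent.H47.SmoothRegular

set_option autoImplicit false
set_option linter.unusedSectionVars false
set_option linter.style.haveILetI false
set_option linter.unusedVariables false
universe u

namespace Groth.Agent.H47.RSF

open IsLocalRing TensorProduct KaehlerDifferential

section LemmaK

variable {P : Type u} [CommRing P] [IsLocalRing P] [IsNoetherianRing P]

/-- If `J₁ ⊆ J₂ = m` are generated by an initial segment of, resp. all of, a minimal generating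
family of the maximal ideal, then `κ ⊗ J₁ → κ ⊗ J₂` is injective. -/
theorem injective_baseChange_inclusion {d c : ℕ} (hc : c ≤ d) (x : Fin d → P)
    (J₁ J₂ : Ideal P) (h12 : J₁ ≤ J₂) (hJ₂ : J₂ = Ideal.span (Set.range x))
    (hm : J₂ = maximalIdeal P)
    (hJ₁ : J₁ = Ideal.span (Set.range (fun i : Fin c => x (Fin.castLE hc i))))
    (hfr : Module.finrank (ResidueField P) (CotangentSpace P) = d) :
    Function.Injective (LinearMap.baseChange (ResidueField P) (Submodule.inclusion h12)) := by
  classical
  set K := ResidueField P with hK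
  have hxJ₂ : ∀ i, x i ∈ J₂ := fun i => hJ₂ ▸ Ideal.subset_span ⟨i, rfl⟩
  have hxJ₁ : ∀ j : Fin c, x (Fin.castLE hc j) ∈ J₁ := fun j => hJ₁ ▸ Ideal.subset_span ⟨j, rfl⟩
  have hxm : ∀ i, x i ∈ maximalIdeal P := fun i => hm ▸ hxJ₂ i
  let v : Fin d → K ⊗[P] J₂ := fun i => 1 ⊗ₜ ⟨x i, hxJ₂ i⟩
  let u : Fin c → K ⊗[P] J₁ := fun j => 1 ⊗ₜ ⟨x (Fin.castLE hc j), hxJ₁ j⟩
  let f0 : J₂ →ₗ[P] CotangentSpace P :=
    (maximalIdeal P).toCotangent ∘ₗ Submodule.inclusion (le_of_eq hm)
  let θ : K ⊗[P] J₂ →ₗ[K] CotangentSpace P := LinearMap.liftBaseChange K f0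
  let w : Fin d → CotangentSpace P := fun i => (maximalIdeal P).toCotangent ⟨x i, hxm i⟩
  have hθv : ∀ i, θ (v i) = w i := by
    intro i
    simp only [θ, v, LinearMap.liftBaseChange_tmul, one_smul]
    rfl
  have hspan : ⊤ ≤ Submodule.span K (Set.range w) := by
    have h1 : Submodule.span P (Set.range (fun i => (⟨x i, hxm i⟩ : maximalIdeal P))) = ⊤ := by
      rw [eq_top_iff]
      rintro ⟨y, hy⟩ -
      have hy' : y ∈ Ideal.span (Set.range x) := by rw [← hJ₂, hm]; exact hy
      obtain ⟨p, hp⟩ := (Ideal.mem_span_range_iff_exists_fun).1 hy'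
      have : (⟨y, hy⟩ : maximalIdeal P) = ∑ i, p i • (⟨x i, hxm i⟩ : maximalIdeal P) := by
        apply Subtype.ext
        simp [← hp]
      rw [this]
      exact Submodule.sum_mem _ (fun i _ => Submodule.smul_mem _ _
        (Submodule.subset_span ⟨i, rfl⟩))
    have h2 := (CotangentSpace.span_image_eq_top_iff (R := P)).2 h1
    rw [← Set.range_comp] at h2
    exact h2.ge
  have hli_w : LinearIndependent K w :=
    linearIndependent_of_top_le_span_of_card_eq_finrank hspan (by rw [Fintype.card_fin]; exact hfr.symm)
  have hli_v : LinearIndependent K v := by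
    apply LinearIndependent.of_comp θ
    have : (θ ∘ v) = w := funext hθv
    rw [this]
    exact hli_w
  -- `u` spans
  have hspan_u : ∀ z : K ⊗[P] J₁, ∃ a : Fin c → K, z = ∑ j, a j • u j := by
    intro z
    induction z using TensorProduct.induction_on with
    | zero => exact ⟨0, by simp⟩
    | tmul a y =>
      obtain ⟨y, hy⟩ := y
      have hy' : y ∈ Ideal.span (Set.range (fun i : Fin c => x (Fin.castLE hc i))) := hJ₁ ▸ hy
      obtain ⟨p, hp⟩ := (Ideal.mem_span_range_iff_exists_fun).1 hy'
      refine ⟨fun j => a * algebraMap P K (p j), ?_⟩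
      have hy2 : (⟨y, hy⟩ : J₁) = ∑ j, p j • (⟨x (Fin.castLE hc j), hxJ₁ j⟩ : J₁) := by
        apply Subtype.ext
        simp [← hp]
      rw [hy2, TensorProduct.tmul_sum]
      refine Finset.sum_congr rfl (fun j _ => ?_)
      simp only [u]
      rw [TensorProduct.tmul_smul, TensorProduct.smul_tmul', TensorProduct.smul_tmul',
        Algebra.smul_def, smul_eq_mul, mul_one, mul_comm]
    | add z₁ z₂ h₁ h₂ =>
      obtain ⟨a₁, rfl⟩ := h₁
      obtain ⟨a₂, rfl⟩ := h₂
      refine ⟨a₁ + a₂, ?_⟩
      rw [← Finset.sum_add_distrib]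
      refine Finset.sum_congr rfl (fun j _ => ?_)
      rw [Pi.add_apply, add_smul]
  have hbu : ∀ j, LinearMap.baseChange K (Submodule.inclusion h12) (u j) = v (Fin.castLE hc j) := by
    intro j
    simp only [u, v, LinearMap.baseChange_tmul]
    rfl
  rw [injective_iff_map_eq_zero]
  intro z hz
  obtain ⟨a, rfl⟩ := hspan_u z
  rw [map_sum] at hz
  have hz' : ∑ j, a j • (v ∘ Fin.castLE hc) j = 0 := by
    rw [← hz]
    refine Finset.sum_congr rfl (fun j _ => ?_)
    rw [map_smul, hbu]
    rfl
  have hli' : LinearIndependent K (v ∘ Fin.castLE hc) :=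
    hli_v.comp _ (Fin.castLE_injective hc)
  have ha := (Fintype.linearIndependent_iff.1 hli') a hz'
  simp [ha]

end LemmaK

section LemmaJ

open Groth.Agent.Lead

variable (k : Type u) [Field k] (P : Type u) [CommRing P] [IsRegularLocalRing P] [Algebra k P]
  [Algebra.FormallySmooth k P] [Module.Free P Ω[P⁄k]] [Module.Finite P Ω[P⁄k]]
  [Algebra.FormallySmooth k (ResidueField P)]

/-- A regular quotient of a regular local `k`-algebra `P` (formally smooth over `k`, with finite
free differentials, and with residue field formally smooth over `k`) is formally smooth over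
`k`. -/
theorem formallySmooth_quotient (I : Ideal P) [IsRegularLocalRing (P ⧸ I)] :
    Algebra.FormallySmooth k (P ⧸ I) := by
  obtain ⟨d, hd, -⟩ := RLR.exists_ringKrullDim_eq (R := P)
  obtain ⟨x, c, hc, hx, hI⟩ := RLR.exists_generators P d hd I
  have hIne : I ≠ ⊤ := by
    intro h
    have : Nontrivial (P ⧸ I) := inferInstance
    exact (Ideal.Quotient.nontrivial_iff.mp this) h
  have hIm : I ≤ maximalIdeal P := IsLocalRing.le_maximalIdeal hIne
  letI : Algebra (P ⧸ I) (ResidueField P) :=
    (Ideal.Quotient.lift I (residue P) (fun a ha => (residue_eq_zero_iff a).2 (hIm ha))).toAlgebra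
  haveI : IsScalarTower P (P ⧸ I) (ResidueField P) := IsScalarTower.of_algebraMap_eq (fun p => rfl)
  have h₁ : Function.Surjective (algebraMap P (P ⧸ I)) := Ideal.Quotient.mk_surjective
  have h₂ : (RingHom.ker (algebraMap P (P ⧸ I))).FG := IsNoetherian.noetherian _
  have h₃ : maximalIdeal (P ⧸ I) ≤ RingHom.ker (algebraMap (P ⧸ I) (ResidueField P)) := by
    intro y hy
    obtain ⟨p, rfl⟩ := Ideal.Quotient.mk_surjective y
    rw [RingHom.mem_ker]
    show residue P p = 0
    rw [residue_eq_zero_iff]
    by_contra hp
    have hu : IsUnit p := by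
      by_contra hnu
      exact hp ((IsLocalRing.mem_maximalIdeal p).2 hnu)
    exact (IsLocalRing.mem_maximalIdeal _).1 hy (hu.map (Ideal.Quotient.mk I))
  rw [Algebra.FormallySmooth.iff_injective_cotangentComplexBaseChange (R := k) (S := P ⧸ I) P
    (ResidueField P) h₁ h₂ h₃]
  have h₁' : Function.Surjective (algebraMap P (ResidueField P)) := residue_surjective
  have h₂' : (RingHom.ker (algebraMap P (ResidueField P))).FG := IsNoetherian.noetherian _
  have h₃' : maximalIdeal (ResidueField P) ≤
      RingHom.ker (algebraMap (ResidueField P) (ResidueField P)) := by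
    rw [IsLocalRing.maximalIdeal_eq_bot]
    exact bot_le
  have hK := (Algebra.FormallySmooth.iff_injective_cotangentComplexBaseChange (R := k)
    (S := ResidueField P) P (ResidueField P) h₁' h₂' h₃').1 inferInstance
  have hker1 : RingHom.ker (algebraMap P (P ⧸ I)) = I := Ideal.mk_ker
  have hker2 : RingHom.ker (algebraMap P (ResidueField P)) = maximalIdeal P := ker_residue
  have h12 : RingHom.ker (algebraMap P (P ⧸ I)) ≤ RingHom.ker (algebraMap P (ResidueField P)) := by
    rw [hker1, hker2]
    exact hIm
  have hfac : cotangentComplexBaseChange k (P ⧸ I) P (ResidueField P) =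
      (cotangentComplexBaseChange k (ResidueField P) P (ResidueField P)) ∘ₗ
        (LinearMap.baseChange (ResidueField P) (Submodule.inclusion h12)) := by
    ext y
    simp only [AlgebraTensorModule.curry_apply, LinearMap.restrictScalars_comp, curry_apply,
      LinearMap.coe_comp, LinearMap.coe_restrictScalars, Function.comp_apply,
      LinearMap.baseChange_tmul, cotangentComplexBaseChange_tmul]
    rfl
  rw [hfac]
  have hfr : Module.finrank (ResidueField P) (CotangentSpace P) = d := by
    have := (IsRegularLocalRing.iff_finrank_cotangentSpace P).1 inferInstance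
    rw [hd] at this
    exact_mod_cast this
  refine hK.comp (injective_baseChange_inclusion hc x _ _ h12 ?_ hker2 ?_ hfr)
  · rw [hker2, hx]
  · rw [hker1, hI]

end LemmaJ

section Main

/-- If `S' = M⁻¹S` is a regular ring and `q` is a prime of `S` disjoint from `M`, then `S_q` is a
regular local ring. -/
theorem isRegularLocalRing_atPrime_of_isLocalization {R S : Type u} [CommRing R] [CommRing S]
    [Algebra R S] (M : Submonoid R) [IsLocalization M S] [IsRegularRing S] (q : Ideal R) [q.IsPrime]
    (hdisj : Disjoint (M : Set R) (q : Set R)) :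
    IsRegularLocalRing (Localization.AtPrime q) := by
  let q' : Ideal S := q.map (algebraMap R S)
  haveI hq' : q'.IsPrime := IsLocalization.isPrime_of_isPrime_disjoint M _ q ‹_› hdisj
  have hcomap : q'.comap (algebraMap R S) = q :=
    IsLocalization.under_map_of_isPrime_disjoint M _ ‹_› hdisj
  haveI : IsLocalization.AtPrime (Localization.AtPrime q') (q'.comap (algebraMap R S)) :=
    IsLocalization.isLocalization_isLocalization_atPrime_isLocalization M
      (Localization.AtPrime q') q'
  haveI : IsLocalization.AtPrime (Localization.AtPrime q') q := by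
    convert this
    exact hcomap.symm
  exact IsRegularLocalRing.of_ringEquiv
    (IsLocalization.algEquiv q.primeCompl (Localization.AtPrime q')
      (Localization.AtPrime q)).toRingEquiv

variable (k : Type u) [Field k] (S : Type u) [CommRing S] [Algebra k S] [Algebra.FiniteType k S]
  (q : Ideal S) [q.IsPrime]

theorem isRegularLocalRing_of_isSmoothAt [Algebra.IsSmoothAt k q] :
    IsRegularLocalRing (Localization.AtPrime q) := by
  haveI : Algebra.FinitePresentation k S :=
    Algebra.FinitePresentation.of_finiteType.mp inferInstance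
  obtain ⟨f, hf, hfs⟩ := Algebra.IsSmoothAt.exists_notMem_smooth k q
  haveI : IsRegularRing (Localization.Away f) := isRegularRing_of_smooth k (Localization.Away f)
  refine isRegularLocalRing_atPrime_of_isLocalization (S := Localization.Away f)
    (Submonoid.powers f) q ?_
  rw [Set.disjoint_left]
  rintro _ ⟨n, rfl⟩ hmem
  exact hf (Ideal.IsPrime.mem_of_pow_mem ‹_› n hmem)

theorem isSmoothAt_of_isRegularLocalRing [Algebra.IsGeometricallyReduced k q.ResidueField]
    [IsRegularLocalRing (Localization.AtPrime q)] : Algebra.IsSmoothAt k q := by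
  obtain ⟨n, φ, hφ⟩ := Algebra.FiniteType.iff_quotient_mvPolynomial''.1
    (inferInstance : Algebra.FiniteType k S)
  set Q : Ideal (MvPolynomial (Fin n) k) := q.comap φ.toRingHom with hQ
  haveI : Q.IsPrime := Ideal.comap_isPrime _ q
  set P := Localization.AtPrime Q with hP
  set ψ : P →+* Localization.AtPrime q := Localization.localRingHom Q q φ.toRingHom rfl with hψ
  have hψsurj : Function.Surjective ψ := by
    intro z
    obtain ⟨t, ⟨s, hs⟩, rfl⟩ := IsLocalization.exists_mk'_eq q.primeCompl z
    obtain ⟨t', rfl⟩ := hφ t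
    obtain ⟨s', rfl⟩ := hφ s
    exact ⟨IsLocalization.mk' _ t' ⟨s', hs⟩, Localization.localRingHom_mk' _ _ _ _ _ _⟩
  let ψₐ : P →ₐ[k] Localization.AtPrime q :=
    { ψ with
      commutes' := fun c => by
        show ψ (algebraMap k P c) = _
        rw [IsScalarTower.algebraMap_apply k (MvPolynomial (Fin n) k) P, hψ,
          Localization.localRingHom_to_map]
        show algebraMap S _ (φ (algebraMap k _ c)) = _
        rw [φ.commutes, ← IsScalarTower.algebraMap_apply] }
  have hψₐsurj : Function.Surjective ψₐ := hψsurj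
  -- properties of `P`
  haveI : IsRegularLocalRing P := inferInstance
  haveI : Algebra.FormallySmooth (MvPolynomial (Fin n) k) P :=
    Algebra.FormallySmooth.of_isLocalization Q.primeCompl
  haveI : Algebra.FormallySmooth k P := Algebra.FormallySmooth.comp k (MvPolynomial (Fin n) k) P
  haveI : Module.Free P Ω[P⁄k] :=
    Module.free_of_isLocalizedModule Q.primeCompl
      (KaehlerDifferential.map k k (MvPolynomial (Fin n) k) P)
  haveI : Algebra.EssFiniteType (MvPolynomial (Fin n) k) P :=
    Algebra.EssFiniteType.of_isLocalization P Q.primeCompl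
  haveI : Algebra.EssFiniteType k P := Algebra.EssFiniteType.comp k (MvPolynomial (Fin n) k) P
  haveI : Module.Finite P Ω[P⁄k] := inferInstance
  -- residue field
  haveI : IsLocalHom ψ := by
    rw [hψ]; infer_instance
  let ρ : ResidueField P →ₐ[k] q.ResidueField :=
    { IsLocalRing.ResidueField.map ψ with
      commutes' := fun c => by
        show IsLocalRing.ResidueField.map ψ (residue P (algebraMap k P c)) = _
        rw [IsLocalRing.ResidueField.map_residue]
        show residue _ (ψₐ (algebraMap k P c)) = _
        rw [ψₐ.commutes]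
        rfl }
  haveI : Algebra.IsGeometricallyReduced k (ResidueField P) :=
    Algebra.IsGeometricallyReduced.of_injective ρ ρ.toRingHom.injective
  haveI : Algebra.FormallySmooth k (ResidueField P) := formallySmooth_of_isGeometricallyReduced_field
  -- quotient
  let e : (P ⧸ RingHom.ker ψₐ) ≃ₐ[k] Localization.AtPrime q :=
    Ideal.quotientKerAlgEquivOfSurjective hψₐsurj
  haveI : IsRegularLocalRing (P ⧸ RingHom.ker ψₐ) :=
    IsRegularLocalRing.of_ringEquiv e.symm.toRingEquiv
  haveI := formallySmooth_quotient k P (RingHom.ker ψₐ)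
  exact Algebra.FormallySmooth.of_equiv (A := P ⧸ RingHom.ker ψₐ) e

theorem isSmoothAt_iff_isRegularLocalRing [Algebra.IsGeometricallyReduced k q.ResidueField] :
    Algebra.IsSmoothAt k q ↔ IsRegularLocalRing (Localization.AtPrime q) :=
  ⟨fun h => isRegularLocalRing_of_isSmoothAt k S q,
   fun h => isSmoothAt_of_isRegularLocalRing k S q⟩

end Main

end Groth.Agent.H47.RSF
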