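import Mathlib
import Groth.Agent.H47.FSField
import Groth.Agent.H47.PSStruct
import Groth.Agent.H61.CompleteLocalK
import Groth.Agent.H61.PSComplete

set_option autoImplicit false
set_option linter.unusedSectionVars false
set_option linter.style.haveILetI false
set_option linter.unusedVariables false
universe u v

namespace Groth.Agent.H47

open Algebra IsLocalRing MvPowerSeries

/-- A ring is adically complete with respect to a nilpotent ideal. -/
theorem isAdicComplete_of_pow_eq_bot' {R : Type*} [CommRing R] (J : Ideal R) (N : ℕ)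
    (hJ : J ^ N = ⊥) : IsAdicComplete J R where
  haus' x hx := by
    have := hx N
    rw [hJ] at this
    simpa [SModEq.zero, Submodule.bot_smul] using this
  prec' f hf := by
    refine ⟨f N, fun n => ?_⟩
    rcases le_total n N with h | h
    · exact hf h
    · have := (hf h).symm
      rw [hJ, Submodule.bot_smul, SModEq.bot] at this
      rw [this]

/-- An Artinian local ring which is formally smooth over a perfect field is a field. -/
theorem isField_of_formallySmooth_of_isArtinianRing (k₀ : Type v) [Field k₀] [PerfectField k₀]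
    (A : Type u) [CommRing A] [IsLocalRing A] [IsArtinianRing A] [Algebra k₀ A]
    [Algebra.FormallySmooth k₀ A] : IsField A := by
  classical
  haveI : IsNoetherianRing A := inferInstance
  haveI : Algebra.FormallySmooth k₀ (ResidueField A) := formallySmooth_of_perfectField_field
  -- the maximal ideal is nilpotent
  obtain ⟨N₀, hN₀⟩ : IsNilpotent (maximalIdeal A) := by
    rw [← IsLocalRing.jacobson_eq_maximalIdeal ⊥ bot_ne_top]
    exact IsArtinianRing.isNilpotent_jacobson_bot
  set N := N₀ + 1 with hNdef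
  have hN : maximalIdeal A ^ N = ⊥ := by
    rw [hNdef, pow_succ, hN₀, Ideal.zero_eq_bot, Ideal.bot_mul]
  -- a coefficient field
  let π : A →ₐ[k₀] ResidueField A := IsScalarTower.toAlgHom k₀ A (ResidueField A)
  have hπ : Function.Surjective π := IsLocalRing.residue_surjective
  have hkerπ : IsNilpotent (RingHom.ker (π : A →+* ResidueField A)) := by
    have : RingHom.ker (π : A →+* ResidueField A) = maximalIdeal A :=
      IsLocalRing.ker_residue
    rw [this]
    exact ⟨N, hN⟩
  let σ : ResidueField A →ₐ[k₀] A :=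
    Algebra.FormallySmooth.liftOfSurjective (AlgHom.id k₀ (ResidueField A)) π hπ hkerπ
  have hσ : ∀ x, IsLocalRing.residue A (σ x) = x := fun x =>
    Algebra.FormallySmooth.liftOfSurjective_apply (AlgHom.id k₀ (ResidueField A)) π hπ hkerπ x
  letI : Algebra (ResidueField A) A := σ.toRingHom.toAlgebra
  haveI : IsScalarTower k₀ (ResidueField A) A :=
    IsScalarTower.of_algebraMap_eq (fun r => (σ.commutes r).symm)
  have hR : Function.Surjective ((IsLocalRing.residue A).comp (algebraMap (ResidueField A) A)) :=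
    fun x => ⟨x, hσ x⟩
  haveI : IsAdicComplete (maximalIdeal A) A := isAdicComplete_of_pow_eq_bot' _ N hN
  by_cases hd : Module.finrank (ResidueField A) (CotangentSpace A) = 0
  · exact IsLocalRing.finrank_cotangentSpace_eq_zero_iff.1 hd
  exfalso
  set d := Module.finrank (ResidueField A) (CotangentSpace A) with hddef
  let i₀ : Fin d := ⟨0, Nat.pos_of_ne_zero hd⟩
  let w : Module.Basis (Fin d) (ResidueField A) (CotangentSpace A) := Module.finBasis _ _
  have hsurjc := Ideal.toCotangent_surjective (maximalIdeal A)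
  choose c hc using fun i => hsurjc (w i)
  obtain ⟨ψ, hψX⟩ := exists_evalHom_complete (k := ResidueField A) (maximalIdeal A) d
    (fun i => (c i : A)) (fun i => (c i).2)
  have hψ : ∀ i : Fin d, ψ (MvPowerSeries.X i) ∈ maximalIdeal A := by
    intro i
    rw [hψX]
    exact (c i).2
  have hfun : (fun i : Fin d => (maximalIdeal A).toCotangent
      ⟨ψ (MvPowerSeries.X i), hψ i⟩) = fun i => w i := by
    funext i
    rw [← hc i]
    congr 1
    exact Subtype.ext (hψX i)
  have hsurj : Function.Surjective ψ :=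
    Groth.Agent.H61.CLK.ps_surjective ψ hψ hR (by rw [hfun]; exact w.span_eq)
  have hker : RingHom.ker ψ ≤ maximalIdeal (MvPowerSeries (Fin d) (ResidueField A)) ^ 2 :=
    Groth.Agent.H61.CLK.ps_ker_le_sq ψ hψ hR (by rw [hfun]; exact w.linearIndependent)
  set M := maximalIdeal (MvPowerSeries (Fin d) (ResidueField A)) with hM
  have hψM : ∀ n, ∀ g ∈ M ^ n, ψ g ∈ maximalIdeal A ^ n := by
    intro n g hg
    have h1 := Groth.Agent.H61.CLK.map_maximalIdeal_ps_le ψ hψ
    have h2 : ψ g ∈ Ideal.map ψ (M ^ n) := Ideal.mem_map_of_mem _ hg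
    rw [Ideal.map_pow] at h2
    exact Ideal.pow_right_mono h1 n h2
  -- the truncated power series ring
  let ψ₀ : MvPowerSeries (Fin d) (ResidueField A) →ₐ[k₀] A := ψ.restrictScalars k₀
  have hψ₀ : ∀ g ∈ M ^ (N + 1), ψ₀ g = 0 := by
    intro g hg
    have := hψM N g (Ideal.pow_le_pow_right (Nat.le_succ N) hg)
    rw [hN] at this
    exact this
  let ψb : (MvPowerSeries (Fin d) (ResidueField A) ⧸ M ^ (N + 1)) →ₐ[k₀] A :=
    Ideal.Quotient.liftₐ (M ^ (N + 1)) ψ₀ hψ₀
  have hψb : ∀ g, ψb (Ideal.Quotient.mk _ g) = ψ g := fun g => rfl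
  have hψbsurj : Function.Surjective ψb := by
    intro x
    obtain ⟨g, rfl⟩ := hsurj x
    exact ⟨Ideal.Quotient.mk _ g, rfl⟩
  have hψbnil : IsNilpotent (RingHom.ker (ψb : (MvPowerSeries (Fin d) (ResidueField A) ⧸ M ^ (N + 1)) →+* A)) := by
    refine ⟨N + 1, ?_⟩
    rw [Ideal.zero_eq_bot, eq_bot_iff]
    have hle : RingHom.ker (ψb : (MvPowerSeries (Fin d) (ResidueField A) ⧸ M ^ (N + 1)) →+* A) ≤ Ideal.map (Ideal.Quotient.mk (M ^ (N + 1))) M := by
      intro x hx
      obtain ⟨g, rfl⟩ := Ideal.Quotient.mk_surjective x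
      have hg : g ∈ RingHom.ker ψ := hx
      exact Ideal.mem_map_of_mem _ (Ideal.pow_le_self two_ne_zero (hker hg))
    refine le_trans (Ideal.pow_right_mono hle (N + 1)) ?_
    rw [← Ideal.map_pow, Ideal.map_quotient_self]
  let s : A →ₐ[k₀] (MvPowerSeries (Fin d) (ResidueField A) ⧸ M ^ (N + 1)) :=
    Algebra.FormallySmooth.liftOfSurjective (AlgHom.id k₀ A) ψb hψbsurj hψbnil
  have hs : ∀ x, ψb (s x) = x := fun x =>
    Algebra.FormallySmooth.liftOfSurjective_apply (AlgHom.id k₀ A) ψb hψbsurj hψbnil x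
  -- the element
  set a : A := (c i₀ : A) with ha
  have haN : a ^ N = 0 := by
    have : a ^ N ∈ maximalIdeal A ^ N := Ideal.pow_mem_pow (c i₀).2 N
    rw [hN] at this
    exact this
  obtain ⟨g, hg⟩ := Ideal.Quotient.mk_surjective (s a)
  have hga : ψ g = a := by
    have := hs a
    rw [← hg, hψb] at this
    exact this
  have hq : g - X i₀ ∈ M ^ 2 := hker (by
    rw [RingHom.mem_ker, map_sub, hga, hψX, sub_self])
  have hXM : (X i₀ : MvPowerSeries (Fin d) (ResidueField A)) ∈ M := by
    rw [hM, Groth.Agent.H61.maximalIdeal_ps_eq_span_X]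
    exact Ideal.subset_span ⟨i₀, rfl⟩
  have hgM : g ∈ M := by
    have := Ideal.add_mem _ (Ideal.pow_le_self two_ne_zero hq) hXM
    simpa using this
  have hgN : g ^ N ∈ M ^ (N + 1) := by
    rw [← Ideal.Quotient.eq_zero_iff_mem, map_pow, hg, ← map_pow, haN, map_zero]
  have hdiff : g ^ N - X i₀ ^ N ∈ M ^ (N + 1) := by
    rw [← geom_sum₂_mul]
    have hsum : (∑ i ∈ Finset.range N, g ^ i * X i₀ ^ (N - 1 - i)) ∈ M ^ (N - 1) := by
      apply Ideal.sum_mem
      intro i hi
      rw [Finset.mem_range] at hi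
      have h1 : g ^ i * X i₀ ^ (N - 1 - i) ∈ M ^ i * M ^ (N - 1 - i) :=
        Ideal.mul_mem_mul (Ideal.pow_mem_pow hgM i) (Ideal.pow_mem_pow hXM _)
      rw [← pow_add] at h1
      have : i + (N - 1 - i) = N - 1 := by omega
      rwa [this] at h1
    have := Ideal.mul_mem_mul hsum hq
    rw [← pow_add] at this
    have h2 : N - 1 + 2 = N + 1 := by omega
    rwa [h2] at this
  have hXN : (X i₀ : MvPowerSeries (Fin d) (ResidueField A)) ^ N ∈ M ^ (N + 1) := by
    have := Ideal.sub_mem _ hgN hdiff
    simpa using this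
  rw [hM, Groth.Agent.H61.maximalIdeal_pow_eq_coeffIdeal, Groth.Agent.H61.mem_coeffIdeal] at hXN
  have h3 := hXN (Finsupp.single i₀ N)
  have hdeg : (Finsupp.single i₀ N).degree = N := by simp [Finsupp.degree]
  rw [hdeg, Nat.add_sub_cancel_left, pow_one, IsLocalRing.maximalIdeal_eq_bot, Ideal.mem_bot,
    MvPowerSeries.X_pow_eq, MvPowerSeries.coeff_monomial_same] at h3
  exact one_ne_zero h3

end Groth.Agent.H47
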