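import Mathlib
import Groth.Agent.H47.FSArtin

set_option autoImplicit false
set_option linter.unusedSectionVars false
set_option linter.style.haveILetI false
set_option linter.unusedVariables false
universe u v w

namespace Groth.Agent.H47

open Algebra IsLocalRing TensorProduct

/-- An Artinian ring which is formally smooth over a perfect field is reduced. -/
theorem isReduced_of_formallySmooth_of_isArtinianRing (k₀ : Type v) [Field k₀] [PerfectField k₀]
    (T : Type u) [CommRing T] [IsArtinianRing T] [Algebra k₀ T]
    [Algebra.FormallySmooth k₀ T] : IsReduced T := by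
  apply isReduced_ofLocalizationMaximal
  intro P hP
  have hf := isField_of_formallySmooth_of_isArtinianRing k₀ (Localization.AtPrime P)
  letI := hf.toField
  infer_instance

/-- `K/k` formally smooth, `B/k` a finite field extension (which is an algebra over a perfect
field `k₀`): then `K ⊗[k] B` is reduced. -/
theorem isReduced_tensor_of_formallySmooth (k₀ : Type w) [Field k₀] [PerfectField k₀]
    {k : Type u} {K : Type v} {B : Type v} [Field k] [Field K] [Algebra k K]
    [Algebra.FormallySmooth k K] [CommRing B] (hB : IsField B) [Algebra k B] [Module.Finite k B]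
    [Algebra k₀ B] : IsReduced (K ⊗[k] B) := by
  haveI : Algebra.FormallySmooth k₀ B := by
    letI := hB.toField
    exact formallySmooth_of_perfectField_field
  haveI : SMulCommClass k k₀ B := SMulCommClass.of_commMonoid k k₀ B
  haveI : Algebra.FormallySmooth k₀ (B ⊗[k] K) := Algebra.FormallySmooth.comp k₀ B _
  let e : (B ⊗[k] K) ≃ₐ[k] (K ⊗[k] B) := Algebra.TensorProduct.comm k B K
  haveI : IsArtinianRing (K ⊗[k] B) := IsArtinianRing.of_finite K _
  haveI : IsArtinianRing (B ⊗[k] K) :=
    Function.Surjective.isArtinianRing (f := (e.symm : (K ⊗[k] B) →+* (B ⊗[k] K)))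
      e.symm.surjective
  haveI := isReduced_of_formallySmooth_of_isArtinianRing k₀ (B ⊗[k] K)
  exact isReduced_of_injective (e.symm : (K ⊗[k] B) →+* (B ⊗[k] K)) e.symm.injective

/-- EGA 0_IV 19.6.1 (⇒): a formally smooth field extension is separable. -/
theorem isGeometricallyReduced_of_formallySmooth_field {k K : Type u} [Field k] [Field K]
    [Algebra k K] [Algebra.FormallySmooth k K] : Algebra.IsGeometricallyReduced k K := by
  rw [Algebra.isGeometricallyReduced_field_iff]
  let e : (K ⊗[k] AlgebraicClosure k) ≃ₐ[k] (AlgebraicClosure k ⊗[k] K) :=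
    Algebra.TensorProduct.comm k K (AlgebraicClosure k)
  suffices h : IsReduced (K ⊗[k] AlgebraicClosure k) from
    isReduced_of_injective (e.symm : (AlgebraicClosure k ⊗[k] K) →+* (K ⊗[k] AlgebraicClosure k))
      e.symm.injective
  apply IsReduced.tensorProduct_of_flat_of_forall_fg
  intro B hBfg
  have hB : IsField B := Subalgebra.isField_of_algebraic B
  haveI : Algebra.FiniteType k B := (Subalgebra.fg_iff_finiteType B).1 hBfg
  haveI : Algebra.IsAlgebraic k B :=
    Algebra.IsAlgebraic.of_injective B.val Subtype.val_injective
  haveI : Algebra.IsIntegral k B := Algebra.IsAlgebraic.isIntegral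
  haveI : Module.Finite k B := Algebra.IsIntegral.finite
  obtain h0 | ⟨p, hp, hpk⟩ := CharP.exists' k
  · haveI : CharZero B := charZero_of_injective_algebraMap (algebraMap k B).injective
    letI : Field B := hB.toField
    exact isReduced_tensor_of_formallySmooth ℚ hB
  · haveI := hp
    haveI : CharP B p := charP_of_injective_algebraMap (algebraMap k B).injective p
    letI := ZMod.algebra B p
    exact isReduced_tensor_of_formallySmooth (ZMod p) hB

/-- EGA 0_IV 19.6.1: a field extension is formally smooth iff it is separable. -/
theorem formallySmooth_field_iff_isGeometricallyReduced {k K : Type u} [Field k] [Field K]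
    [Algebra k K] : Algebra.FormallySmooth k K ↔ Algebra.IsGeometricallyReduced k K :=
  ⟨fun _ => isGeometricallyReduced_of_formallySmooth_field,
   fun _ => formallySmooth_of_isGeometricallyReduced_field⟩

end Groth.Agent.H47
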