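import Mathlib
import Groth.Prelude.Def_EGA4b

set_option autoImplicit false
set_option linter.unusedSectionVars false
set_option linter.style.haveILetI false
set_option linter.unusedVariables false
universe u

namespace Groth.Agent.H47.NC

open EGA4 Polynomial

variable {C : Type u} [CommRing C]

/-- Elements of `C_Q` with numerator and denominator in the range of `g` lie in the range of the
induced local homomorphism. -/
theorem mk'_mem_range {C' : Type u} [CommRing C'] (g : C' →+* C) (Q : Ideal C) [Q.IsPrime]
    (d : C) (s : Q.primeCompl) (hd : d ∈ g.range) (hs : (s : C) ∈ g.range) :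
    IsLocalization.mk' (Localization.AtPrime Q) d s ∈
      (Localization.localRingHom (Q.comap g) Q g rfl).range := by
  obtain ⟨d', rfl⟩ := hd
  obtain ⟨s', hs'⟩ := hs
  have hs'Q : s' ∈ (Q.comap g).primeCompl := by
    show s' ∉ Q.comap g
    rw [Ideal.mem_comap, hs']
    exact s.2
  refine ⟨IsLocalization.mk' _ d' ⟨s', hs'Q⟩, ?_⟩
  rw [Localization.localRingHom_mk']
  congr 1
  exact Subtype.ext hs'

/-- The local ring of a "directed union" of normal rings (along flat injective maps) at a prime
is a domain. -/
theorem isDomain_of_forall_finset (Q : Ideal C) [Q.IsPrime]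
    (h : ∀ F : Finset C, ∃ (C' : Type u) (_ : CommRing C') (g : C' →+* C),
      Function.Injective g ∧ IsNormalRing C' ∧ ∀ x ∈ F, x ∈ g.range) :
    IsDomain (Localization.AtPrime Q) := by
  classical
  haveI : NoZeroDivisors (Localization.AtPrime Q) := by
    constructor
    intro x y hxy
    obtain ⟨a, s, rfl⟩ := IsLocalization.exists_mk'_eq Q.primeCompl x
    obtain ⟨b, t, rfl⟩ := IsLocalization.exists_mk'_eq Q.primeCompl y
    rw [← IsLocalization.mk'_mul, IsLocalization.mk'_eq_zero_iff] at hxy
    obtain ⟨u, hu⟩ := hxy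
    obtain ⟨C', _, g, hinj, hnorm, hF⟩ := h {a, b, (u : C)}
    obtain ⟨a', rfl⟩ := hF a (by simp)
    obtain ⟨b', rfl⟩ := hF b (by simp)
    obtain ⟨u', hu'⟩ := hF u (by simp)
    have hu'Q : u' ∉ Q.comap g := by
      rw [Ideal.mem_comap, hu']
      exact u.2
    haveI : (Q.comap g).IsPrime := Ideal.comap_isPrime g Q
    obtain ⟨hdom, -⟩ := hnorm (Q.comap g)
    have h0 : u' * (a' * b') = 0 := by
      apply hinj
      rw [map_mul, map_mul, hu', map_zero]
      exact hu
    have h1 : algebraMap C' (Localization.AtPrime (Q.comap g)) a' *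
        algebraMap C' (Localization.AtPrime (Q.comap g)) b' = 0 := by
      have hunit : IsUnit (algebraMap C' (Localization.AtPrime (Q.comap g)) u') :=
        IsLocalization.map_units _ (⟨u', hu'Q⟩ : (Q.comap g).primeCompl)
      have := congrArg (algebraMap C' (Localization.AtPrime (Q.comap g))) h0
      rw [map_mul, map_mul, map_zero] at this
      exact hunit.mul_right_eq_zero.mp this
    have key : ∀ c' : C', algebraMap C' (Localization.AtPrime (Q.comap g)) c' = 0 →
        ∀ r : Q.primeCompl, IsLocalization.mk' (Localization.AtPrime Q) (g c') r = 0 := by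
      intro c' hc' r
      obtain ⟨⟨v', hv'⟩, hv0⟩ := (IsLocalization.map_eq_zero_iff (Q.comap g).primeCompl _ c').1 hc'
      rw [IsLocalization.mk'_eq_zero_iff]
      refine ⟨⟨g v', hv'⟩, ?_⟩
      show g v' * g c' = 0
      rw [← map_mul, hv0, map_zero]
    rcases mul_eq_zero.mp h1 with h2 | h2
    · exact Or.inl (key a' h2 s)
    · exact Or.inr (key b' h2 t)
  exact NoZeroDivisors.to_isDomain _

/-- The local ring of a "directed union" of normal rings (along flat injective maps) at a prime
is an integrally closed domain. -/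
theorem normalAt_of_forall_finset (Q : Ideal C) [Q.IsPrime]
    (h : ∀ F : Finset C, ∃ (C' : Type u) (_ : CommRing C') (g : C' →+* C),
      g.Flat ∧ Function.Injective g ∧ IsNormalRing C' ∧ ∀ x ∈ F, x ∈ g.range) :
    IsDomain (Localization.AtPrime Q) ∧ IsIntegrallyClosed (Localization.AtPrime Q) := by
  classical
  haveI hdomR : IsDomain (Localization.AtPrime Q) := isDomain_of_forall_finset Q (fun F => by
    obtain ⟨C', i, g, -, h2, h3, h4⟩ := h F
    exact ⟨C', i, g, h2, h3, h4⟩)
  refine ⟨hdomR, ?_⟩
  set R := Localization.AtPrime Q with hR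
  set K := FractionRing R with hK
  rw [isIntegrallyClosed_iff K]
  intro z hz
  obtain ⟨p, hmonic, hp0⟩ := hz
  obtain ⟨n0, d0, hd0, hzdiv⟩ := IsFractionRing.div_surjective (A := R) z
  have hc : ∀ c : R, ∃ (d : C) (s : Q.primeCompl), IsLocalization.mk' R d s = c :=
    fun c => IsLocalization.exists_mk'_eq Q.primeCompl c
  choose num den hnd using hc
  obtain ⟨C', _, g, hflat, hinj, hnorm, hF⟩ := h
    ({num n0, (den n0 : C), num d0, (den d0 : C)} ∪ p.coeffs.image num ∪
      p.coeffs.image (fun c => (den c : C)))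
  haveI : (Q.comap g).IsPrime := Ideal.comap_isPrime g Q
  set R' := Localization.AtPrime (Q.comap g) with hR'
  set φ : R' →+* R := Localization.localRingHom (Q.comap g) Q g rfl with hφ
  obtain ⟨hdom', hic'⟩ := hnorm (Q.comap g)
  -- range facts
  have hrange : ∀ c : R, num c ∈ g.range → (den c : C) ∈ g.range → c ∈ φ.range := by
    intro c h1 h2
    rw [← hnd c]
    exact mk'_mem_range g Q _ _ h1 h2
  have hn0 : n0 ∈ φ.range := hrange n0 (hF _ (by simp)) (hF _ (by simp))
  have hd0' : d0 ∈ φ.range := hrange d0 (hF _ (by simp)) (hF _ (by simp))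
  have hcoef : ∀ c ∈ p.coeffs, c ∈ φ.range := by
    intro c hcmem
    refine hrange c (hF _ ?_) (hF _ ?_)
    · simp only [Finset.mem_union, Finset.mem_image]
      exact Or.inl (Or.inr ⟨c, hcmem, rfl⟩)
    · simp only [Finset.mem_union, Finset.mem_image]
      exact Or.inr ⟨c, hcmem, rfl⟩
  have hlifts : p ∈ lifts φ := by
    rw [lifts_iff_coeff_lifts]
    intro n
    by_cases hn : p.coeff n = 0
    · rw [hn]; exact ⟨0, map_zero φ⟩
    · exact hcoef _ (Polynomial.coeff_mem_coeffs hn)
  obtain ⟨q, hqp, -, hqmonic⟩ := lifts_and_degree_eq_and_monic hlifts hmonic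
  -- φ injective
  have hφinj : Function.Injective φ := by
    have hfl : φ.Flat := RingHom.Flat.localRingHom hflat Q (Q.comap g) rfl
    letI : Algebra R' R := φ.toAlgebra
    haveI : Module.Flat R' R := hfl
    haveI : IsLocalHom (algebraMap R' R) := by
      show IsLocalHom (Localization.localRingHom (Q.comap g) Q g rfl)
      infer_instance
    haveI : Module.FaithfullyFlat R' R := Module.FaithfullyFlat.of_flat_of_isLocalHom
    exact FaithfulSMul.algebraMap_injective R' R
  set K' := FractionRing R' with hK'
  have hcomp_inj : Function.Injective ((algebraMap R K).comp φ) :=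
    (IsFractionRing.injective R K).comp hφinj
  set ψ : K' →+* K := IsFractionRing.lift hcomp_inj with hψ
  have hψalg : ∀ x : R', ψ (algebraMap R' K' x) = algebraMap R K (φ x) := fun x =>
    IsFractionRing.lift_algebraMap hcomp_inj x
  obtain ⟨n0', rfl⟩ := hn0
  obtain ⟨d0', rfl⟩ := hd0'
  have hd0'ne : d0' ≠ 0 := by
    rintro rfl
    rw [map_zero] at hd0
    exact zero_notMem_nonZeroDivisors hd0
  set z' : K' := algebraMap R' K' n0' / algebraMap R' K' d0' with hz'
  have hψz : ψ z' = z := by
    rw [hz', map_div₀, hψalg, hψalg, hzdiv]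
  have hint' : IsIntegral R' z' := by
    refine ⟨q, hqmonic, ?_⟩
    apply ψ.injective
    rw [map_zero, Polynomial.hom_eval₂, hψz]
    have : ψ.comp (algebraMap R' K') = (algebraMap R K).comp φ := by
      ext x
      exact hψalg x
    rw [this, ← Polynomial.eval₂_map, hqp]
    exact hp0
  obtain ⟨c', hc'⟩ := (isIntegrallyClosed_iff K').1 hic' hint'
  refine ⟨φ c', ?_⟩
  rw [← hψalg, hc', hψz]

/-- A "directed union" of normal rings along flat injective maps is normal. -/
theorem isNormalRing_of_forall_finset
    (h : ∀ F : Finset C, ∃ (C' : Type u) (_ : CommRing C') (g : C' →+* C),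
      g.Flat ∧ Function.Injective g ∧ IsNormalRing C' ∧ ∀ x ∈ F, x ∈ g.range) :
    IsNormalRing C := fun Q _ => normalAt_of_forall_finset Q h

end Groth.Agent.H47.NC
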