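import Groth.Prelude.Def_EGA4b
import Mathlib.RingTheory.Localization.LocalizationLocalization
import Mathlib.RingTheory.Localization.BaseChange
import Mathlib.RingTheory.IntegralClosure.IntegrallyClosed

set_option autoImplicit false
universe u

namespace Groth.Agent.H47

open EGA4

/-- A localization of a normal ring is normal. -/
theorem isNormalRing_of_isLocalization {C D : Type u} [CommRing C] [CommRing D] [Algebra C D]
    (N : Submonoid C) [IsLocalization N D] (h : IsNormalRing C) : IsNormalRing D := by
  intro P hP
  haveI : IsScalarTower C D (Localization.AtPrime P) := inferInstance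
  haveI : (P.comap (algebraMap C D)).IsPrime := Ideal.comap_isPrime _ _
  haveI : IsLocalization.AtPrime (Localization.AtPrime P) (P.comap (algebraMap C D)) :=
    IsLocalization.isLocalization_isLocalization_atPrime_isLocalization N _ P
  let e : Localization.AtPrime (P.comap (algebraMap C D)) ≃ₐ[C] Localization.AtPrime P :=
    IsLocalization.algEquiv (P.comap (algebraMap C D)).primeCompl _ _
  obtain ⟨h1, h2⟩ := h (P.comap (algebraMap C D))
  exact ⟨e.toRingEquiv.toMulEquiv.isDomain_iff.mp h1, IsIntegrallyClosed.of_equiv e.toRingEquiv⟩

/-- Normality is invariant under ring isomorphisms. -/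
theorem isNormalRing_of_ringEquiv {C D : Type u} [CommRing C] [CommRing D] (e : C ≃+* D)
    (h : IsNormalRing C) : IsNormalRing D := by
  letI : Algebra C D := e.toRingHom.toAlgebra
  haveI : IsLocalization (⊥ : Submonoid C) D :=
    IsLocalization.of_le_isUnit_of_bijective (by
      rintro _ ⟨x, hx, rfl⟩
      rw [Submonoid.mem_bot.mp hx, map_one]
      exact isUnit_one) e.bijective
  exact isNormalRing_of_isLocalization ⊥ h

end Groth.Agent.H47
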