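import Mathlib
import Groth.Prelude.Def_EGA4b
import Groth.Agent.H47.NormalLoc
import Groth.Agent.H20.EtaleNormal

set_option autoImplicit false
set_option linter.unusedSectionVars false
set_option linter.style.haveILetI false
set_option linter.unusedVariables false
universe u

namespace Groth.Agent.H47.SN

open EGA4

/-- An integrally closed domain is a normal ring. -/
theorem isNormalRing_of_isIntegrallyClosed (R : Type u) [CommRing R] [IsDomain R]
    [IsIntegrallyClosed R] : IsNormalRing R := by
  intro p hp
  refine ⟨inferInstance, ?_⟩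
  exact isIntegrallyClosed_of_isLocalization (Localization.AtPrime p) p.primeCompl
    p.primeCompl_le_nonZeroDivisors

/-- If `S = M⁻¹R` is normal and `Q` is a prime of `R` disjoint from `M`, then `R_Q` is a normal
domain. -/
theorem normalAt_of_isLocalization {R S : Type u} [CommRing R] [CommRing S] [Algebra R S]
    (M : Submonoid R) [IsLocalization M S] (hS : IsNormalRing S) (q : Ideal R) [q.IsPrime]
    (hdisj : Disjoint (M : Set R) (q : Set R)) :
    IsDomain (Localization.AtPrime q) ∧ IsIntegrallyClosed (Localization.AtPrime q) := by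
  let q' : Ideal S := q.map (algebraMap R S)
  haveI hq' : q'.IsPrime := IsLocalization.isPrime_of_isPrime_disjoint M _ q ‹_› hdisj
  have hcomap : q'.comap (algebraMap R S) = q :=
    IsLocalization.under_map_of_isPrime_disjoint M _ ‹_› hdisj
  haveI : IsLocalization.AtPrime (Localization.AtPrime q') (q'.comap (algebraMap R S)) :=
    IsLocalization.isLocalization_isLocalization_atPrime_isLocalization M
      (Localization.AtPrime q') q'
  haveI : IsLocalization.AtPrime (Localization.AtPrime q') q := by
    convert this
    exact hcomap.symm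
  let e : Localization.AtPrime q' ≃+* Localization.AtPrime q :=
    (IsLocalization.algEquiv q.primeCompl (Localization.AtPrime q')
      (Localization.AtPrime q)).toRingEquiv
  obtain ⟨h1, h2⟩ := hS q'
  exact ⟨e.toMulEquiv.isDomain_iff.mp h1, IsIntegrallyClosed.of_equiv e⟩

/-- Normality can be checked on a cover by basic opens. -/
theorem isNormalRing_of_span_eq_top {B : Type u} [CommRing B] (s : Set B)
    (hs : Ideal.span s = ⊤) (h : ∀ g ∈ s, IsNormalRing (Localization.Away g)) :
    IsNormalRing B := by
  intro q hq
  obtain ⟨g, hgs, hgq⟩ : ∃ g ∈ s, g ∉ q := by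
    by_contra hcon
    push Not at hcon
    have : Ideal.span s ≤ q := Ideal.span_le.mpr hcon
    rw [hs] at this
    exact (Ideal.IsPrime.ne_top ‹_›) (top_le_iff.mp this)
  have hdisj : Disjoint (Submonoid.powers g : Set B) (q : Set B) := by
    rw [Set.disjoint_left]
    rintro _ ⟨n, rfl⟩ hmem
    exact hgq (Ideal.IsPrime.mem_of_pow_mem ‹_› n hmem)
  exact normalAt_of_isLocalization (Submonoid.powers g) (h g hgs) q hdisj

/-- Normality ascends along étale maps. -/
theorem isNormalRing_of_etale (R S : Type u) [CommRing R] [CommRing S] [Algebra R S]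
    [Algebra.Etale R S] (hR : IsNormalRing R) : IsNormalRing S := by
  intro q hq
  haveI : q.LiesOver (q.under R) := ⟨rfl⟩
  obtain ⟨h1, h2⟩ := hR (q.under R)
  exact Groth.Agent.H20.isDomain_and_isIntegrallyClosed_localization_of_etale (q.under R) q

theorem isIntegrallyClosed_mvPolynomial_fin (n : ℕ) (R : Type u) [CommRing R] [IsDomain R]
    [IsIntegrallyClosed R] : IsIntegrallyClosed (MvPolynomial (Fin n) R) := by
  induction n with
  | zero => exact IsIntegrallyClosed.of_equiv (MvPolynomial.isEmptyAlgEquiv R (Fin 0)).symm.toRingEquiv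
  | succ n ih =>
    exact IsIntegrallyClosed.of_equiv (MvPolynomial.finSuccEquiv R n).symm.toRingEquiv

attribute [local instance] MvPolynomial.algebraMvPolynomial in
/-- Polynomial rings over normal rings are normal. -/
theorem isNormalRing_mvPolynomial (n : ℕ) (A : Type u) [CommRing A] (hA : IsNormalRing A) :
    IsNormalRing (MvPolynomial (Fin n) A) := by
  intro Q hQ
  set p : Ideal A := Q.comap (MvPolynomial.C) with hp
  haveI : p.IsPrime := Ideal.comap_isPrime _ Q
  obtain ⟨h1, h2⟩ := hA p
  haveI := isIntegrallyClosed_mvPolynomial_fin n (Localization.AtPrime p)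
  have hS : IsNormalRing (MvPolynomial (Fin n) (Localization.AtPrime p)) :=
    isNormalRing_of_isIntegrallyClosed _
  refine normalAt_of_isLocalization (p.primeCompl.map (MvPolynomial.C (σ := Fin n))) hS Q ?_
  rw [Set.disjoint_left]
  rintro _ ⟨a, ha, rfl⟩ hmem
  exact ha hmem

/-- Normality ascends along smooth maps. -/
theorem isNormalRing_of_smooth (A B : Type u) [CommRing A] [CommRing B] [Algebra A B]
    [Algebra.Smooth A B] (hA : IsNormalRing A) : IsNormalRing B := by
  obtain ⟨s, hs, hstd⟩ := Algebra.Smooth.exists_span_eq_top_isStandardSmooth A B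
  refine isNormalRing_of_span_eq_top s hs (fun g hg => ?_)
  obtain ⟨ι, σ, _, _, ⟨P⟩⟩ := (hstd g hg).out
  haveI : Algebra.IsStandardSmoothOfRelativeDimension P.dimension A (Localization.Away g) :=
    ⟨_, _, _, ‹_›, P, rfl⟩
  obtain ⟨φ, hφ⟩ := Algebra.IsStandardSmoothOfRelativeDimension.exists_etale_mvPolynomial
    P.dimension A (Localization.Away g)
  letI : Algebra (MvPolynomial (Fin P.dimension) A) (Localization.Away g) :=
    φ.toRingHom.toAlgebra
  haveI : Algebra.Etale (MvPolynomial (Fin P.dimension) A) (Localization.Away g) := hφ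
  exact isNormalRing_of_etale (MvPolynomial (Fin P.dimension) A) (Localization.Away g)
    (isNormalRing_mvPolynomial _ A hA)

/-- Normality descends along faithfully flat maps. -/
theorem isNormalRing_of_faithfullyFlat (A B : Type u) [CommRing A] [CommRing B] [Algebra A B]
    [Module.FaithfullyFlat A B] (hB : IsNormalRing B) : IsNormalRing A := by
  intro p hp
  obtain ⟨q, hq, hqp⟩ : ∃ q : Ideal B, q.IsPrime ∧ q.comap (algebraMap A B) = p := by
    obtain ⟨q, hq, hqp⟩ := Ideal.exists_isPrime_liesOver_of_faithfullyFlat (B := B) p
    exact ⟨q, hq, (hqp.over).symm⟩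
  subst hqp
  obtain ⟨h1, h2⟩ := hB q
  letI : Algebra (Localization.AtPrime (q.comap (algebraMap A B))) (Localization.AtPrime q) :=
    (Localization.localRingHom (q.comap (algebraMap A B)) q (algebraMap A B) rfl).toAlgebra
  haveI : IsLocalHom (algebraMap (Localization.AtPrime (q.comap (algebraMap A B)))
      (Localization.AtPrime q)) := by
    show IsLocalHom (Localization.localRingHom (q.comap (algebraMap A B)) q (algebraMap A B) rfl)
    infer_instance
  haveI : Module.Flat (Localization.AtPrime (q.comap (algebraMap A B))) (Localization.AtPrime q) := by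
    have hf : (algebraMap A B).Flat := RingHom.flat_algebraMap_iff.2 inferInstance
    exact RingHom.Flat.localRingHom hf q (q.comap (algebraMap A B)) rfl
  haveI : Module.FaithfullyFlat (Localization.AtPrime (q.comap (algebraMap A B)))
      (Localization.AtPrime q) := Module.FaithfullyFlat.of_flat_of_isLocalHom
  exact Groth.Agent.H20.isDomain_and_isIntegrallyClosed_of_faithfullyFlat
    (A := Localization.AtPrime (q.comap (algebraMap A B))) (B := Localization.AtPrime q)

end Groth.Agent.H47.SN
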