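import Mathlib
import Groth.Prelude.Def_EGA4b
import Groth.Agent.H47.NormalLoc
import Groth.Agent.H47.NormalColim
import Groth.Agent.H47.SmoothNormal
import Groth.Agent.H47.FSField

set_option autoImplicit false
set_option linter.unusedSectionVars false
set_option linter.style.haveILetI false
set_option linter.unusedVariables false
universe u

namespace Groth.Agent.H47.NSE

open TensorProduct EGA4

/-- A field containing a domain `D` is flat over `D`. -/
theorem flat_of_injective_field {D K : Type*} [CommRing D] [IsDomain D] [Field K] [Algebra D K]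
    (h : Function.Injective (algebraMap D K)) : Module.Flat D K := by
  letI : Algebra (FractionRing D) K := (IsFractionRing.lift h).toAlgebra
  haveI : IsScalarTower D (FractionRing D) K :=
    IsScalarTower.of_algebraMap_eq (fun x => (IsFractionRing.lift_algebraMap h x).symm)
  haveI : Module.Flat D (FractionRing D) := IsLocalization.flat _ (nonZeroDivisors D)
  exact Module.Flat.trans D (FractionRing D) K

section

variable (k : Type u) [Field k] (k' : Type u) [Field k'] [Algebra k k']

open IntermediateField.algebraAdjoinAdjoin in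
/-- Every finite subset of a separable field extension lies in (the image of) a smooth
`k`-domain. -/
theorem exists_smooth_domain_hom [Algebra.IsGeometricallyReduced k k'] (s : Finset k') :
    ∃ (D : Type u) (_ : CommRing D) (_ : IsDomain D) (_ : Algebra k D) (_ : Algebra.Smooth k D)
      (ι : D →ₐ[k] k'), Function.Injective ι ∧ ∀ x ∈ s, x ∈ ι.range := by
  classical
  set R0 : Subalgebra k k' := Algebra.adjoin k (s : Set k') with hR0
  set K0 : IntermediateField k k' := IntermediateField.adjoin k (s : Set k') with hK0
  haveI : Algebra.EssFiniteType k K0 :=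
    IntermediateField.essFiniteType_iff.2 (IntermediateField.fg_adjoin_of_finite s.finite_toSet)
  haveI : Algebra.IsGeometricallyReduced k K0 :=
    Algebra.IsGeometricallyReduced.of_injective K0.val K0.val.injective
  haveI : Algebra.FormallySmooth k K0 := formallySmooth_of_isGeometricallyReduced_field
  haveI : Algebra.FiniteType k R0 :=
    (Subalgebra.fg_iff_finiteType _).1 (Subalgebra.fg_adjoin_finset s)
  haveI : Algebra.FinitePresentation k R0 :=
    Algebra.FinitePresentation.of_finiteType.mp inferInstance
  have hloc : IsLocalization (⊥ : Ideal R0).primeCompl K0 := by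
    rw [Ideal.primeCompl_bot]; infer_instance
  let e : K0 ≃ₐ[R0] Localization.AtPrime (⊥ : Ideal R0) :=
    IsLocalization.algEquiv (⊥ : Ideal R0).primeCompl K0 _
  have hsm : Algebra.FormallySmooth k (Localization.AtPrime (⊥ : Ideal R0)) :=
    Algebra.FormallySmooth.of_equiv (e.restrictScalars k)
  haveI hsmAt : Algebra.IsSmoothAt k (⊥ : Ideal R0) := hsm
  obtain ⟨f, hf, hfs⟩ := Algebra.IsSmoothAt.exists_notMem_smooth k (⊥ : Ideal R0)
  have hf0 : f ≠ 0 := fun h => hf (h ▸ Ideal.zero_mem _)
  have hunit : IsUnit (R0.val f) := by
    apply IsUnit.mk0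
    intro h0
    exact hf0 (Subtype.ext h0)
  let ι : Localization.Away f →ₐ[k] k' := IsLocalization.Away.liftAlgHom (f := R0.val) f hunit
  haveI : IsDomain (Localization.Away f) :=
    IsLocalization.isDomain_localization (powers_le_nonZeroDivisors_of_noZeroDivisors hf0)
  refine ⟨Localization.Away f, inferInstance, inferInstance, inferInstance, hfs, ι, ?_, ?_⟩
  · show Function.Injective (IsLocalization.Away.lift f hunit)
    rw [IsLocalization.Away.lift, IsLocalization.lift_injective_iff]
    intro x y
    have h1 : Function.Injective (algebraMap R0 (Localization.Away f)) :=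
      IsLocalization.injective _ (powers_le_nonZeroDivisors_of_noZeroDivisors hf0)
    constructor
    · intro h
      rw [h1 h]
    · intro h
      have : x = y := Subtype.ext h
      rw [this]
  · intro x hx
    refine ⟨algebraMap R0 (Localization.Away f) ⟨x, Algebra.subset_adjoin hx⟩, ?_⟩
    show IsLocalization.Away.lift f hunit (algebraMap R0 (Localization.Away f) _) = x
    rw [IsLocalization.Away.lift_eq]
    rfl

variable (A : Type u) [CommRing A] [Algebra k A]

/-- Every element of `k' ⊗ A` comes from `D ⊗ A` as soon as `D` contains a suitable finite set. -/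
theorem exists_finset_range (t : k' ⊗[k] A) : ∃ s : Finset k',
    ∀ (D : Type u) [CommRing D] [Algebra k D] (ι : D →ₐ[k] k'), (∀ x ∈ s, x ∈ ι.range) →
      t ∈ (Algebra.TensorProduct.map ι (AlgHom.id k A)).range := by
  classical
  induction t using TensorProduct.induction_on with
  | zero => exact ⟨∅, fun D _ _ ι _ => Subalgebra.zero_mem _⟩
  | tmul x a =>
    refine ⟨{x}, fun D _ _ ι h => ?_⟩
    obtain ⟨d, hd⟩ := h x (by simp)
    have hd' : ι d = x := hd
    exact ⟨d ⊗ₜ a, by simp [hd']⟩
  | add t₁ t₂ h₁ h₂ =>
    obtain ⟨s₁, hs₁⟩ := h₁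
    obtain ⟨s₂, hs₂⟩ := h₂
    refine ⟨s₁ ∪ s₂, fun D _ _ ι h => ?_⟩
    exact Subalgebra.add_mem _ (hs₁ D ι (fun x hx => h x (Finset.mem_union_left _ hx)))
      (hs₂ D ι (fun x hx => h x (Finset.mem_union_right _ hx)))

/-- Base change of a normal ring along a separable (geometrically reduced) field extension is
normal. -/
theorem isNormalRing_tensor_of_isGeometricallyReduced [Algebra.IsGeometricallyReduced k k']
    (hA : IsNormalRing A) : IsNormalRing (k' ⊗[k] A) := by
  classical
  apply NC.isNormalRing_of_forall_finset
  intro F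
  choose S hS using exists_finset_range k k' A
  obtain ⟨D, _, _, _, hsm, ι, hinj, hmem⟩ := exists_smooth_domain_hom k k' (F.biUnion S)
  refine ⟨D ⊗[k] A, inferInstance, (Algebra.TensorProduct.map ι (AlgHom.id k A)).toRingHom,
    ?_, ?_, ?_, ?_⟩
  · -- flat
    letI : Algebra D k' := ι.toRingHom.toAlgebra
    haveI : IsScalarTower k D k' := IsScalarTower.of_algebraMap_eq (fun x => (ι.commutes x).symm)
    haveI : Module.Flat D k' := flat_of_injective_field hinj
    letI : Algebra (D ⊗[k] A) (k' ⊗[k] A) :=
      (Algebra.TensorProduct.map ι (AlgHom.id k A)).toRingHom.toAlgebra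
    haveI : IsScalarTower D (D ⊗[k] A) (k' ⊗[k] A) := IsScalarTower.of_algebraMap_eq (fun d => by
      show algebraMap D (k' ⊗[k] A) d =
        (Algebra.TensorProduct.map ι (AlgHom.id k A)) (algebraMap D (D ⊗[k] A) d)
      rw [Algebra.TensorProduct.algebraMap_apply, Algebra.TensorProduct.algebraMap_apply]
      simp
      rfl)
    have hpush : Algebra.IsPushout D k' (D ⊗[k] A) (k' ⊗[k] A) :=
      Algebra.IsPushout.tensorProduct_tensorProduct k A D k' (by
        ext a
        show (Algebra.TensorProduct.map ι (AlgHom.id k A)) ((1 : D) ⊗ₜ[k] a) = (1 : k') ⊗ₜ[k] a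
        simp)
    show Module.Flat (D ⊗[k] A) (k' ⊗[k] A)
    exact Module.Flat.isBaseChange (R := D) (S := D ⊗[k] A) (M := k') (N := k' ⊗[k] A)
      hpush.symm.out
  · -- injective
    have : Function.Injective (LinearMap.rTensor A ι.toLinearMap) :=
      Module.Flat.rTensor_preserves_injective_linearMap _ hinj
    intro x y hxy
    apply this
    have h1 : ∀ z : D ⊗[k] A, LinearMap.rTensor A ι.toLinearMap z =
        (Algebra.TensorProduct.map ι (AlgHom.id k A)) z := by
      intro z
      induction z using TensorProduct.induction_on with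
      | zero => simp
      | tmul d a => simp
      | add z₁ z₂ h₁ h₂ => rw [map_add, map_add, h₁, h₂]
    rw [h1, h1]
    exact hxy
  · -- normal
    haveI : Algebra.Smooth A (A ⊗[k] D) := inferInstance
    have h1 : IsNormalRing (A ⊗[k] D) := SN.isNormalRing_of_smooth A (A ⊗[k] D) hA
    exact isNormalRing_of_ringEquiv (Algebra.TensorProduct.comm k A D).toRingEquiv h1
  · intro t ht
    exact hS t D ι (fun x hx => hmem x (Finset.mem_biUnion.2 ⟨t, ht, hx⟩))

end

end Groth.Agent.H47.NSE
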