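import Mathlib

/-!
# Reducedness ascends along étale and smooth ring maps
-/

set_option autoImplicit false
set_option linter.unusedSectionVars false
set_option linter.style.haveILetI false
set_option linter.unusedVariables false
universe u v

namespace Groth.Agent.H47

open TensorProduct

/-- A formally unramified algebra essentially of finite type over a product of fields is reduced. -/
theorem isReduced_of_unramified_pi_field {ι : Type*} (K : ι → Type*) [∀ i, Field (K i)]
    (S : Type*) [CommRing S] [Algebra (∀ i, K i) S] [Algebra.EssFiniteType (∀ i, K i) S]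
    [Algebra.FormallyUnramified (∀ i, K i) S] : IsReduced S := by
  classical
  refine ⟨fun x hx => ?_⟩
  by_contra hx0
  -- the annihilator of `x`
  let I : Ideal (∀ i, K i) := LinearMap.ker (LinearMap.toSpanSingleton (∀ i, K i) S x)
  have hI : ∀ b, b ∈ I ↔ b • x = 0 := fun b => by
    simp [I, LinearMap.mem_ker, LinearMap.toSpanSingleton_apply]
  have hIne : I ≠ ⊤ := by
    intro h
    have : (1 : ∀ i, K i) ∈ I := h ▸ Submodule.mem_top
    rw [hI, one_smul] at this
    exact hx0 this
  obtain ⟨m, hm, hIm⟩ := Ideal.exists_le_maximal I hIne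
  have hrad := Algebra.FormallyUnramified.isRadical_map_isMaximal (∀ i, K i) S m
  have hxm : x ∈ m.map (algebraMap (∀ i, K i) S) := by
    obtain ⟨n, hn⟩ := hx
    exact hrad ⟨n, by rw [hn]; exact Ideal.zero_mem _⟩
  -- every element of `m S` is fixed by some element of `m`
  have key : ∀ y ∈ m.map (algebraMap (∀ i, K i) S), ∃ e ∈ m, e • y = y := by
    intro y hy
    refine Submodule.span_induction ?_ ?_ ?_ ?_ hy
    · rintro _ ⟨b, hb, rfl⟩
      refine ⟨b * (fun i => (b i)⁻¹), m.mul_mem_right _ hb, ?_⟩
      rw [Algebra.smul_def, ← map_mul]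
      congr 1
      funext i
      simp only [Pi.mul_apply]
      rw [mul_comm (b i) _, mul_assoc, mul_comm, mul_assoc]
      by_cases hbi : b i = 0
      · simp [hbi]
      · field_simp
    · exact ⟨0, m.zero_mem, by simp⟩
    · rintro y₁ y₂ _ _ ⟨e₁, he₁, h₁⟩ ⟨e₂, he₂, h₂⟩
      refine ⟨e₁ + e₂ - e₁ * e₂, m.sub_mem (m.add_mem he₁ he₂) (m.mul_mem_left _ he₂), ?_⟩
      have a : (e₁ * e₂) • y₁ = e₂ • y₁ := by rw [mul_comm, mul_smul, h₁]
      have b : (e₁ * e₂) • y₂ = e₁ • y₂ := by rw [mul_smul, h₂]
      rw [smul_add, sub_smul, sub_smul, add_smul, add_smul, a, b, h₁, h₂]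
      abel
    · rintro s y _ ⟨e, he, h⟩
      refine ⟨e, he, ?_⟩
      rw [smul_eq_mul, ← mul_smul_comm, h]
  obtain ⟨e, he, hex⟩ := key x hxm
  have h1e : (1 - e) ∈ I := by
    rw [hI, sub_smul, one_smul, hex, sub_self]
  have : (1 : ∀ i, K i) ∈ m := by
    have := m.add_mem (hIm h1e) he
    rwa [sub_add_cancel] at this
  exact hm.ne_top ((Ideal.eq_top_iff_one _).mpr this)

/-- Reducedness ascends along étale ring maps. -/
theorem isReduced_of_etale (R : Type u) [CommRing R] (S : Type v) [CommRing S] [Algebra R S]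
    [Algebra.Etale R S] [IsReduced R] : IsReduced S := by
  let Pk := ∀ p : PrimeSpectrum R, p.asIdeal.ResidueField
  have hinj : Function.Injective (algebraMap R Pk) := by
    rw [injective_iff_map_eq_zero]
    intro r hr
    have hmem : r ∈ nilradical R := by
      rw [nilradical_eq_sInf, Ideal.mem_sInf]
      intro p hp
      have : p.IsPrime := hp
      have := congrFun hr (⟨p, hp⟩ : PrimeSpectrum R)
      exact Ideal.algebraMap_residueField_eq_zero.mp this
    rw [nilradical_eq_zero] at hmem
    exact hmem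
  haveI : IsReduced (Pk ⊗[R] S) :=
    isReduced_of_unramified_pi_field (fun p : PrimeSpectrum R => p.asIdeal.ResidueField) (Pk ⊗[R] S)
  exact isReduced_of_injective (Algebra.TensorProduct.includeRight : S →ₐ[R] Pk ⊗[R] S)
    (Algebra.TensorProduct.includeRight_injective hinj)

/-- A ring is reduced if it is so on a cover by basic opens. -/
theorem isReduced_of_span_eq_top {S : Type*} [CommRing S] (s : Set S) (hs : Ideal.span s = ⊤)
    (h : ∀ g ∈ s, IsReduced (Localization.Away g)) : IsReduced S := by
  refine ⟨fun x hx => ?_⟩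
  by_contra hx0
  let I : Ideal S := LinearMap.ker (LinearMap.toSpanSingleton S S x)
  have hI : ∀ b, b ∈ I ↔ b * x = 0 := fun b => by
    simp [I, LinearMap.mem_ker, LinearMap.toSpanSingleton_apply]
  have hIne : I ≠ ⊤ := by
    intro h
    have : (1 : S) ∈ I := h ▸ Submodule.mem_top
    rw [hI, one_mul] at this
    exact hx0 this
  obtain ⟨m, hm, hIm⟩ := Ideal.exists_le_maximal I hIne
  have hsm : Ideal.span s ≤ m := by
    rw [Ideal.span_le]
    intro g hg
    haveI := h g hg
    have h0 : algebraMap S (Localization.Away g) x = 0 := (hx.map _).eq_zero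
    obtain ⟨⟨_, n, rfl⟩, hn⟩ := (IsLocalization.map_eq_zero_iff (Submonoid.powers g) _ x).mp h0
    have : g ^ n ∈ m := hIm ((hI _).mpr hn)
    exact hm.isPrime.mem_of_pow_mem n this
  rw [hs] at hsm
  exact hm.ne_top (top_le_iff.mp hsm)

/-- Reducedness ascends along smooth ring maps. -/
theorem isReduced_of_smooth (R : Type u) [CommRing R] (S : Type u) [CommRing S] [Algebra R S]
    [Algebra.Smooth R S] [IsReduced R] : IsReduced S := by
  obtain ⟨s, hs, hstd⟩ := Algebra.Smooth.exists_span_eq_top_isStandardSmooth R S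
  refine isReduced_of_span_eq_top s hs (fun g hg => ?_)
  obtain ⟨ι, σ, _, _, ⟨P⟩⟩ := (hstd g hg).out
  haveI : Algebra.IsStandardSmoothOfRelativeDimension P.dimension R (Localization.Away g) :=
    ⟨_, _, _, ‹_›, P, rfl⟩
  obtain ⟨φ, hφ⟩ := Algebra.IsStandardSmoothOfRelativeDimension.exists_etale_mvPolynomial
    P.dimension R (Localization.Away g)
  letI : Algebra (MvPolynomial (Fin P.dimension) R) (Localization.Away g) :=
    φ.toRingHom.toAlgebra
  haveI : Algebra.Etale (MvPolynomial (Fin P.dimension) R) (Localization.Away g) := hφ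
  exact isReduced_of_etale (MvPolynomial (Fin P.dimension) R) (Localization.Away g)

end Groth.Agent.H47
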