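import Mathlib

set_option autoImplicit false
set_option linter.unusedSectionVars false
set_option linter.style.haveILetI false
set_option linter.unusedVariables false
universe u

namespace Groth.Agent.H47.RQL

variable {T : Type u} [CommRing T]

/-- If every element of `I` is killed by an element outside the prime `P = Q ∩ T` then
`T_P → (T/I)_Q` is bijective. -/
theorem bijective_localRingHom_quot (I : Ideal T) (Q : Ideal (T ⧸ I)) [Q.IsPrime]
    (hI : ∀ x ∈ I, ∃ s, s ∉ Q.comap (Ideal.Quotient.mk I) ∧ s * x = 0) :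
    Function.Bijective (Localization.localRingHom (Q.comap (Ideal.Quotient.mk I)) Q
      (Ideal.Quotient.mk I) rfl) := by
  set P := Q.comap (Ideal.Quotient.mk I) with hP
  constructor
  · rw [injective_iff_map_eq_zero]
    intro z hz
    obtain ⟨t, s, rfl⟩ := IsLocalization.exists_mk'_eq P.primeCompl z
    rw [Localization.localRingHom_mk', IsLocalization.mk'_eq_zero_iff] at hz
    obtain ⟨⟨ubar, hubar⟩, hu⟩ := hz
    obtain ⟨u, rfl⟩ := Ideal.Quotient.mk_surjective ubar
    have huP : u ∉ P := hubar
    have hut : u * t ∈ I := by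
      rw [← Ideal.Quotient.eq_zero_iff_mem, map_mul]
      exact hu
    obtain ⟨s', hs', hs'0⟩ := hI _ hut
    rw [IsLocalization.mk'_eq_zero_iff]
    refine ⟨⟨s' * u, P.primeCompl.mul_mem hs' huP⟩, ?_⟩
    change s' * u * t = 0
    rw [mul_assoc]
    exact hs'0
  · intro z
    obtain ⟨tbar, ⟨sbar, hsbar⟩, rfl⟩ := IsLocalization.exists_mk'_eq Q.primeCompl z
    obtain ⟨t, rfl⟩ := Ideal.Quotient.mk_surjective tbar
    obtain ⟨s, rfl⟩ := Ideal.Quotient.mk_surjective sbar
    have hs : s ∈ P.primeCompl := hsbar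
    exact ⟨IsLocalization.mk' _ t ⟨s, hs⟩, Localization.localRingHom_mk' _ _ _ _ _ _⟩

/-- Quotient version: `T` regular ⇒ `T/I` regular, when `I` dies in the local rings at primes
containing it. -/
theorem isRegularRing_quot [IsRegularRing T] (I : Ideal T)
    (hI : ∀ (P : Ideal T) [P.IsPrime], I ≤ P → ∀ x ∈ I, ∃ s, s ∉ P ∧ s * x = 0) :
    IsRegularRing (T ⧸ I) := by
  haveI : IsNoetherianRing (T ⧸ I) := inferInstance
  rw [isRegularRing_iff]
  intro Q hQ
  have hle : I ≤ Q.comap (Ideal.Quotient.mk I) := by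
    intro x hx
    rw [Ideal.mem_comap, Ideal.Quotient.eq_zero_iff_mem.2 hx]
    exact Q.zero_mem
  have hbij := bijective_localRingHom_quot I Q (hI _ hle)
  exact IsRegularLocalRing.of_ringEquiv (RingEquiv.ofBijective _ hbij)

/-- Local version: `T_P` is regular if `(T/I)` is regular for some `I ≤ P` dying in `T_P`. -/
theorem isRegularLocalRing_of_quot (I : Ideal T) [IsRegularRing (T ⧸ I)] (P : Ideal T) [P.IsPrime]
    (hIP : I ≤ P) (hI : ∀ x ∈ I, ∃ s, s ∉ P ∧ s * x = 0) :
    IsRegularLocalRing (Localization.AtPrime P) := by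
  set Q : Ideal (T ⧸ I) := P.map (Ideal.Quotient.mk I) with hQ
  haveI : Q.IsPrime := Ideal.map_isPrime_of_surjective Ideal.Quotient.mk_surjective (by
    rw [Ideal.mk_ker]; exact hIP)
  have hcomap : Q.comap (Ideal.Quotient.mk I) = P := by
    rw [hQ, Ideal.comap_map_of_surjective _ Ideal.Quotient.mk_surjective, ← RingHom.ker_eq_comap_bot,
      Ideal.mk_ker, sup_eq_left.2 hIP]
  have hbij := bijective_localRingHom_quot I Q (by rw [hcomap]; exact hI)
  have e := RingEquiv.ofBijective _ hbij
  have h1 : IsRegularLocalRing (Localization.AtPrime (Q.comap (Ideal.Quotient.mk I))) :=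
    IsRegularLocalRing.of_ringEquiv e.symm
  have key : ∀ (P' : Ideal T) [P'.IsPrime], P' = P →
      IsRegularLocalRing (Localization.AtPrime P') → IsRegularLocalRing (Localization.AtPrime P) := by
    intro P' _ h
    subst h
    exact id
  exact key _ hcomap h1

end Groth.Agent.H47.RQL
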