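import Mathlib
import Groth.Prelude.Def_Found
import Groth.Agent.H47.RegQuotLoc
import Groth.Agent.H47.FSSep

set_option autoImplicit false
set_option linter.unusedSectionVars false
set_option linter.style.haveILetI false
set_option linter.unusedVariables false
universe u

namespace Groth.Agent.H47.GRS

open TensorProduct

section Kill

variable {C : Type u} [CommRing C]

/-- In a reduced Artinian ring, elements of a prime ideal are killed by elements outside it. -/
theorem exists_kill_of_reduced_artinian [IsArtinianRing C] [IsReduced C] (m : Ideal C)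
    [m.IsPrime] (x : C) (hx : x ∈ m) : ∃ s, s ∉ m ∧ s * x = 0 := by
  have hf : IsField (Localization.AtPrime m) :=
    IsArtinianRing.isField_of_isReduced_of_isLocalRing _
  letI := hf.toField
  have h0 : algebraMap C (Localization.AtPrime m) x = 0 := by
    by_contra hne
    have hu : IsUnit (algebraMap C (Localization.AtPrime m) x) := IsUnit.mk0 _ hne
    have := (IsLocalization.AtPrime.isUnit_to_map_iff (Localization.AtPrime m) m x).1 hu
    exact this hx
  obtain ⟨⟨s, hs⟩, hs0⟩ := (IsLocalization.map_eq_zero_iff m.primeCompl _ x).1 h0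
  exact ⟨s, hs, hs0⟩

variable {T : Type u} [CommRing T] [Algebra C T]

/-- Consequently the extension of `m = P ∩ C` dies in `T_P`. -/
theorem exists_kill_map [IsArtinianRing C] [IsReduced C] (P : Ideal T) [P.IsPrime]
    (m : Ideal C) (hm : m ≤ P.comap (algebraMap C T)) (hm' : ∀ x ∈ m, ∃ s, s ∉ P.comap (algebraMap C T) ∧ s * x = 0)
    (y : T) (hy : y ∈ m.map (algebraMap C T)) : ∃ s, s ∉ P ∧ s * y = 0 := by
  unfold Ideal.map at hy
  induction hy using Submodule.span_induction with
  | mem z hz =>
    obtain ⟨x, hx, rfl⟩ := hz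
    obtain ⟨s, hs, hs0⟩ := hm' x hx
    refine ⟨algebraMap C T s, hs, ?_⟩
    rw [← map_mul, hs0, map_zero]
  | zero => exact ⟨1, fun h => (Ideal.IsPrime.ne_top ‹_›) ((Ideal.eq_top_iff_one _).2 h), by simp⟩
  | add a b _ _ ha hb =>
    obtain ⟨s, hs, hs0⟩ := ha
    obtain ⟨t, ht, ht0⟩ := hb
    refine ⟨s * t, fun h => ?_, ?_⟩
    · rcases Ideal.IsPrime.mem_or_mem ‹_› h with h | h
      · exact hs h
      · exact ht h
    · rw [mul_add, mul_assoc, mul_comm t a, ← mul_assoc, hs0, zero_mul, mul_assoc, ht0, mul_zero,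
        add_zero]
  | smul c a _ ha =>
    obtain ⟨s, hs, hs0⟩ := ha
    refine ⟨s, hs, ?_⟩
    rw [smul_eq_mul, mul_left_comm, hs0, mul_zero]

end Kill

section Core

variable (k' : Type u) [Field k'] (C A : Type u) [CommRing C] [Algebra k' C] [Module.Finite k' C]
  [IsReduced C] [CommRing A] [Algebra k' A] [IsNoetherianRing A]

theorem isNoetherianRing_tensor : IsNoetherianRing (C ⊗[k'] A) := by
  haveI : IsNoetherianRing (A ⊗[k'] C) := IsNoetherianRing.of_finite A _
  exact isNoetherianRing_of_ringEquiv (A ⊗[k'] C) (Algebra.TensorProduct.comm k' A C).toRingEquiv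

theorem isRegularRing_tensor_of_forall_maximal
    (h : ∀ (m : Ideal C) [m.IsMaximal], IsRegularRing ((C ⧸ m) ⊗[k'] A)) :
    IsRegularRing (C ⊗[k'] A) := by
  haveI : IsArtinianRing C := IsArtinianRing.of_finite k' C
  haveI := isNoetherianRing_tensor k' C A
  rw [isRegularRing_iff]
  intro P hP
  set m := P.comap (algebraMap C (C ⊗[k'] A)) with hm
  haveI : m.IsPrime := Ideal.comap_isPrime _ P
  haveI : m.IsMaximal := IsArtinianRing.isMaximal_of_isPrime m
  haveI := h m
  haveI : IsRegularRing ((C ⊗[k'] A) ⧸ m.map (algebraMap C (C ⊗[k'] A))) :=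
    IsRegularRing.of_ringEquiv
      (Algebra.TensorProduct.quotientTensorEquiv (R := k') k' A C m).toRingEquiv
  exact RQL.isRegularLocalRing_of_quot (m.map (algebraMap C (C ⊗[k'] A))) P
    (Ideal.map_le_iff_le_comap.2 le_rfl)
    (exists_kill_map P m le_rfl (fun x hx => exists_kill_of_reduced_artinian m x hx))

theorem isRegularRing_quot_tensor [IsRegularRing (C ⊗[k'] A)] (m : Ideal C) [m.IsMaximal] :
    IsRegularRing ((C ⧸ m) ⊗[k'] A) := by
  haveI : IsArtinianRing C := IsArtinianRing.of_finite k' C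
  haveI : IsRegularRing ((C ⊗[k'] A) ⧸ m.map (algebraMap C (C ⊗[k'] A))) := by
    apply RQL.isRegularRing_quot
    intro P hP hle x hx
    have hm : m ≤ P.comap (algebraMap C (C ⊗[k'] A)) := Ideal.map_le_iff_le_comap.1 hle
    haveI : (P.comap (algebraMap C (C ⊗[k'] A))).IsPrime := Ideal.comap_isPrime _ P
    exact exists_kill_map P m hm
      (fun y hy => exists_kill_of_reduced_artinian _ y (hm hy)) x hx
  exact IsRegularRing.of_ringEquiv
    (Algebra.TensorProduct.quotientTensorEquiv (R := k') k' A C m).toRingEquiv.symm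

end Core

section Main

variable (k : Type u) [Field k] (k' : Type u) [Field k'] [Algebra k k'] [Algebra.IsSeparable k k']

theorem isGeometricallyReduced_of_isSeparable : Algebra.IsGeometricallyReduced k k' := by
  haveI : Algebra.FormallyEtale k k' := Algebra.FormallyEtale.of_isSeparable k k'
  exact isGeometricallyReduced_of_formallySmooth_field

/-- `k' ⊗[k] K` is reduced for `K/k` finite. -/
theorem isReduced_tensor_finite (K : Type u) [Field K] [Algebra k K] [Module.Finite k K] :
    IsReduced (k' ⊗[k] K) := by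
  haveI := isGeometricallyReduced_of_isSeparable k k'
  haveI : IsReduced (K ⊗[k] k') := inferInstance
  exact isReduced_of_injective (Algebra.TensorProduct.comm k k' K : k' ⊗[k] K →+* K ⊗[k] k')
    (Algebra.TensorProduct.comm k k' K).injective

variable (A : Type u) [CommRing A] [Algebra k' A] [Algebra k A] [IsScalarTower k k' A]

/-- `(k' ⊗[k] K) ⊗[k'] A ≃ K ⊗[k] A`. -/
noncomputable def tensorEquiv (K : Type u) [Field K] [Algebra k K] :
    ((k' ⊗[k] K) ⊗[k'] A) ≃+* (K ⊗[k] A) :=
  (Algebra.TensorProduct.comm k' (k' ⊗[k] K) A).toRingEquiv.trans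
    ((Algebra.TensorProduct.cancelBaseChange k k' k' A K).toRingEquiv.trans
      (Algebra.TensorProduct.comm k A K).toRingEquiv)

variable [IsNoetherianRing A]

theorem isGeometricallyRegular_of_isSeparable_down
    (h : CAlg.IsGeometricallyRegular k' A) : CAlg.IsGeometricallyRegular k A := by
  intro K _ _ hfin
  haveI : Module.Finite k K := hfin
  haveI : IsReduced (k' ⊗[k] K) := isReduced_tensor_finite k k' K
  haveI : IsRegularRing ((k' ⊗[k] K) ⊗[k'] A) := by
    apply isRegularRing_tensor_of_forall_maximal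
    intro m hm
    letI : Field ((k' ⊗[k] K) ⧸ m) := Ideal.Quotient.field m
    exact h ((k' ⊗[k] K) ⧸ m) inferInstance
  exact IsRegularRing.of_ringEquiv (tensorEquiv k k' A K)

theorem isRegularRing_tensor_of_surjective
    (h : CAlg.IsGeometricallyRegular k A) (K' : Type u) [Field K'] [Algebra k' K'] [Algebra k K']
    [IsScalarTower k k' K'] (K₁ : Type u) [Field K₁] [Algebra k K₁] [Module.Finite k K₁]
    (g : K₁ →ₐ[k] K')
    (hμ : Function.Surjective (Algebra.TensorProduct.lift (Algebra.ofId k' K') g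
      (fun _ _ => Commute.all _ _))) :
    IsRegularRing (K' ⊗[k'] A) := by
  haveI : IsReduced (k' ⊗[k] K₁) := isReduced_tensor_finite k k' K₁
  set μ : (k' ⊗[k] K₁) →ₐ[k'] K' :=
    Algebra.TensorProduct.lift (Algebra.ofId k' K') g (fun _ _ => Commute.all _ _) with hμdef
  haveI : (RingHom.ker μ).IsMaximal := RingHom.ker_isMaximal_of_surjective μ hμ
  have e : ((k' ⊗[k] K₁) ⧸ RingHom.ker μ) ≃ₐ[k'] K' := Ideal.quotientKerAlgEquivOfSurjective hμ
  haveI : IsRegularRing (K₁ ⊗[k] A) := h K₁ inferInstance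
  haveI : IsRegularRing ((k' ⊗[k] K₁) ⊗[k'] A) :=
    IsRegularRing.of_ringEquiv (tensorEquiv k k' A K₁).symm
  haveI := isRegularRing_quot_tensor k' (k' ⊗[k] K₁) A (RingHom.ker μ)
  have e2 : (((k' ⊗[k] K₁) ⧸ RingHom.ker μ) ⊗[k'] A) ≃+* (K' ⊗[k'] A) :=
    (Algebra.TensorProduct.congr e (AlgEquiv.refl : A ≃ₐ[k'] A)).toRingEquiv
  exact IsRegularRing.of_ringEquiv (R := ((k' ⊗[k] K₁) ⧸ RingHom.ker μ) ⊗[k'] A) e2

theorem isGeometricallyRegular_of_isSeparable_up
    (h : CAlg.IsGeometricallyRegular k A) : CAlg.IsGeometricallyRegular k' A := by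
  classical
  intro K' _ _ hfin
  haveI : Module.Finite k' K' := hfin
  letI : Algebra k K' := ((algebraMap k' K').comp (algebraMap k k')).toAlgebra
  haveI : IsScalarTower k k' K' := IsScalarTower.of_algebraMap_eq (fun _ => rfl)
  haveI : Algebra.IsAlgebraic k k' := Algebra.IsSeparable.isAlgebraic k k'
  haveI : Algebra.IsAlgebraic k' K' := Algebra.IsAlgebraic.of_finite k' K'
  haveI : Algebra.IsAlgebraic k K' := Algebra.IsAlgebraic.trans k k' K'
  let b := Module.finBasis k' K'
  let K₁ : IntermediateField k K' := IntermediateField.adjoin k (Set.range b)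
  haveI : FiniteDimensional k K₁ :=
    IntermediateField.finiteDimensional_adjoin (fun x _ => Algebra.IsIntegral.isIntegral x)
  refine isRegularRing_tensor_of_surjective k k' A h K' K₁ K₁.val ?_
  intro y
  refine ⟨∑ i, (b.repr y i) ⊗ₜ[k] (⟨b i, IntermediateField.subset_adjoin k _ ⟨i, rfl⟩⟩ : K₁), ?_⟩
  rw [map_sum]
  conv_rhs => rw [← b.sum_repr y]
  refine Finset.sum_congr rfl (fun i _ => ?_)
  rw [Algebra.TensorProduct.lift_tmul, Algebra.smul_def]
  rfl

theorem isGeometricallyRegular_iff_of_isSeparable :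
    CAlg.IsGeometricallyRegular k A ↔ CAlg.IsGeometricallyRegular k' A :=
  ⟨isGeometricallyRegular_of_isSeparable_up k k' A,
   isGeometricallyRegular_of_isSeparable_down k k' A⟩

end Main

end Groth.Agent.H47.GRS
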