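import Mathlib
import Groth.Agent.H47.RegSmoothField
import Groth.Agent.H47.FSSep

set_option autoImplicit false
set_option linter.unusedSectionVars false
set_option linter.style.haveILetI false
set_option linter.unusedVariables false
universe u

namespace Groth.Agent.H47.SLF

open AlgebraicGeometry CategoryTheory

/-- Over a perfect field, a point of a scheme locally of finite presentation is in the smooth
locus iff its local ring is regular. -/
theorem mem_smoothLocus_iff_isRegularLocalRing_of_perfectField (k : Type u) [Field k]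
    [PerfectField k] {X : Scheme.{u}} (f : X ⟶ Spec (CommRingCat.of k))
    [LocallyOfFinitePresentation f] (x : X) :
    x ∈ f.smoothLocus ↔ IsRegularLocalRing (X.presheaf.stalk x) := by
  obtain ⟨_, ⟨V, hV, rfl⟩, hxV, -⟩ :=
    X.isBasis_affineOpens.exists_subset_of_mem_open (Set.mem_univ x) isOpen_univ
  have hU : IsAffineOpen (⊤ : (Spec (CommRingCat.of k)).Opens) := isAffineOpen_top _
  have hVU : V ≤ f ⁻¹ᵁ ⊤ := le_top
  have hfp := f.finitePresentation_appLE hU hV hVU
  rw [Scheme.Hom.mem_smoothLocus, formallySmooth_stalkMap_iff ⊤ hU V hV hVU hxV]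
  letI := (f.appLE ⊤ V hVU).hom.toAlgebra
  -- the base ring is a perfect field
  let e : k ≃+* Γ(Spec (CommRingCat.of k), ⊤) :=
    (Scheme.ΓSpecIso (CommRingCat.of k)).symm.commRingCatIsoToRingEquiv
  letI : Field Γ(Spec (CommRingCat.of k), ⊤) := (e.symm.isField (Field.toIsField k)).toField
  letI : Algebra k Γ(Spec (CommRingCat.of k), ⊤) := e.toRingHom.toAlgebra
  let eₐ : k ≃ₐ[k] Γ(Spec (CommRingCat.of k), ⊤) := AlgEquiv.ofRingEquiv (f := e) (fun _ => rfl)
  haveI : Algebra.IsAlgebraic k Γ(Spec (CommRingCat.of k), ⊤) :=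
    Algebra.IsAlgebraic.of_injective eₐ.symm.toAlgHom eₐ.symm.injective
  haveI : PerfectField Γ(Spec (CommRingCat.of k), ⊤) :=
    Algebra.IsAlgebraic.perfectField (K := k) (L := Γ(Spec (CommRingCat.of k), ⊤))
  haveI : Algebra.FinitePresentation Γ(Spec (CommRingCat.of k), ⊤) Γ(X, V) := hfp
  haveI : Algebra.FiniteType Γ(Spec (CommRingCat.of k), ⊤) Γ(X, V) := inferInstance
  set q := (hV.primeIdealOf ⟨x, hxV⟩).asIdeal with hq
  haveI : Algebra.FormallySmooth Γ(Spec (CommRingCat.of k), ⊤) q.ResidueField :=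
    formallySmooth_of_perfectField_field
  haveI : Algebra.IsGeometricallyReduced Γ(Spec (CommRingCat.of k), ⊤) q.ResidueField :=
    isGeometricallyReduced_of_formallySmooth_field
  show Algebra.IsSmoothAt Γ(Spec (CommRingCat.of k), ⊤) q ↔ _
  rw [RSF.isSmoothAt_iff_isRegularLocalRing]
  letI := X.presheaf.algebra_section_stalk ⟨x, hxV⟩
  haveI := hV.isLocalization_stalk ⟨x, hxV⟩
  let e2 : X.presheaf.stalk x ≃+* Localization.AtPrime q :=
    (IsLocalization.algEquiv q.primeCompl (X.presheaf.stalk x) (Localization.AtPrime q)).toRingEquiv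
  exact ⟨fun h => IsRegularLocalRing.of_ringEquiv e2.symm,
    fun h => IsRegularLocalRing.of_ringEquiv e2⟩

end Groth.Agent.H47.SLF
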