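import Mathlib
import Groth.Agent.H61.PSBasic
import Groth.Agent.Lead.RegularLocal

/-!
# Power series rings over a local ring with principal maximal ideal

`T = Λ[[X_1..X_N]]` for a Noetherian local ring `Λ` with `𝔪_Λ = (π)`: generators of the maximal
ideal, Krull dimension, regularity, and regular quotients by part of the generators.
-/

set_option autoImplicit false
universe u

namespace Groth.Agent.H47.PSReg

open IsLocalRing MvPowerSeries

section general

variable {Λ : Type u} [CommRing Λ]

theorem mem_span_X_of_constantCoeff_eq_zero {σ : Type*} [Finite σ] (f : MvPowerSeries σ Λ)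
    (h : constantCoeff f = 0) : f ∈ Ideal.span (Set.range (X : σ → MvPowerSeries σ Λ)) := by
  have := Groth.Agent.H61.mem_span_X_pow_of_coeff_eq_zero (σ := σ) (R := Λ) 1 f (by
    intro α hα
    have : α.degree = 0 := by omega
    rw [Finsupp.degree_eq_zero_iff] at this
    subst this
    exact h)
  rwa [pow_one] at this

theorem le_ringKrullDim (N : ℕ) :
    ringKrullDim Λ + N ≤ ringKrullDim (MvPowerSeries (Fin N) Λ) := by
  induction N with
  | zero =>
    rw [Nat.cast_zero, add_zero,
      ringKrullDim_eq_of_ringEquiv (MvPowerSeries.isEmptyEquiv (Fin 0) Λ).toRingEquiv]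
  | succ n ih =>
    rw [ringKrullDim_eq_of_ringEquiv (MvPowerSeries.finSuccEquiv Λ n).toRingEquiv]
    refine le_trans ?_ ringKrullDim_succ_le_ringKrullDim_powerseries
    rw [Nat.cast_add, Nat.cast_one, ← add_assoc]
    exact add_le_add_left ih 1

variable [IsLocalRing Λ]

theorem X_mem_maximalIdeal {σ : Type*} (i : σ) :
    (X i : MvPowerSeries σ Λ) ∈ maximalIdeal (MvPowerSeries σ Λ) := by
  rw [mem_maximalIdeal, mem_nonunits_iff, MvPowerSeries.isUnit_iff_constantCoeff, constantCoeff_X]
  exact not_isUnit_zero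

theorem maximalIdeal_eq {σ : Type*} [Finite σ] (π : Λ) (hπ : maximalIdeal Λ = Ideal.span {π}) :
    maximalIdeal (MvPowerSeries σ Λ) =
      Ideal.span (insert (C π) (Set.range (X : σ → MvPowerSeries σ Λ))) := by
  apply le_antisymm
  · intro f hf
    have h0 : constantCoeff f ∈ maximalIdeal Λ := by
      rw [mem_maximalIdeal, mem_nonunits_iff] at hf ⊢
      rwa [MvPowerSeries.isUnit_iff_constantCoeff] at hf
    rw [hπ, Ideal.mem_span_singleton] at h0
    obtain ⟨c, hc⟩ := h0
    have h1 : f - C π * C c ∈ Ideal.span (Set.range (X : σ → MvPowerSeries σ Λ)) := by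
      apply mem_span_X_of_constantCoeff_eq_zero
      rw [map_sub, map_mul, constantCoeff_C, constantCoeff_C, hc, sub_self]
    have h2 : f = C π * C c + (f - C π * C c) := by ring
    rw [h2]
    refine Ideal.add_mem _ (Ideal.mul_mem_right _ _ (Ideal.subset_span (Set.mem_insert _ _))) ?_
    exact Ideal.span_mono (Set.subset_insert _ _) h1
  · rw [Ideal.span_le]
    intro g hg
    rcases hg with rfl | ⟨i, rfl⟩
    · rw [SetLike.mem_coe, mem_maximalIdeal, mem_nonunits_iff,
        MvPowerSeries.isUnit_iff_constantCoeff, constantCoeff_C]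
      have : π ∈ maximalIdeal Λ := hπ ▸ Ideal.mem_span_singleton_self π
      exact this
    · rw [SetLike.mem_coe, mem_maximalIdeal, mem_nonunits_iff,
        MvPowerSeries.isUnit_iff_constantCoeff, constantCoeff_X]
      exact not_isUnit_zero

end general

section quot

/-- Quotient of a Noetherian local ring by part of a system of generators of the maximal ideal
of the right length: regular of the expected dimension. -/
theorem quotient_regular {T : Type u} [CommRing T] [IsLocalRing T] [IsNoetherianRing T]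
    (I : Ideal T) (t u : Finset T) (a b : ℕ) (hI : I = Ideal.span (t : Set T))
    (ha : t.card ≤ a) (hb : u.card ≤ b)
    (hm : maximalIdeal T = I ⊔ Ideal.span (u : Set T))
    (hdim : ((a + b : ℕ) : WithBot ℕ∞) ≤ ringKrullDim T) :
    ∃ _ : IsRegularLocalRing (T ⧸ I), ringKrullDim (T ⧸ I) = b := by
  classical
  have hIm : I ≤ maximalIdeal T := by rw [hm]; exact le_sup_left
  have hIne : I ≠ ⊤ := fun h => (maximalIdeal.isMaximal T).ne_top (top_le_iff.1 (h ▸ hIm))
  have : Nontrivial (T ⧸ I) := Ideal.Quotient.nontrivial_iff.2 hIne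
  have : IsLocalRing (T ⧸ I) :=
    IsLocalRing.of_surjective' (Ideal.Quotient.mk I) Ideal.Quotient.mk_surjective
  have hmQ : maximalIdeal (T ⧸ I) = Ideal.span ((Ideal.Quotient.mk I) '' (u : Set T)) := by
    have h1 : (maximalIdeal T).map (Ideal.Quotient.mk I) = maximalIdeal (T ⧸ I) := by
      have : ((maximalIdeal (T ⧸ I)).comap (Ideal.Quotient.mk I)).IsMaximal :=
        Ideal.comap_isMaximal_of_surjective _ Ideal.Quotient.mk_surjective
      have h1 : (maximalIdeal (T ⧸ I)).comap (Ideal.Quotient.mk I) = maximalIdeal T :=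
        eq_maximalIdeal inferInstance
      rw [← h1, Ideal.map_comap_of_surjective _ Ideal.Quotient.mk_surjective]
    rw [← h1, hm, Ideal.map_sup, Ideal.map_span (Ideal.Quotient.mk I) (u : Set T)]
    rw [Ideal.map_quotient_self, bot_sup_eq]
  have hfin : (maximalIdeal (T ⧸ I)).spanFinrank ≤ b := by
    rw [hmQ]
    refine (Submodule.spanFinrank_span_le_ncard_of_finite
      ((Finset.finite_toSet u).image _)).trans ?_
    refine (Set.ncard_image_le (Finset.finite_toSet u)).trans ?_
    rw [Set.ncard_coe_finset]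
    exact hb
  have hQle : ringKrullDim (T ⧸ I) ≤ (b : WithBot ℕ∞) :=
    (ringKrullDim_le_spanFinrank_maximalIdeal _).trans (by exact_mod_cast hfin)
  obtain ⟨d, hd, hdb⟩ := Groth.Agent.Lead.RLR.exists_nat_eq
    (ringKrullDim_nonneg_of_nontrivial (R := T ⧸ I)) hQle
  have hT : ringKrullDim T ≤ ringKrullDim (T ⧸ I) + t.card := by
    rw [ringKrullDim_eq_of_ringEquiv (Ideal.quotEquivOfEq hI)]
    apply ringKrullDim_le_ringKrullDim_quotient_add_card
    rw [IsLocalRing.ringJacobson_eq_maximalIdeal]
    intro x hx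
    exact hIm (hI ▸ Ideal.subset_span hx)
  have hbd : b ≤ d := by
    have h3 : ((a + b : ℕ) : WithBot ℕ∞) ≤ ((d + t.card : ℕ) : WithBot ℕ∞) := by
      refine hdim.trans (hT.trans ?_)
      rw [hd]
      push_cast
      exact le_rfl
    have h4 : a + b ≤ d + t.card := by exact_mod_cast h3
    omega
  have hdeq : d = b := le_antisymm hdb hbd
  subst hdeq
  refine ⟨IsRegularLocalRing.of_spanFinrank_maximalIdeal_le _ ?_, hd⟩
  rw [hd]
  exact_mod_cast hfin

end quot

section ps

variable {Λ : Type u} [CommRing Λ] [IsLocalRing Λ] [IsNoetherianRing Λ]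

omit [IsLocalRing Λ] [IsNoetherianRing Λ] in
/-- Finset of generators: `C π` (when needed) and the variables indexed by `V`. -/
theorem exists_finset_gens {σ : Type*} [Finite σ] (π : Λ) (e : ℕ) (he : e = 0 → π = 0)
    {ι : Type*} [Fintype ι] (v : ι → σ) :
    ∃ t : Finset (MvPowerSeries σ Λ), t.card ≤ e + Fintype.card ι ∧
      Ideal.span (t : Set (MvPowerSeries σ Λ)) =
        Ideal.span (insert (C π) (Set.range fun i => (X (v i) : MvPowerSeries σ Λ))) := by
  classical
  by_cases h0 : e = 0
  · refine ⟨Finset.univ.image fun i => (X (v i) : MvPowerSeries σ Λ), ?_, ?_⟩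
    · exact Finset.card_image_le.trans (by rw [Finset.card_univ]; omega)
    · rw [he h0, map_zero, Ideal.span_insert_zero, Finset.coe_image, Finset.coe_univ,
        Set.image_univ]
  · refine ⟨insert (C π) (Finset.univ.image fun i => (X (v i) : MvPowerSeries σ Λ)), ?_, ?_⟩
    · refine (Finset.card_insert_le _ _).trans ?_
      have := Finset.card_image_le (s := (Finset.univ : Finset ι))
        (f := fun i => (X (v i) : MvPowerSeries σ Λ))
      rw [Finset.card_univ] at this
      omega
    · rw [Finset.coe_insert, Finset.coe_image, Finset.coe_univ, Set.image_univ]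

/-- `Λ[[X_1..X_N]]` is regular of dimension `e + N`. -/
theorem regular_ps (π : Λ) (hπ : maximalIdeal Λ = Ideal.span {π}) (e : ℕ)
    (hdim : ringKrullDim Λ = e) (he : e = 0 → π = 0) (N : ℕ) :
    ∃ _ : IsRegularLocalRing (MvPowerSeries (Fin N) Λ),
      ringKrullDim (MvPowerSeries (Fin N) Λ) = ((e + N : ℕ) : WithBot ℕ∞) := by
  obtain ⟨t, ht, hspan⟩ := exists_finset_gens (σ := Fin N) π e he (id : Fin N → Fin N)
  rw [Fintype.card_fin] at ht
  have hm : maximalIdeal (MvPowerSeries (Fin N) Λ) = Ideal.span (t : Set _) := by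
    rw [hspan, maximalIdeal_eq π hπ]
    rfl
  have hfin : (maximalIdeal (MvPowerSeries (Fin N) Λ)).spanFinrank ≤ e + N := by
    rw [hm]
    refine (Submodule.spanFinrank_span_le_ncard_of_finite (Finset.finite_toSet t)).trans ?_
    rw [Set.ncard_coe_finset]
    exact ht
  have hge : ((e + N : ℕ) : WithBot ℕ∞) ≤ ringKrullDim (MvPowerSeries (Fin N) Λ) := by
    refine le_trans ?_ (le_ringKrullDim (Λ := Λ) N)
    rw [hdim]
    push_cast
    exact le_rfl
  have hle : ringKrullDim (MvPowerSeries (Fin N) Λ) ≤ ((e + N : ℕ) : WithBot ℕ∞) :=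
    (ringKrullDim_le_spanFinrank_maximalIdeal _).trans (by exact_mod_cast hfin)
  refine ⟨IsRegularLocalRing.of_spanFinrank_maximalIdeal_le _ ?_, le_antisymm hle hge⟩
  exact le_trans (by exact_mod_cast hfin) hge

end ps

end Groth.Agent.H47.PSReg
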