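import Mathlib
import Groth.Agent.H13.PBasisPerfect
import Groth.Agent.H13.PBasisField
import Groth.Agent.H20.CoeffField
import Groth.Agent.H47.PSStruct

set_option autoImplicit false
set_option linter.unusedSectionVars false
set_option linter.style.haveILetI false
set_option linter.unusedVariables false
universe u

namespace Groth.Agent.H47

open EGA41 IsLocalRing

/-- every field of characteristic `p` has a `p`-basis over any subfield (helper13's S2467 with
`S = univ`, `L = ∅`). -/
theorem exists_isPBasis_field (p : ℕ) [Fact p.Prime] {k K : Type u} [Field k] [Field K]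
    [Algebra k K] [CharP K p] :
    ∃ B : Set K, EGA41.IsPBasis p k (Subtype.val : B → K) := by
  classical
  have hS : EGA41.IsPGenerating p k (Subtype.val : ↥(Set.univ : Set K) → K) := by
    rw [← Groth.Agent.H13.PB.adjoin_eq_top_iff_isPGenerating, Subtype.range_coe]
    exact Algebra.adjoin_univ _ _
  have hL : EGA41.IsPIndependent p k (Subtype.val : ↥(∅ : Set K) → K) := by
    rw [Groth.Agent.H13.PB.isPIndependent_iff]
    haveI : IsEmpty (↥(∅ : Set K)) := Set.isEmpty_coe_sort.2 rfl
    haveI : Unique (Groth.Agent.H13.PB.Red (↥(∅ : Set K)) p) :=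
      ⟨⟨⟨0, fun i => isEmptyElim i⟩⟩, fun e => Subtype.ext (Subsingleton.elim _ _)⟩
    rw [linearIndependent_unique_iff]
    have : Groth.Agent.H13.PB.mono p (Subtype.val : ↥(∅ : Set K) → K) default = 1 := by
      have h0 : (default : Groth.Agent.H13.PB.Red (↥(∅ : Set K)) p).1 = 0 :=
        Subsingleton.elim _ _
      unfold Groth.Agent.H13.PB.mono
      simp [h0]
    rw [this]
    exact one_ne_zero
  obtain ⟨B, -, -, hB⟩ := Groth.Agent.H13.PB.exists_isPBasis_between p (k := k)
    (Set.univ : Set K) ∅ (Set.empty_subset _) hS hL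
  exact ⟨B, hB⟩

/-- A field of characteristic `p` is formally smooth over its prime field. -/
theorem formallySmooth_primeField (p : ℕ) [Fact p.Prime] (κ : Type u) [Field κ] [CharP κ p]
    [Algebra (ULift.{u} (ZMod p)) κ] : Algebra.FormallySmooth (ULift.{u} (ZMod p)) κ := by
  haveI : ExpChar (ULift.{u} (ZMod p)) p := ExpChar.prime Fact.out
  haveI : PerfectRing (ULift.{u} (ZMod p)) p := PerfectRing.ofFiniteOfIsReduced p _
  obtain ⟨B, hB⟩ := exists_isPBasis_field p (k := ULift.{u} (ZMod p)) (K := κ)
  exact (Groth.Agent.H13.PB.formallySmooth_of_isPBasis_of_perfect p _ hB).1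

/-- Existence of a coefficient field in characteristic `p`. -/
theorem exists_coeffField_charP (p : ℕ) [Fact p.Prime] (R : Type u) [CommRing R] [IsLocalRing R]
    [IsAdicComplete (IsLocalRing.maximalIdeal R) R] [CharP R p] :
    ∃ s : IsLocalRing.ResidueField R →+* R, (IsLocalRing.residue R).comp s = RingHom.id _ := by
  let A := ULift.{u} (ZMod p)
  let e : A ≃+* ZMod p := ULift.ringEquiv
  letI : Algebra A R := ((ZMod.castHom (dvd_refl p) R).comp e.toRingHom).toAlgebra
  haveI : CharP (ResidueField R) p := by
    haveI : Nontrivial (ResidueField R) := inferInstance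
    exact (CharP.charP_iff_prime_eq_zero (R := ResidueField R) Fact.out).2 (by
      have h0 : ((p : ℕ) : R) = 0 := CharP.cast_eq_zero R p
      have := congrArg (IsLocalRing.residue R) h0
      rw [map_natCast, map_zero] at this
      exact this)
  haveI := formallySmooth_primeField p (ResidueField R)
  let f : ResidueField R →ₐ[A] R ⧸ maximalIdeal R :=
    { toRingHom := RingHom.id _
      commutes' := fun r => by
        have h1 : ((RingHom.id _).comp (algebraMap A (ResidueField R))).comp e.symm.toRingHom =
            (algebraMap A (R ⧸ maximalIdeal R)).comp e.symm.toRingHom :=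
          Subsingleton.elim _ _
        have := RingHom.congr_fun h1 (e r)
        simp only [RingHom.comp_apply, RingEquiv.toRingHom_eq_coe, RingHom.coe_coe,
          RingEquiv.symm_apply_apply] at this
        exact this }
  obtain ⟨g, hg⟩ := Algebra.FormallySmooth.exists_mkₐ_comp_eq_of_isAdicComplete f
  refine ⟨g.toRingHom, ?_⟩
  ext x
  exact congrArg (fun h => h x) hg

/-- Cohen structure theorem, equicharacteristic regular case. -/
theorem exists_ringEquiv_mvPowerSeries (R : Type u)
    [CommRing R] [IsRegularLocalRing R] [IsAdicComplete (IsLocalRing.maximalIdeal R) R]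
    (k₀ : Type u) [Field k₀] [Algebra k₀ R] :
    ∃ d : ℕ, Nonempty (R ≃+* MvPowerSeries (Fin d) (IsLocalRing.ResidueField R)) := by
  have hs : ∃ s : IsLocalRing.ResidueField R →+* R,
      (IsLocalRing.residue R).comp s = RingHom.id _ := by
    obtain h0 | ⟨p, hp, hpk⟩ := CharP.exists' k₀
    · haveI : CharZero (ResidueField R) :=
        charZero_of_injective_algebraMap (algebraMap k₀ (ResidueField R)).injective
      exact Groth.Agent.H20.coeffField R
    · haveI := hp
      haveI : CharP R p := charP_of_injective_algebraMap (algebraMap k₀ R).injective p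
      exact exists_coeffField_charP p R
  obtain ⟨s, hs⟩ := hs
  letI : Algebra (ResidueField R) R := s.toAlgebra
  have hd : ∃ d : ℕ, Nonempty (R ≃ₐ[ResidueField R] MvPowerSeries (Fin d) (ResidueField R)) := by
    refine exists_algEquiv_mvPowerSeries R (ResidueField R) ?_
    have key : ∀ x : ResidueField R, IsLocalRing.residue R (s x) = x :=
      fun x => RingHom.congr_fun hs x
    refine ⟨fun x y hxy => ?_, fun x => ⟨x, ?_⟩⟩
    · have h1 : IsLocalRing.residue R (s x) = IsLocalRing.residue R (s y) := hxy
      rwa [key, key] at h1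
    · exact key x
  obtain ⟨d, ⟨e⟩⟩ := hd
  exact ⟨d, ⟨e.toRingEquiv⟩⟩

end Groth.Agent.H47
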