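import Mathlib
import Groth.Prelude.Def_EGA41

set_option autoImplicit false
set_option linter.unusedSectionVars false
set_option linter.style.haveILetI false
set_option linter.unusedVariables false
universe u

/-!
# Lifting through complete Noetherian local rings (EGA 0_IV 19.3.10/11)

If `B` is adically formally smooth over `A`, `C` a complete Noetherian local `A`-algebra and
`J ≠ C`, every continuous `u : B → C/J` lifts to `B → C`.
-/

namespace Groth.Agent.H47.AdicLift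

open IsLocalRing

section Glue

variable {A B C : Type*} [CommRing A] [CommRing B] [CommRing C] [Algebra A B] [Algebra A C]

/-- Glue two algebra maps `B → C/P`, `B → C/Q` which are elementwise induced by common
elements of `C` to a map into `C/R` for `R ⊇ P ⊓ Q`. -/
theorem exists_glue (P Q R : Ideal C) (hR : P ⊓ Q ≤ R) (f : B →ₐ[A] C ⧸ P) (g : B →ₐ[A] C ⧸ Q)
    (h : ∀ b, ∃ c, Ideal.Quotient.mk P c = f b ∧ Ideal.Quotient.mk Q c = g b) :
    ∃ w : B →ₐ[A] C ⧸ R, ∀ b c, Ideal.Quotient.mk P c = f b → Ideal.Quotient.mk Q c = g b →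
      w b = Ideal.Quotient.mk R c := by
  choose s hs1 hs2 using h
  have key : ∀ c c' : C, Ideal.Quotient.mk P c = Ideal.Quotient.mk P c' →
      Ideal.Quotient.mk Q c = Ideal.Quotient.mk Q c' →
      Ideal.Quotient.mk R c = Ideal.Quotient.mk R c' := by
    intro c c' h1 h2
    rw [Ideal.Quotient.eq] at h1 h2 ⊢
    exact hR ⟨h1, h2⟩
  refine ⟨{ toFun := fun b => Ideal.Quotient.mk R (s b)
            map_one' := ?_, map_mul' := ?_, map_zero' := ?_, map_add' := ?_, commutes' := ?_ }, ?_⟩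
  · rw [← map_one (Ideal.Quotient.mk R)]
    exact key _ _ (by rw [hs1, map_one, map_one]) (by rw [hs2, map_one, map_one])
  · intro x y
    rw [← map_mul]
    exact key _ _ (by rw [hs1, map_mul, map_mul, hs1, hs1]) (by rw [hs2, map_mul, map_mul, hs2, hs2])
  · rw [← map_zero (Ideal.Quotient.mk R)]
    exact key _ _ (by rw [hs1, map_zero, map_zero]) (by rw [hs2, map_zero, map_zero])
  · intro x y
    rw [← map_add]
    exact key _ _ (by rw [hs1, map_add, map_add, hs1, hs1]) (by rw [hs2, map_add, map_add, hs2, hs2])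
  · intro r
    show Ideal.Quotient.mk R (s (algebraMap A B r)) = Ideal.Quotient.mk R (algebraMap A C r)
    exact key _ _ (by rw [hs1, AlgHom.commutes]; rfl) (by rw [hs2, AlgHom.commutes]; rfl)
  · intro b c h1 h2
    exact key _ _ (by rw [hs1, h1]) (by rw [hs2, h2])

end Glue

section Main

variable {A B C : Type u} [CommRing A] (𝔞 : Ideal A) [CommRing B] [Algebra A B] (𝔟 : Ideal B)
  [CommRing C] [IsLocalRing C] [Algebra A C] (J : Ideal C) (u : B →ₐ[A] C ⧸ J)

/-- The invariant: `v : B → C/𝔪ⁿ` and `u : B → C/J` are elementwise induced by common elements. -/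
def Compat (n : ℕ) (v : B →ₐ[A] C ⧸ maximalIdeal C ^ n) : Prop :=
  ∀ b, ∃ c, Ideal.Quotient.mk _ c = v b ∧ Ideal.Quotient.mk J c = u b

variable {𝔞 𝔟 J u}

local notation "m" => maximalIdeal C

theorem exists_step (hB : EGA41.IsFormallySmoothAdic A 𝔞 B 𝔟)
    (hA : 𝔞.map (algebraMap A C) ≤ maximalIdeal C) (hJ : J ≤ maximalIdeal C)
    (hu : 𝔟.map u.toRingHom ≤ (maximalIdeal C).map (Ideal.Quotient.mk J))
    (k : ℕ) (v : B →ₐ[A] C ⧸ maximalIdeal C ^ (k + 1)) (hv : Compat J u (k + 1) v) :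
    ∃ v' : B →ₐ[A] C ⧸ maximalIdeal C ^ (k + 2), Compat J u (k + 2) v' ∧
      (Ideal.Quotient.factorₐ A (Ideal.pow_le_pow_right (Nat.le_succ (k + 1)))).comp v' = v := by
  let P : Ideal C := m ^ (k + 1) ⊓ (J ⊔ m ^ (k + 2))
  have hmP : m ^ (k + 2) ≤ P := le_inf (Ideal.pow_le_pow_right (Nat.le_succ (k + 1))) le_sup_right
  obtain ⟨w, hw⟩ := exists_glue (m ^ (k + 1)) J P (inf_le_inf_left _ le_sup_left) v u hv
  -- `w` maps `𝔟` into `𝔪`
  have hwb : ∀ x ∈ 𝔟, w x ∈ (m).map (Ideal.Quotient.mk P) := by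
    intro x hx
    obtain ⟨c, hc1, hc2⟩ := hv x
    rw [hw x c hc1 hc2]
    apply Ideal.mem_map_of_mem
    have h1 : u x ∈ (m).map (Ideal.Quotient.mk J) := hu (Ideal.mem_map_of_mem _ hx)
    rw [← hc2] at h1
    obtain ⟨c', hc', hcc'⟩ := (Ideal.mem_map_iff_of_surjective _ Ideal.Quotient.mk_surjective).1 h1
    have h2 : c' - c ∈ J := Ideal.Quotient.eq.1 hcc'
    have : c = c' - (c' - c) := by ring
    rw [this]
    exact Ideal.sub_mem _ hc' (hJ h2)
  have hwb' : ∀ x ∈ 𝔟 ^ (k + 2), w x = 0 := by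
    intro x hx
    have h1 : w x ∈ (𝔟 ^ (k + 2)).map w.toRingHom := Ideal.mem_map_of_mem _ hx
    rw [Ideal.map_pow] at h1
    have h2 : 𝔟.map w.toRingHom ≤ (m).map (Ideal.Quotient.mk P) := by
      rw [Ideal.map_le_iff_le_comap]
      intro y hy
      exact hwb y hy
    have h3 := Ideal.pow_right_mono h2 (k + 2) h1
    rw [← Ideal.map_pow] at h3
    have h4 : (m ^ (k + 2)).map (Ideal.Quotient.mk P) = ⊥ := by
      rw [Ideal.map_eq_bot_iff_le_ker, Ideal.mk_ker]
      exact hmP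
    rw [h4] at h3
    exact h3
  let D := C ⧸ m ^ (k + 2)
  let J' : Ideal D := P.map (Ideal.Quotient.mkₐ A (m ^ (k + 2)))
  let e : (D ⧸ J') ≃ₐ[A] C ⧸ P := DoubleQuot.quotQuotEquivQuotOfLEₐ A hmP
  let u' : B →ₐ[A] D ⧸ J' := e.symm.toAlgHom.comp w
  have hnil : IsNilpotent J' := by
    refine ⟨2, ?_⟩
    show J' ^ 2 = ⊥
    rw [← Ideal.map_pow, Ideal.map_eq_bot_iff_le_ker]
    have : RingHom.ker (Ideal.Quotient.mkₐ A (m ^ (k + 2))) = m ^ (k + 2) := Ideal.mk_ker
    rw [this]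
    calc P ^ 2 ≤ (m ^ (k + 1)) ^ 2 := Ideal.pow_right_mono inf_le_left 2
      _ = m ^ ((k + 1) * 2) := (pow_mul _ _ _).symm
      _ ≤ m ^ (k + 2) := Ideal.pow_le_pow_right (by omega)
  have hk : ∃ k' : ℕ, (𝔞 ^ k').map (algebraMap A D) = ⊥ := by
    refine ⟨k + 2, ?_⟩
    have : algebraMap A D = (Ideal.Quotient.mk (m ^ (k + 2))).comp (algebraMap A C) := rfl
    rw [this, ← Ideal.map_map, Ideal.map_eq_bot_iff_le_ker, Ideal.mk_ker, Ideal.map_pow]
    exact Ideal.pow_right_mono hA _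
  have hb : ∃ k' : ℕ, ∀ x ∈ 𝔟 ^ k', u' x = 0 := by
    refine ⟨k + 2, fun x hx => ?_⟩
    show e.symm (w x) = 0
    rw [hwb' x hx, map_zero]
  obtain ⟨v', hv'⟩ := hB D J' hnil hk u' hb
  have hv'' : (Ideal.Quotient.factorₐ A hmP).comp v' = w := by
    rw [← DoubleQuot.quotQuotEquivQuotOfLEₐ_comp_mkₐ, AlgHom.comp_assoc, hv']
    ext x
    exact e.apply_symm_apply (w x)
  have key : ∀ b c' c, Ideal.Quotient.mk (m ^ (k + 2)) c' = v' b →
      Ideal.Quotient.mk (m ^ (k + 1)) c = v b → Ideal.Quotient.mk J c = u b → c' - c ∈ P := by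
    intro b c' c h1 h2 h3
    have h4 : w b = Ideal.Quotient.mk P c' := by
      rw [← hv'', AlgHom.comp_apply, ← h1, Ideal.Quotient.factorₐ_apply_mk]
    rw [hw b c h2 h3] at h4
    exact Ideal.Quotient.eq.1 h4.symm
  refine ⟨v', ?_, ?_⟩
  · intro b
    obtain ⟨c, hc1, hc2⟩ := hv b
    obtain ⟨c', hc'⟩ := Ideal.Quotient.mk_surjective (v' b)
    have h1 := (key b c' c hc' hc1 hc2).2
    obtain ⟨j, hj, t, ht, hjt⟩ := Submodule.mem_sup.1 h1
    refine ⟨c + j, ?_, ?_⟩
    · rw [← hc']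
      apply Ideal.Quotient.eq.2
      have : c + j - c' = -t := by linear_combination hjt
      rw [this]
      exact neg_mem ht
    · rw [← hc2]
      apply Ideal.Quotient.eq.2
      have : c + j - c = j := by ring
      rw [this]
      exact hj
  · ext b
    obtain ⟨c, hc1, hc2⟩ := hv b
    obtain ⟨c', hc'⟩ := Ideal.Quotient.mk_surjective (v' b)
    rw [AlgHom.comp_apply, ← hc', Ideal.Quotient.factorₐ_apply_mk, ← hc1]
    exact Ideal.Quotient.eq.2 (key b c' c hc' hc1 hc2).1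

/-- **EGA 0_IV 19.3.10/11** (S2462): lifting through a complete Noetherian local ring. -/
theorem exists_lift (hB : EGA41.IsFormallySmoothAdic A 𝔞 B 𝔟)
    [IsNoetherianRing C] [IsAdicComplete (maximalIdeal C) C]
    (hA : 𝔞.map (algebraMap A C) ≤ maximalIdeal C) (hJ' : J ≠ ⊤)
    (hu : 𝔟.map u.toRingHom ≤ (maximalIdeal C).map (Ideal.Quotient.mk J)) :
    ∃ v : B →ₐ[A] C, 𝔟.map v.toRingHom ≤ maximalIdeal C ∧
      (Ideal.Quotient.mkₐ A J).comp v = u := by
  have hJ : J ≤ m := le_maximalIdeal hJ'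
  have hJ1 : J ≤ m ^ (0 + 1) := by simpa using hJ
  let S : ℕ → Type u := fun k => {v : B →ₐ[A] C ⧸ m ^ (k + 1) // Compat J u (k + 1) v}
  have base : S 0 := ⟨(Ideal.Quotient.factorₐ A hJ1).comp u, by
    intro b
    obtain ⟨c, hc⟩ := Ideal.Quotient.mk_surjective (u b)
    refine ⟨c, ?_, hc⟩
    rw [AlgHom.comp_apply, ← hc, Ideal.Quotient.factorₐ_apply_mk]⟩
  let next : ∀ k, S k → S (k + 1) := fun k vk =>
    ⟨(exists_step hB hA hJ hu k vk.1 vk.2).choose,
      (exists_step hB hA hJ hu k vk.1 vk.2).choose_spec.1⟩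
  have hnext : ∀ k (vk : S k), (Ideal.Quotient.factorₐ A
      (Ideal.pow_le_pow_right (Nat.le_succ (k + 1)))).comp (next k vk).1 = vk.1 := fun k vk =>
    (exists_step hB hA hJ hu k vk.1 vk.2).choose_spec.2
  let seq : ∀ k, S k := fun k => Nat.rec base next k
  have hseq : ∀ k, (Ideal.Quotient.factorₐ A
      (Ideal.pow_le_pow_right (Nat.le_succ (k + 1)))).comp (seq (k + 1)).1 = (seq k).1 :=
    fun k => hnext k (seq k)
  -- compatibility of the sequence, elementwise
  have hcompat : ∀ k n, k ≤ n → ∀ (b : B) (c : C),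
      Ideal.Quotient.mk (m ^ (n + 1)) c = (seq n).1 b →
      Ideal.Quotient.mk (m ^ (k + 1)) c = (seq k).1 b := by
    intro k n hkn
    induction n, hkn using Nat.le_induction with
    | base => intro b c h; exact h
    | succ n hkn ih =>
      intro b c h
      apply ih b c
      have := congrArg (fun φ => φ b) (hseq n)
      simp only [AlgHom.comp_apply] at this
      rw [← this, ← h, Ideal.Quotient.factorₐ_apply_mk]
  let f : ∀ n, B →ₐ[A] C ⧸ m ^ n := fun n =>
    (Ideal.Quotient.factorₐ A (Ideal.pow_le_pow_right (Nat.le_succ n))).comp (seq n).1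
  have hfc : ∀ n (b : B) (c : C), Ideal.Quotient.mk (m ^ (n + 1)) c = (seq n).1 b →
      f n b = Ideal.Quotient.mk (m ^ n) c := by
    intro n b c h
    show (Ideal.Quotient.factorₐ A (Ideal.pow_le_pow_right (Nat.le_succ n))) ((seq n).1 b) = _
    rw [← h, Ideal.Quotient.factorₐ_apply_mk]
  have hf : ∀ {k n : ℕ} (hle : k ≤ n),
      (Ideal.Quotient.factorₐ A (Ideal.pow_le_pow_right hle)).comp (f n) = f k := by
    intro k n hle
    ext b
    obtain ⟨c, hc⟩ := Ideal.Quotient.mk_surjective ((seq n).1 b)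
    rw [AlgHom.comp_apply, hfc n b c hc, Ideal.Quotient.factorₐ_apply_mk,
      hfc k b c (hcompat k n hle b c hc)]
  let v : B →ₐ[A] C := IsAdicComplete.liftAlgHom (m) f hf
  have hv1 : ∀ n b, Ideal.Quotient.mk (m ^ n) (v b) = f n b := fun n b =>
    IsAdicComplete.mk_liftAlgHom (m) f hf n b
  have hv2 : ∀ n b, ∃ c, Ideal.Quotient.mk (m ^ n) c = f n b ∧ Ideal.Quotient.mk J c = u b := by
    intro n b
    obtain ⟨c, hc1, hc2⟩ := (seq n).2 b
    exact ⟨c, (hfc n b c hc1).symm, hc2⟩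
  haveI : Nontrivial (C ⧸ J) := Ideal.Quotient.nontrivial_iff.2 hJ'
  haveI : IsLocalRing (C ⧸ J) :=
    IsLocalRing.of_surjective' (Ideal.Quotient.mk J) Ideal.Quotient.mk_surjective
  have hI' : (m).map (Ideal.Quotient.mk J) ≠ ⊤ := by
    intro h
    have h1 : (1 : C ⧸ J) ∈ (m).map (Ideal.Quotient.mk J) := by rw [h]; trivial
    obtain ⟨c, hc, hc1⟩ := (Ideal.mem_map_iff_of_surjective _ Ideal.Quotient.mk_surjective).1 h1
    rw [← map_one (Ideal.Quotient.mk J)] at hc1
    have h2 : c - 1 ∈ J := Ideal.Quotient.eq.1 hc1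
    have h3 : (1 : C) ∈ m := by
      have : (1 : C) = c - (c - 1) := by ring
      rw [this]
      exact Ideal.sub_mem _ hc (hJ h2)
    exact (Ideal.ne_top_iff_one _).1 (IsLocalRing.maximalIdeal.isMaximal C).ne_top h3
  have hv3 : ∀ b, Ideal.Quotient.mk J (v b) = u b := by
    intro b
    have h0 := Ideal.iInf_pow_eq_bot_of_isLocalRing ((m).map (Ideal.Quotient.mk J)) hI'
    have h1 : Ideal.Quotient.mk J (v b) - u b ∈ ⨅ i, ((m).map (Ideal.Quotient.mk J)) ^ i := by
      rw [Ideal.mem_iInf]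
      intro n
      obtain ⟨c, hc1, hc2⟩ := hv2 n b
      rw [← hc2, ← map_sub, ← Ideal.map_pow]
      apply Ideal.mem_map_of_mem
      have := (hv1 n b).trans hc1.symm
      exact Ideal.Quotient.eq.1 this
    rw [h0, Ideal.mem_bot, sub_eq_zero] at h1
    exact h1
  refine ⟨v, ?_, ?_⟩
  · rw [Ideal.map_le_iff_le_comap]
    intro b hb
    show v b ∈ m
    have h1 : u b ∈ (m).map (Ideal.Quotient.mk J) := hu (Ideal.mem_map_of_mem _ hb)
    rw [← hv3 b] at h1
    obtain ⟨c', hc', hcc'⟩ := (Ideal.mem_map_iff_of_surjective _ Ideal.Quotient.mk_surjective).1 h1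
    have h2 : c' - v b ∈ J := Ideal.Quotient.eq.1 hcc'
    have : v b = c' - (c' - v b) := by ring
    rw [this]
    exact Ideal.sub_mem _ hc' (hJ h2)
  · ext b
    exact hv3 b

end Main

end Groth.Agent.H47.AdicLift
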