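import Mathlib
import Groth.Agent.H47.FSField

set_option autoImplicit false
set_option linter.unusedSectionVars false
set_option linter.style.haveILetI false
set_option linter.unusedVariables false
universe u v

/-!
# Quotients of a Cohen ring are formally smooth over `ℤ/pⁿ`

`Λ` a DVR with maximal ideal `(p)`: `Λ/pⁿ` is formally smooth over `ZMod (p^n)`.
-/

namespace Groth.Agent.H47.CQ

open IsLocalRing

/-- If `Λ` is a local domain whose maximal ideal is `(p) ≠ 0` then `Λ` has characteristic zero. -/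
theorem charZero_of_maximalIdeal_eq (Λ : Type u) [CommRing Λ] [IsDomain Λ] [IsLocalRing Λ]
    (p : ℕ) (hm : maximalIdeal Λ = Ideal.span {(p : Λ)}) (hne : maximalIdeal Λ ≠ ⊥) :
    CharZero Λ := by
  obtain ⟨q, hq⟩ := CharP.exists Λ
  rcases CharP.char_is_prime_or_zero Λ q with hq' | rfl
  · exfalso
    have hq0 : (q : Λ) = 0 := CharP.cast_eq_zero Λ q
    have hpm : (p : Λ) ∈ maximalIdeal Λ := by
      rw [hm]; exact Ideal.mem_span_singleton_self _
    by_cases hpq : q ∣ p
    · have : (p : Λ) = 0 := by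
        obtain ⟨c, rfl⟩ := hpq
        rw [Nat.cast_mul, hq0, zero_mul]
      apply hne
      rw [hm, this]
      simp
    · have hcop : Nat.Coprime q p := (Nat.Prime.coprime_iff_not_dvd hq').2 hpq
      have h1 : IsCoprime (q : ℤ) (p : ℤ) := Nat.isCoprime_iff_coprime.2 hcop
      have h2 := h1.map (Int.castRingHom Λ)
      simp only [eq_intCast, Int.cast_natCast, hq0] at h2
      have h3 : IsUnit (p : Λ) := isCoprime_zero_left.1 h2
      exact (IsLocalRing.mem_maximalIdeal _).1 hpm h3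
  · exact CharP.charP_to_charZero Λ

/-- The canonical ring hom `ZMod m → A` when `(m : A) = 0`. -/
noncomputable def zmodHom (m : ℕ) (A : Type v) [CommRing A] (h : (m : A) = 0) : ZMod m →+* A :=
  (Ideal.Quotient.lift (Ideal.span {(m : ℤ)}) (Int.castRingHom A) (by
    intro a ha
    obtain ⟨c, rfl⟩ := Ideal.mem_span_singleton'.1 ha
    simp [h])).comp (Int.quotientSpanNatEquivZMod m).symm.toRingHom

/-- `A/(m)` is flat over `ZMod m` if `A` is a torsion-free ring. -/
theorem flat_zmod_quotient (A : Type v) [CommRing A] [Module.Flat ℤ A] (m : ℕ) (x : A)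
    (hx : x = (m : A))
    (f : ZMod m →+* A ⧸ Ideal.span {x}) : f.Flat := by
  subst hx
  let I : Ideal ℤ := Ideal.span {(m : ℤ)}
  have hI : I.map (algebraMap ℤ A) = Ideal.span {(m : A)} := by
    simp [I, Ideal.map_span]
  let e1 : ZMod m ≃+* ℤ ⧸ I := (Int.quotientSpanNatEquivZMod m).symm
  let e2 : TensorProduct ℤ (ℤ ⧸ I) A ≃+* A ⧸ I.map (algebraMap ℤ A) :=
    (Algebra.TensorProduct.quotIdealMapEquivQuotTensor A I).symm.toRingEquiv
  let e3 : A ⧸ I.map (algebraMap ℤ A) ≃+* A ⧸ Ideal.span {(m : A)} :=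
    Ideal.quotEquivOfEq hI
  have hflat : (algebraMap (ℤ ⧸ I) (TensorProduct ℤ (ℤ ⧸ I) A)).Flat :=
    RingHom.flat_algebraMap_iff.2 inferInstance
  have h1 : (e1.toRingHom).Flat := RingHom.Flat.of_bijective e1.bijective
  have h2 : (e2.toRingHom).Flat := RingHom.Flat.of_bijective e2.bijective
  have h3 : (e3.toRingHom).Flat := RingHom.Flat.of_bijective e3.bijective
  have := ((h1.comp hflat).comp h2).comp h3
  convert this using 1
  exact RingHom.ext_zmod _ _

/-- The kernel of `ZMod b → ZMod a` for `a ∣ b` is generated by `a`. -/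
theorem ker_castHom (a b : ℕ) (h : a ∣ b) :
    RingHom.ker (ZMod.castHom h (ZMod a)) = Ideal.span {(a : ZMod b)} := by
  apply le_antisymm
  · intro x hx
    obtain ⟨z, rfl⟩ := ZMod.intCast_surjective x
    rw [RingHom.mem_ker, map_intCast, ZMod.intCast_zmod_eq_zero_iff_dvd] at hx
    obtain ⟨c, rfl⟩ := hx
    rw [Ideal.mem_span_singleton']
    exact ⟨(c : ZMod b), by push_cast; ring⟩
  · rw [Ideal.span_singleton_le_iff_mem, RingHom.mem_ker, map_natCast, ZMod.natCast_self]

/-- Main induction: every ring hom `ℤ/pʲ → Λ/pʲ` is formally smooth. -/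
theorem formallySmooth_aux (Λ : Type u) [CommRing Λ] [IsDomain Λ] [IsDiscreteValuationRing Λ]
    (p : ℕ) (hp : p.Prime) (hm : maximalIdeal Λ = Ideal.span {(p : Λ)}) :
    ∀ j : ℕ, 1 ≤ j → ∀ (m : ℕ) (x : Λ), m = p ^ j → x = (p : Λ) ^ j →
      ∀ f : ZMod m →+* Λ ⧸ Ideal.span {x}, f.FormallySmooth := by
  haveI : CharZero Λ :=
    charZero_of_maximalIdeal_eq Λ p hm (IsDiscreteValuationRing.not_a_field Λ)
  intro j hj
  induction j, hj using Nat.le_induction with
  | base =>
    intro m x hm' hx f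
    obtain rfl : m = p := by simpa using hm'
    obtain rfl : x = (m : Λ) := by simpa using hx
    haveI : Fact m.Prime := ⟨hp⟩
    haveI : (Ideal.span {(m : Λ)}).IsMaximal := hm ▸ inferInstance
    letI : Field (Λ ⧸ Ideal.span {(m : Λ)}) := Ideal.Quotient.field _
    algebraize [f]
    have : Algebra.FormallySmooth (ZMod m) (Λ ⧸ Ideal.span {(m : Λ)}) :=
      formallySmooth_of_perfectField_field
    exact this
  | succ j hj ih =>
    intro m x hm' hx f
    subst hm' hx
    have h0 : ((p ^ j : ℕ) : Λ ⧸ Ideal.span {(p : Λ) ^ j}) = 0 := by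
      rw [← map_natCast (Ideal.Quotient.mk _)]
      push_cast
      exact Ideal.Quotient.eq_zero_iff_mem.2 (Ideal.mem_span_singleton_self _)
    let g : ZMod (p ^ j) →+* Λ ⧸ Ideal.span {(p : Λ) ^ j} := zmodHom (p ^ j) _ h0
    have hdvd : p ^ j ∣ p ^ (j + 1) := pow_dvd_pow p (Nat.le_succ j)
    let qR : ZMod (p ^ (j + 1)) →+* ZMod (p ^ j) := ZMod.castHom hdvd (ZMod (p ^ j))
    have hle : Ideal.span {(p : Λ) ^ (j + 1)} ≤ Ideal.span {(p : Λ) ^ j} := by
      rw [Ideal.span_singleton_le_iff_mem, pow_succ]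
      exact Ideal.mul_mem_right _ _ (Ideal.mem_span_singleton_self _)
    let qS : Λ ⧸ Ideal.span {(p : Λ) ^ (j + 1)} →+* Λ ⧸ Ideal.span {(p : Λ) ^ j} :=
      Ideal.Quotient.factor hle
    have hker : RingHom.ker qR = Ideal.span {((p ^ j : ℕ) : ZMod (p ^ (j + 1)))} :=
      ker_castHom _ _ hdvd
    refine RingHom.FormallySmooth.of_flat_of_ker_eq_map_of_square_zero f
      (flat_zmod_quotient Λ (p ^ (j + 1)) _ (by push_cast; rfl) f) qR qS g
      (ZMod.castHom_surjective hdvd) (Ideal.Quotient.factor_surjective hle)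
      (RingHom.ext_zmod _ _) ?_ ?_ (ih (p ^ j) _ rfl rfl g)
    · rw [hker, Ideal.span_singleton_pow, Ideal.span_singleton_eq_bot, ← Nat.cast_pow,
        ZMod.natCast_eq_zero_iff, ← pow_mul]
      exact pow_dvd_pow p (by omega)
    · rw [hker, Ideal.Quotient.factor_ker, Ideal.map_span, Ideal.map_span, Set.image_singleton,
        Set.image_singleton, map_natCast, ← map_natCast (Ideal.Quotient.mk _)]
      push_cast
      rfl

/-- **S9455**: `Λ/pⁿ` is formally smooth over `ℤ/pⁿ` for a DVR `Λ` with maximal ideal `(p)`. -/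
theorem formallySmooth_zmod_quotient (Λ : Type u) [CommRing Λ] [IsDomain Λ]
    [IsDiscreteValuationRing Λ] (p : ℕ)
    (hp : p.Prime) (hm : IsLocalRing.maximalIdeal Λ = Ideal.span {(p : Λ)}) (n : ℕ) (hn : 1 ≤ n)
    [Algebra (ZMod (p ^ n)) (Λ ⧸ Ideal.span {((p : Λ) ^ n)})] :
    Algebra.FormallySmooth (ZMod (p ^ n)) (Λ ⧸ Ideal.span {((p : Λ) ^ n)}) :=
  RingHom.formallySmooth_algebraMap.1
    (formallySmooth_aux Λ p hp hm n hn (p ^ n) _ rfl rfl (algebraMap _ _))

end Groth.Agent.H47.CQ
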