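import Mathlib
import Groth.Prelude.Def_EGA41
import Groth.Agent.H47.CohenQuot
import Groth.Agent.H47.AdicLift

set_option autoImplicit false
set_option linter.unusedSectionVars false
set_option linter.style.haveILetI false
set_option linter.unusedVariables false
universe u

/-!
# Cohen rings are adically formally smooth over `ℤ`; lifting of maps from Cohen rings
(EGA 0_IV 19.8.6)
-/

namespace Groth.Agent.H47.CohenLift

open IsLocalRing Groth.Agent.H47.CQ

/-- Ring homs out of `ULift ℤ` are unique. -/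
theorem ulift_int_ringHom_ext {D : Type*} [Semiring D] (f g : ULift.{u} ℤ →+* D) : f = g := by
  have h := RingHom.ext_int (f.comp (ULift.ringEquiv (R := ℤ)).symm.toRingHom)
    (g.comp (ULift.ringEquiv (R := ℤ)).symm.toRingHom)
  ext x
  have := congrArg (fun φ => φ x.down) h
  exact this

/-- Any ring hom is a `ULift ℤ`-algebra hom, for arbitrary algebra instances. -/
def intAlgHom {W D : Type*} [CommRing W] [CommRing D] [Algebra (ULift.{u} ℤ) W]
    [Algebra (ULift.{u} ℤ) D] (φ : W →+* D) : W →ₐ[ULift.{u} ℤ] D :=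
  { φ with
    commutes' := fun r =>
      congrArg (fun ψ => ψ r) (ulift_int_ringHom_ext (φ.comp (algebraMap _ _)) (algebraMap _ _)) }

@[simp] theorem intAlgHom_apply {W D : Type*} [CommRing W] [CommRing D] [Algebra (ULift.{u} ℤ) W]
    [Algebra (ULift.{u} ℤ) D] (φ : W →+* D) (x : W) : intAlgHom φ x = φ x := rfl

/-- A DVR with maximal ideal `(p)` is formally smooth over `ℤ` for the `p`-adic topologies. -/
theorem isFormallySmoothAdic_of_dvr (W : Type u) [CommRing W] [IsDomain W]
    [IsDiscreteValuationRing W] [Algebra (ULift.{u} ℤ) W] (p : ℕ) (hp : p.Prime)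
    (hm : maximalIdeal W = Ideal.span {(p : W)}) :
    EGA41.IsFormallySmoothAdic (ULift.{u} ℤ) (Ideal.span {(p : ULift.{u} ℤ)}) W
      (maximalIdeal W) := by
  intro D _ _ J' hnil hk u' _
  obtain ⟨k, hk⟩ := hk
  have hpk : ((p ^ k : ℕ) : D) = 0 := by
    have : algebraMap (ULift.{u} ℤ) D ((p : ULift.{u} ℤ) ^ k) ∈
        (Ideal.span {(p : ULift.{u} ℤ)} ^ k).map (algebraMap (ULift.{u} ℤ) D) :=
      Ideal.mem_map_of_mem _ (Ideal.pow_mem_pow (Ideal.mem_span_singleton_self _) k)
    rw [hk, Ideal.mem_bot] at this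
    simpa using this
  obtain ⟨N, hN, hkN⟩ : ∃ N, 1 ≤ N ∧ k ≤ N := ⟨max k 1, le_max_right _ _, le_max_left _ _⟩
  have hpN : ((p ^ N : ℕ) : D) = 0 := by
    obtain ⟨d, hd⟩ : p ^ k ∣ p ^ N := pow_dvd_pow p hkN
    rw [hd, Nat.cast_mul, hpk, zero_mul]
  letI : Algebra (ZMod (p ^ N)) D := (zmodHom (p ^ N) D hpN).toAlgebra
  have h0 : ((p ^ N : ℕ) : W ⧸ Ideal.span {(p : W) ^ N}) = 0 := by
    rw [← map_natCast (Ideal.Quotient.mk _)]
    push_cast
    exact Ideal.Quotient.eq_zero_iff_mem.2 (Ideal.mem_span_singleton_self _)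
  letI : Algebra (ZMod (p ^ N)) (W ⧸ Ideal.span {(p : W) ^ N}) :=
    (zmodHom (p ^ N) _ h0).toAlgebra
  haveI : Algebra.FormallySmooth (ZMod (p ^ N)) (W ⧸ Ideal.span {(p : W) ^ N}) :=
    formallySmooth_zmod_quotient W p hp hm N hN
  have hu0 : ∀ a ∈ Ideal.span {(p : W) ^ N}, u'.toRingHom a = 0 := by
    intro a ha
    obtain ⟨c, rfl⟩ := Ideal.mem_span_singleton'.1 ha
    have : ((p : ℕ) : D ⧸ J') ^ N = 0 := by
      rw [← Nat.cast_pow, ← map_natCast (Ideal.Quotient.mk J'), hpN, map_zero]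
    rw [map_mul, map_pow, map_natCast, this, mul_zero]
  let g0 : W ⧸ Ideal.span {(p : W) ^ N} →+* D ⧸ J' := Ideal.Quotient.lift _ u'.toRingHom hu0
  let g : W ⧸ Ideal.span {(p : W) ^ N} →ₐ[ZMod (p ^ N)] D ⧸ J' :=
    { g0 with
      commutes' := fun r => by
        have := RingHom.ext_zmod (g0.comp (algebraMap _ _)) (algebraMap (ZMod (p ^ N)) (D ⧸ J'))
        exact congrArg (fun φ => φ r) this }
  let l := Algebra.FormallySmooth.lift J' hnil g
  refine ⟨intAlgHom (l.toRingHom.comp (Ideal.Quotient.mk _)), ?_⟩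
  ext x
  show Ideal.Quotient.mk J' (l (Ideal.Quotient.mk _ x)) = u' x
  rw [Algebra.FormallySmooth.mk_lift]
  rfl

/-- A field of characteristic zero is formally smooth over `ℤ`. -/
theorem formallySmooth_int_of_charZero (W : Type u) [Field W] [CharZero W] :
    Algebra.FormallySmooth ℤ W := by
  haveI : Algebra.FormallySmooth ℤ ℚ := Algebra.FormallySmooth.of_isLocalization (nonZeroDivisors ℤ)
  haveI : Algebra.FormallySmooth ℚ W := formallySmooth_of_perfectField_field
  exact Algebra.FormallySmooth.comp ℤ ℚ W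

/-- A field of characteristic zero is formally smooth over `ℤ` for the discrete topologies. -/
theorem isFormallySmoothAdic_of_field (W : Type u) [Field W] [CharZero W]
    [Algebra (ULift.{u} ℤ) W] (𝔟 : Ideal W) :
    EGA41.IsFormallySmoothAdic (ULift.{u} ℤ) ⊥ W 𝔟 := by
  intro D _ _ J' hnil _ u' _
  haveI := formallySmooth_int_of_charZero W
  let u0 : W →ₐ[ℤ] D ⧸ J' := u'.toRingHom.toIntAlgHom
  refine ⟨intAlgHom (Algebra.FormallySmooth.lift J' hnil u0).toRingHom, ?_⟩
  ext x
  show Ideal.Quotient.mk J' (Algebra.FormallySmooth.lift J' hnil u0 x) = u' x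
  rw [Algebra.FormallySmooth.mk_lift]
  rfl

/-- **EGA 0_IV 19.8.6 (i)** (S2456): maps from a Cohen ring to `C/J` lift to `C`. -/
theorem exists_lift_cohen {W C : Type u} [CommRing W] [IsLocalRing W]
    (hW : EGA41.IsCohenRingEGA W)
    [CommRing C] [IsLocalRing C] [IsNoetherianRing C] [IsAdicComplete (maximalIdeal C) C]
    (J : Ideal C) (hJ : J ≠ ⊤) [IsLocalRing (C ⧸ J)] (u : W →+* C ⧸ J) [IsLocalHom u] :
    ∃ v : W →+* C, IsLocalHom v ∧ (Ideal.Quotient.mk J).comp v = u := by
  letI : Algebra (ULift.{u} ℤ) W := ULift.algebra' ℤ W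
  letI : Algebra (ULift.{u} ℤ) C := ULift.algebra' ℤ C
  let u₀ : W →ₐ[ULift.{u} ℤ] C ⧸ J := intAlgHom u
  have hmax : ∀ x ∈ maximalIdeal W, u x ∈ (maximalIdeal C).map (Ideal.Quotient.mk J) := by
    intro x hx
    obtain ⟨c, hc⟩ := Ideal.Quotient.mk_surjective (u x)
    rw [← hc]
    apply Ideal.mem_map_of_mem
    rw [mem_maximalIdeal, mem_nonunits_iff]
    intro hcu
    have : IsUnit (u x) := hc ▸ hcu.map (Ideal.Quotient.mk J)
    exact ((mem_maximalIdeal _).1 hx) (isUnit_of_map_unit u x this)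
  have hu : (maximalIdeal W).map u₀.toRingHom ≤ (maximalIdeal C).map (Ideal.Quotient.mk J) := by
    rw [Ideal.map_le_iff_le_comap]
    intro x hx
    exact hmax x hx
  have finish : ∀ v : W →ₐ[ULift.{u} ℤ] C, (maximalIdeal W).map v.toRingHom ≤ maximalIdeal C →
      (Ideal.Quotient.mkₐ _ J).comp v = u₀ →
      ∃ v : W →+* C, IsLocalHom v ∧ (Ideal.Quotient.mk J).comp v = u := by
    intro v hv1 hv2
    refine ⟨v.toRingHom, ⟨fun x hx => ?_⟩, ?_⟩
    · by_contra hx'
      have : v x ∈ maximalIdeal C := hv1 (Ideal.mem_map_of_mem _ ((mem_maximalIdeal _).2 hx'))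
      exact (mem_maximalIdeal _).1 this hx
    · ext x
      exact congrArg (fun φ => φ x) hv2
  rcases hW with ⟨hfield, hchar⟩ | ⟨hdom, hdvr, hcomp, p, hp, hm⟩
  · letI := hfield.toField
    have hB := isFormallySmoothAdic_of_field W (maximalIdeal W)
    obtain ⟨v, hv1, hv2⟩ := AdicLift.exists_lift hB (by simp) hJ hu
    exact finish v hv1 hv2
  · have hB := isFormallySmoothAdic_of_dvr W p hp hm
    have hA : (Ideal.span {(p : ULift.{u} ℤ)}).map (algebraMap (ULift.{u} ℤ) C) ≤
        maximalIdeal C := by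
      rw [Ideal.map_span, Set.image_singleton, Ideal.span_singleton_le_iff_mem, map_natCast]
      have hpW : (p : W) ∈ maximalIdeal W := by
        rw [hm]
        exact Ideal.mem_span_singleton_self _
      have h1 := hmax _ hpW
      rw [map_natCast] at h1
      obtain ⟨c', hc', hcc'⟩ :=
        (Ideal.mem_map_iff_of_surjective _ Ideal.Quotient.mk_surjective).1 h1
      rw [← map_natCast (Ideal.Quotient.mk J)] at hcc'
      have h2 : c' - (p : C) ∈ J := Ideal.Quotient.eq.1 hcc'
      have : (p : C) = c' - (c' - p) := by ring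
      rw [this]
      exact Ideal.sub_mem _ hc' (le_maximalIdeal hJ h2)
    obtain ⟨v, hv1, hv2⟩ := AdicLift.exists_lift hB hA hJ hu
    exact finish v hv1 hv2

end Groth.Agent.H47.CohenLift
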