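import Mathlib.RingTheory.DedekindDomain.IntegralClosure
import Mathlib.RingTheory.Localization.FractionRing
import Mathlib.RingTheory.FiniteType
import Mathlib.RingTheory.Localization.Integer

set_option autoImplicit false
universe u

namespace Groth.Agent.H47

/-- A finite extension `L` of `K = Frac S` contains a finite `S`-subalgebra with fraction field `L`. -/
theorem exists_finite_subalgebra_isFractionRing (S K L : Type*) [CommRing S] [IsDomain S]
    [Field K] [Algebra S K] [IsFractionRing S K] [Field L] [Algebra K L] [Algebra S L]
    [IsScalarTower S K L] [FiniteDimensional K L] :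
    ∃ S' : Subalgebra S L, S'.FG ∧ Module.Finite S S' ∧ IsFractionRing S' L := by
  classical
  obtain ⟨s, b, hb⟩ := FiniteDimensional.exists_is_basis_integral S K L
  let T : Set L := Set.range b
  have hTfin : T.Finite := Set.finite_range b
  refine ⟨Algebra.adjoin S T, ?_, ?_, ?_⟩
  · exact ⟨hTfin.toFinset, by simp [T]⟩
  · refine Module.Finite.iff_fg.mpr (fg_adjoin_of_finite hTfin ?_)
    rintro _ ⟨i, rfl⟩
    exact hb i
  · have hinj : Function.Injective (algebraMap S L) := by
      rw [IsScalarTower.algebraMap_eq S K L]
      exact (algebraMap K L).injective.comp (IsFractionRing.injective S K)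
    apply IsFractionRing.of_field
    intro z
    -- z = Σ c_i b_i; clear denominators
    obtain ⟨⟨d, hd⟩, hd'⟩ := IsLocalization.exist_integer_multiples_of_finset (nonZeroDivisors S)
      (Finset.univ.image (fun i => b.repr z i))
    have hd0 : algebraMap S L d ≠ 0 := by
      rw [Ne, map_eq_zero_iff _ hinj]; exact nonZeroDivisors.ne_zero hd
    have hmem : algebraMap S L d * z ∈ Algebra.adjoin S T := by
      have hz : z = ∑ i, b.repr z i • b i := (b.sum_repr z).symm
      rw [hz, Finset.mul_sum]
      refine Subalgebra.sum_mem _ (fun i _ => ?_)
      obtain ⟨x, hx⟩ := hd' (b.repr z i) (Finset.mem_image_of_mem _ (Finset.mem_univ i))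
      have hx' : algebraMap S K x = algebraMap S K d * b.repr z i := by
        rw [hx]; exact Algebra.smul_def _ _
      have : algebraMap S L d * (b.repr z i • b i) = algebraMap S L x * b i := by
        rw [IsScalarTower.algebraMap_apply S K L x, hx', map_mul, Algebra.smul_def,
          ← IsScalarTower.algebraMap_apply S K L d]
        ring
      rw [this]
      exact Subalgebra.mul_mem _ (Subalgebra.algebraMap_mem _ x)
        (Algebra.subset_adjoin ⟨i, rfl⟩)
    refine ⟨⟨_, hmem⟩, ⟨algebraMap S L d, Subalgebra.algebraMap_mem _ d⟩, ?_⟩
    show z = (algebraMap S L d * z) / algebraMap S L d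
    field_simp

/-- If `S'` is a finite `S`-subalgebra of `L` with fraction field `L` and `S'` is N-1, then the
integral closure of `S` in `L` is a finite `S`-module. -/
theorem finite_integralClosure_of_subalgebra {S L : Type*} [CommRing S] [Field L] [Algebra S L]
    (S' : Subalgebra S L) [Module.Finite S S'] [IsFractionRing S' L]
    (h : Module.Finite S' (integralClosure S' (FractionRing S'))) :
    Module.Finite S (integralClosure S L) := by
  let e : FractionRing S' ≃ₐ[S'] L := FractionRing.algEquiv S' L
  have h1 : Module.Finite S' (integralClosure S' L) :=
    Module.Finite.equiv (e.mapIntegralClosure.toLinearEquiv)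
  have h2 : Module.Finite S (integralClosure S' L) := Module.Finite.trans S' _
  have hint : Algebra.IsIntegral S S' := Algebra.IsIntegral.of_finite S S'
  have hfg : (Subalgebra.toSubmodule (integralClosure S L)).FG := by
    have h3 : ((Subalgebra.toSubmodule (integralClosure S' L)).restrictScalars S).FG :=
      Module.Finite.iff_fg.mp h2
    have heq : (Subalgebra.toSubmodule (integralClosure S' L)).restrictScalars S
        = Subalgebra.toSubmodule (integralClosure S L) := by
      ext x
      constructor
      · intro hx
        have hx' : IsIntegral S' x := hx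
        exact isIntegral_trans x hx'
      · intro hx
        have hx' : IsIntegral S x := hx
        exact (hx'.tower_top : IsIntegral S' x)
    rw [← heq]; exact h3
  exact Module.Finite.iff_fg.mpr hfg

end Groth.Agent.H47
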