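import Mathlib
import Groth.Agent.Lead.RegularFlatDescent

/-!
# Faithfully flat descent of Noetherianity, regularity and (R_k)
-/

set_option autoImplicit false
set_option linter.unusedSectionVars false
set_option linter.style.haveILetI false
set_option linter.unusedVariables false
universe u

namespace Groth.Agent.H47

/-- Noetherianity descends along faithfully flat ring maps. -/
theorem isNoetherianRing_of_faithfullyFlat (R S : Type*) [CommRing R] [CommRing S] [Algebra R S]
    [Module.FaithfullyFlat R S] [IsNoetherianRing S] : IsNoetherianRing R := by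
  rw [isNoetherianRing_iff, isNoetherian_iff']
  haveI : WellFoundedGT (Ideal S) := isNoetherian_iff'.mp ‹IsNoetherianRing S›
  have hmono : Monotone (Ideal.map (algebraMap R S)) := fun _ _ h => Ideal.map_mono h
  exact (hmono.strictMono_of_injective
    (Ideal.map_injective_of_faithfullyFlat (A := R) (B := S))).wellFoundedGT

/-- For a flat map with Noetherian source, if the local ring of `S` at a prime `q` is regular then
so is the local ring of `R` at the contraction of `q`. -/
theorem isRegularLocalRing_under_of_flat (R S : Type u) [CommRing R] [CommRing S] [Algebra R S]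
    [Module.Flat R S] [IsNoetherianRing R] (p : Ideal R) [p.IsPrime] (q : Ideal S) [q.IsPrime]
    [hqp : q.LiesOver p] [IsRegularLocalRing (Localization.AtPrime q)] :
    IsRegularLocalRing (Localization.AtPrime p) := by
  have hpq : p = Ideal.comap (algebraMap R S) q := hqp.over
  letI : Algebra (Localization.AtPrime p) (Localization.AtPrime q) :=
    (Localization.localRingHom p q (algebraMap R S) hpq).toAlgebra
  haveI : IsLocalHom (algebraMap (Localization.AtPrime p) (Localization.AtPrime q)) :=
    Localization.isLocalHom_localRingHom p q (algebraMap R S) hpq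
  haveI : Module.Flat (Localization.AtPrime p) (Localization.AtPrime q) :=
    RingHom.Flat.localRingHom (RingHom.flat_algebraMap_iff.mpr inferInstance) q p hpq
  exact Groth.Agent.Lead.RLR.isRegularLocalRing_of_flat (Localization.AtPrime p)
    (Localization.AtPrime q)

/-- Regularity descends along faithfully flat ring maps. -/
theorem isRegularRing_of_faithfullyFlat (R S : Type u) [CommRing R] [CommRing S] [Algebra R S]
    [Module.FaithfullyFlat R S] [IsRegularRing S] : IsRegularRing R := by
  haveI : IsNoetherianRing R := isNoetherianRing_of_faithfullyFlat R S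
  refine { isRegularLocalRing_localization := fun p _ => ?_ }
  obtain ⟨q, hq, hqp⟩ := Ideal.exists_isPrime_liesOver_of_faithfullyFlat (B := S) p
  exact isRegularLocalRing_under_of_flat R S p q

/-- For a faithfully flat map into a Noetherian ring, every prime `p` of `R` has a prime of `S`
lying over it of the same height. -/
theorem exists_liesOver_height_eq (R S : Type*) [CommRing R] [CommRing S] [Algebra R S]
    [Module.FaithfullyFlat R S] [IsNoetherianRing S] (p : Ideal R) [p.IsPrime] :
    ∃ q : Ideal S, q.IsPrime ∧ q.LiesOver p ∧ q.height = p.height := by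
  haveI : IsNoetherianRing R := isNoetherianRing_of_faithfullyFlat R S
  obtain ⟨q', hq', hq'p⟩ := Ideal.exists_isPrime_liesOver_of_faithfullyFlat (B := S) p
  have hle : p.map (algebraMap R S) ≤ q' := by
    rw [Ideal.map_le_iff_le_comap]
    exact le_of_eq hq'p.over
  obtain ⟨q, hqmin, hqq'⟩ := Ideal.exists_minimalPrimes_le hle
  haveI hqprime : q.IsPrime := hqmin.1.1
  have hqp : q.LiesOver p := by
    refine ⟨le_antisymm ?_ ?_⟩
    · rw [← Ideal.map_le_iff_le_comap]
      exact hqmin.1.2
    · refine le_trans (Ideal.comap_mono hqq') (le_of_eq hq'p.over.symm)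
  refine ⟨q, hqprime, hqp, ?_⟩
  rw [Ideal.height_eq_height_add_of_liesOver_of_hasGoingDown p q]
  suffices h : (Ideal.map (Ideal.Quotient.mk (Ideal.map (algebraMap R S) p)) q).height = 0 by
    rw [h, add_zero]
  rw [Ideal.minimalPrimes_eq_comap] at hqmin
  obtain ⟨qbar, hqbar, rfl⟩ := hqmin
  rw [Ideal.map_comap_of_surjective _ Ideal.Quotient.mk_surjective]
  haveI := hqbar.1.1
  exact Ideal.height_eq_zero_iff.mpr hqbar

/-- Serre's condition `(R_k)` (in the form: primes of height `≤ k` have regular local rings)
descends along faithfully flat ring maps. -/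
theorem regular_of_height_le_of_faithfullyFlat (k : ℕ) (R S : Type u) [CommRing R] [CommRing S]
    [Algebra R S] [Module.FaithfullyFlat R S] [IsNoetherianRing S]
    (hS : ∀ (q : Ideal S) [q.IsPrime], q.height ≤ k → IsRegularLocalRing (Localization.AtPrime q))
    (p : Ideal R) [p.IsPrime] (hp : p.height ≤ k) :
    IsRegularLocalRing (Localization.AtPrime p) := by
  haveI : IsNoetherianRing R := isNoetherianRing_of_faithfullyFlat R S
  obtain ⟨q, hq, hqp, hh⟩ := exists_liesOver_height_eq R S p
  haveI := hS q (hh ▸ hp)
  exact isRegularLocalRing_under_of_flat R S p q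

end Groth.Agent.H47
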