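import Mathlib
import Groth.Prelude.Def_EGA41
import Groth.Agent.H47.CohenLift
import Groth.Agent.S0578

set_option autoImplicit false
set_option linter.unusedSectionVars false
set_option linter.style.haveILetI false
set_option linter.unusedVariables false
universe u

/-!
# Artinian local rings which are quotients of Cohen rings (EGA 0_IV 19.8.9 / S2459)
-/

namespace Groth.Agent.H47.CohenArtin

open IsLocalRing

/-- A surjective ring hom onto a local ring from a local ring maps the maximal ideal onto the
maximal ideal. -/
theorem map_maximalIdeal_of_surjective {W A : Type u} [CommRing W] [IsLocalRing W] [CommRing A]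
    [IsLocalRing A] (φ : W →+* A) (hφ : Function.Surjective φ) :
    (maximalIdeal W).map φ = maximalIdeal A := by
  haveI : ((maximalIdeal A).comap φ).IsMaximal :=
    Ideal.comap_isMaximal_of_surjective φ hφ
  have h1 : (maximalIdeal A).comap φ = maximalIdeal W := eq_maximalIdeal inferInstance
  rw [← h1, Ideal.map_comap_of_surjective φ hφ]

theorem char_eq_of_natCast_residue_eq_zero {A : Type u} [CommRing A] [IsLocalRing A]
    (p q : ℕ) [CharP (ResidueField A) p] (hq : q.Prime) (h : (q : ResidueField A) = 0) : p = q := by
  have h1 : p ∣ q := (CharP.cast_eq_zero_iff (ResidueField A) p q).1 h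
  rcases (Nat.dvd_prime hq).1 h1 with h2 | h2
  · exact absurd h2 (CharP.char_ne_one (ResidueField A) p)
  · exact h2

theorem quotient_cohen_iff {A : Type u} [CommRing A] [IsLocalRing A] [IsArtinianRing A]
    (p : ℕ) [CharP (ResidueField A) p] :
    (∃ (W : Type u) (_ : CommRing W) (I : Ideal W), EGA41.IsCohenRingEGA W ∧
      Nonempty (A ≃+* W ⧸ I)) ↔ maximalIdeal A = Ideal.span {(p : A)} := by
  constructor
  · rintro ⟨W, _, I, hW, ⟨e⟩⟩
    have hI : I ≠ ⊤ := by
      intro h
      haveI : Subsingleton (W ⧸ I) := Ideal.Quotient.subsingleton_iff.2 h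
      haveI : Subsingleton A := e.injective.subsingleton
      exact not_subsingleton A inferInstance
    let φ : W →+* A := (e.symm : W ⧸ I →+* A).comp (Ideal.Quotient.mk I)
    have hφ : Function.Surjective φ := e.symm.surjective.comp Ideal.Quotient.mk_surjective
    rcases hW with ⟨hfield, hchar⟩ | ⟨hdom, hdvr, hcomp, q, hq, hm⟩
    · letI := hfield.toField
      have h1 := map_maximalIdeal_of_surjective φ hφ
      have h2 : maximalIdeal W = ⊥ := IsLocalRing.isField_iff_maximalIdeal_eq.1 hfield
      rw [h2, Ideal.map_bot] at h1
      have hp0 : (p : A) = 0 := by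
        have h3 : (p : A) ∈ maximalIdeal A := by
          rw [← residue_eq_zero_iff, map_natCast]
          exact CharP.cast_eq_zero _ p
        rwa [← h1, Ideal.mem_bot] at h3
      rw [← h1, hp0]
      simp
    · have h1 := map_maximalIdeal_of_surjective φ hφ
      rw [hm, Ideal.map_span, Set.image_singleton, map_natCast] at h1
      have hqm : (q : ResidueField A) = 0 := by
        rw [← map_natCast (residue A), residue_eq_zero_iff, ← h1]
        exact Ideal.mem_span_singleton_self _
      rw [char_eq_of_natCast_residue_eq_zero p q hq hqm, h1]
  · intro hm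
    rcases CharP.char_is_prime_or_zero (ResidueField A) p with hp | rfl
    · haveI : Fact p.Prime := ⟨hp⟩
      obtain ⟨Λ, _, _, hΛ, ⟨e⟩⟩ := Groth.Agent.S0578.result p (ResidueField A)
      have hΛ' := hΛ
      obtain ⟨hdom, hdvr, hcomp, q, hq, hmΛ⟩ := hΛ'
      haveI : IsLocalRing (A ⧸ maximalIdeal A) := inferInstanceAs (IsLocalRing (ResidueField A))
      let u : Λ →+* A ⧸ maximalIdeal A :=
        (e : ResidueField Λ →+* ResidueField A).comp (residue Λ)
      haveI : IsLocalHom u := by
        constructor
        intro x hx
        have h1 : IsUnit (residue Λ x) := by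
          have := hx.map (e.symm : ResidueField A →+* ResidueField Λ)
          have h2 : (e.symm : ResidueField A →+* ResidueField Λ) (u x) = residue Λ x :=
            e.symm_apply_apply _
          exact h2 ▸ this
        exact isUnit_of_map_unit (residue Λ) x h1
      obtain ⟨v, hvloc, hv⟩ := CohenLift.exists_lift_cohen (W := Λ) (C := A) (Or.inr hΛ)
        (maximalIdeal A) (maximalIdeal.isMaximal A).ne_top u
      have hv' : ∀ x, residue A (v x) = e (residue Λ x) := fun x => congrArg (fun φ => φ x) hv
      have hqp : p = q := by
        apply char_eq_of_natCast_residue_eq_zero (A := A) p q hq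
        have h1 : (q : ResidueField Λ) = 0 := by
          rw [← map_natCast (residue Λ), residue_eq_zero_iff, hmΛ]
          exact Ideal.mem_span_singleton_self _
        have h2 := congrArg e h1
        rwa [map_natCast, map_zero] at h2
      subst hqp
      have hmap : (maximalIdeal Λ).map v = maximalIdeal A := by
        rw [hmΛ, Ideal.map_span, Set.image_singleton, map_natCast, hm]
      have hsurj : Function.Surjective v := by
        haveI : IsHausdorff ((maximalIdeal Λ).map v) A := by
          rw [hmap]
          infer_instance
        apply surjective_of_mk_map_comp_surjective (I := maximalIdeal Λ) v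
        intro y
        obtain ⟨a, rfl⟩ := Ideal.Quotient.mk_surjective y
        obtain ⟨x, hx⟩ := residue_surjective (e.symm (residue A a))
        refine ⟨x, ?_⟩
        show Ideal.Quotient.mk _ (v x) = Ideal.Quotient.mk _ a
        rw [Ideal.Quotient.eq, hmap, ← residue_eq_zero_iff, map_sub, hv' x, hx,
          RingEquiv.apply_symm_apply, sub_self]
      exact ⟨Λ, inferInstance, RingHom.ker v, Or.inr hΛ,
        ⟨(RingHom.quotientKerEquivOfSurjective hsurj).symm⟩⟩
    · have hbot : maximalIdeal A = ⊥ := by
        rw [hm]
        simp
      have hfield : IsField A := IsLocalRing.isField_iff_maximalIdeal_eq.2 hbot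
      haveI : CharZero (ResidueField A) := CharP.charP_to_charZero _
      haveI : CharZero A := by
        letI := hfield.toField
        exact (residue A).charZero
      exact ⟨A, inferInstance, ⊥, Or.inl ⟨hfield, inferInstance⟩,
        ⟨(RingEquiv.quotientBot A).symm⟩⟩

end Groth.Agent.H47.CohenArtin
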