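import Mathlib
import Groth.Agent.H47.PSReg
import Groth.Agent.S2082
import Groth.Agent.H29.ComplCat

/-!
# Flatness of maps between power series rings over Cohen rings

`τ : Λ[[y_1..y_n]] → Λ'[[y_1..y_n, x_1..x_m]]` with `τ y_i = y_i` is flat with regular closed fibre
of dimension `m`, whatever `τ` does on the constants.
-/

set_option autoImplicit false
universe u

namespace Groth.Agent.H47.PSFlat

open IsLocalRing MvPowerSeries Groth.Agent.H47.PSReg

variable {Λ Λ' : Type u} [CommRing Λ] [CommRing Λ'] [IsLocalRing Λ] [IsLocalRing Λ']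
  [IsNoetherianRing Λ] [IsNoetherianRing Λ']

theorem core (p e : ℕ) (hΛ : maximalIdeal Λ = Ideal.span {(p : Λ)})
    (hΛ' : maximalIdeal Λ' = Ideal.span {(p : Λ')})
    (hd : ringKrullDim Λ = e) (hd' : ringKrullDim Λ' = e)
    (he : e = 0 → (p : Λ) = 0) (he' : e = 0 → (p : Λ') = 0)
    (hCM : LocCoh.IsCohenMacaulayLocalRing Λ') (n m : ℕ)
    (τ : MvPowerSeries (Fin n) Λ →+* MvPowerSeries (Fin (n + m)) Λ')
    (hτ : ∀ i, τ (X i) = X (Fin.castAdd m i)) :
    τ.Flat ∧ IsLocalHom τ ∧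
      (maximalIdeal (MvPowerSeries (Fin n) Λ)).map τ =
        Ideal.span (insert (C (p : Λ'))
          (Set.range fun i : Fin n => (X (Fin.castAdd m i) : MvPowerSeries (Fin (n + m)) Λ'))) ∧
      ∃ _ : IsRegularLocalRing (MvPowerSeries (Fin (n + m)) Λ' ⧸
          (maximalIdeal (MvPowerSeries (Fin n) Λ)).map τ),
        ringKrullDim (MvPowerSeries (Fin (n + m)) Λ' ⧸
          (maximalIdeal (MvPowerSeries (Fin n) Λ)).map τ) = m := by
  classical
  obtain ⟨hRreg, hRdim⟩ := regular_ps (p : Λ) hΛ e hd he n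
  obtain ⟨hSreg, hSdim⟩ := regular_ps (p : Λ') hΛ' e hd' he' (n + m)
  have hI : (maximalIdeal (MvPowerSeries (Fin n) Λ)).map τ =
      Ideal.span (insert (C (p : Λ'))
        (Set.range fun i : Fin n => (X (Fin.castAdd m i) : MvPowerSeries (Fin (n + m)) Λ'))) := by
    rw [maximalIdeal_eq (p : Λ) hΛ, Ideal.map_span, Set.image_insert_eq, ← Set.range_comp]
    have h1 : τ (C (p : Λ)) = C (p : Λ') := by
      rw [map_natCast, map_natCast, map_natCast]
    have h2 : (τ ∘ (X : Fin n → MvPowerSeries (Fin n) Λ)) =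
        fun i : Fin n => (X (Fin.castAdd m i) : MvPowerSeries (Fin (n + m)) Λ') := funext hτ
    rw [h1, h2]
  obtain ⟨t, ht, htspan⟩ := exists_finset_gens (σ := Fin (n + m)) (p : Λ') e he'
    (Fin.castAdd m : Fin n → Fin (n + m))
  rw [Fintype.card_fin] at ht
  let u : Finset (MvPowerSeries (Fin (n + m)) Λ') :=
    Finset.univ.image fun j : Fin m => (X (Fin.natAdd n j) : MvPowerSeries (Fin (n + m)) Λ')
  have hu : u.card ≤ m := Finset.card_image_le.trans (by simp)
  have hm : maximalIdeal (MvPowerSeries (Fin (n + m)) Λ') =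
      (maximalIdeal (MvPowerSeries (Fin n) Λ)).map τ ⊔ Ideal.span (u : Set _) := by
    rw [hI, maximalIdeal_eq (p : Λ') hΛ', ← Ideal.span_union]
    congr 1
    ext g
    simp only [u, Finset.coe_image, Finset.coe_univ, Set.image_univ, Set.mem_insert_iff,
      Set.mem_range, Set.mem_union]
    constructor
    · rintro (rfl | ⟨j, rfl⟩)
      · exact Or.inl (Or.inl rfl)
      · induction j using Fin.addCases with
        | left i => exact Or.inl (Or.inr ⟨i, rfl⟩)
        | right i => exact Or.inr ⟨i, rfl⟩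
    · rintro ((rfl | ⟨i, rfl⟩) | ⟨i, rfl⟩)
      · exact Or.inl rfl
      · exact Or.inr ⟨_, rfl⟩
      · exact Or.inr ⟨_, rfl⟩
  obtain ⟨hQreg, hQdim⟩ := quotient_regular ((maximalIdeal (MvPowerSeries (Fin n) Λ)).map τ)
    t u (e + n) m (hI.trans htspan.symm) ht hu hm (by
      rw [hSdim]
      apply le_of_eq
      congr 1
      omega)
  have hloc : IsLocalHom τ := by
    constructor
    intro f hf
    by_contra hnu
    have hfm : f ∈ maximalIdeal (MvPowerSeries (Fin n) Λ) :=
      (mem_maximalIdeal f).2 (mem_nonunits_iff.2 hnu)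
    have : τ f ∈ maximalIdeal (MvPowerSeries (Fin (n + m)) Λ') := by
      rw [hm]
      exact Ideal.mem_sup_left (Ideal.mem_map_of_mem τ hfm)
    exact (mem_maximalIdeal _).1 this hf
  refine ⟨?_, hloc, hI, hQreg, hQdim⟩
  letI : Algebra (MvPowerSeries (Fin n) Λ) (MvPowerSeries (Fin (n + m)) Λ') := τ.toAlgebra
  have hloc' : IsLocalHom (algebraMap (MvPowerSeries (Fin n) Λ)
      (MvPowerSeries (Fin (n + m)) Λ')) := hloc
  have hCM' : LocCoh.IsCohenMacaulayLocalRing (MvPowerSeries (Fin (n + m)) Λ') :=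
    Groth.Agent.H29.ComplCat.isCM_mvPowerSeries Λ' hCM (n + m)
  show Module.Flat (MvPowerSeries (Fin n) Λ) (MvPowerSeries (Fin (n + m)) Λ')
  apply Groth.Agent.S2082.result
  show ringKrullDim (MvPowerSeries (Fin (n + m)) Λ') = ringKrullDim (MvPowerSeries (Fin n) Λ) +
    ringKrullDim (MvPowerSeries (Fin (n + m)) Λ' ⧸ (maximalIdeal (MvPowerSeries (Fin n) Λ)).map τ)
  rw [hSdim, hRdim, hQdim]
  push_cast
  ring

end Groth.Agent.H47.PSFlat
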