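import Mathlib

/-!
# Evaluation of power series (any finite index type) in adically complete algebras

Generalisation of `H47/PSStruct.exists_evalHom_complete` from `Fin d` to any finite index type `σ`
(in particular `Unit`, i.e. `PowerSeries`).
-/

set_option autoImplicit false
set_option linter.unusedSectionVars false
universe u

namespace Groth.Agent.H47.PSEvalGen

open MvPowerSeries

section Eval

variable {k : Type*} {R : Type*} [CommRing k] [CommRing R] [Algebra k R]
  (I : Ideal R) {σ : Type*} [Finite σ]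

theorem aeval_mem_pow (b : σ → R) (hb : ∀ i, b i ∈ I) (n : ℕ)
    (q : MvPolynomial σ k) (hq : q ∈ (MvPolynomial.idealOfVars σ k) ^ n) :
    MvPolynomial.aeval b q ∈ I ^ n := by
  have h1 : Ideal.map (MvPolynomial.aeval b : MvPolynomial σ k →ₐ[k] R)
      (MvPolynomial.idealOfVars σ k) ≤ I := by
    rw [MvPolynomial.idealOfVars, Ideal.map_span, Ideal.span_le]
    rintro _ ⟨_, ⟨i, rfl⟩, rfl⟩
    change (MvPolynomial.aeval b) (MvPolynomial.X i) ∈ _
    rw [MvPolynomial.aeval_X]
    exact hb i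
  have h2 : (MvPolynomial.aeval b : MvPolynomial σ k →ₐ[k] R) q ∈
      Ideal.map (MvPolynomial.aeval b : MvPolynomial σ k →ₐ[k] R)
        ((MvPolynomial.idealOfVars σ k) ^ n) :=
    Ideal.mem_map_of_mem _ hq
  rw [Ideal.map_pow] at h2
  exact Ideal.pow_right_mono h1 n h2

/-- evaluation of power series at elements of `I`, for `R` an `I`-adically complete ring. -/
theorem exists_evalHom_complete [IsAdicComplete I R] (b : σ → R)
    (hb : ∀ i, b i ∈ I) :
    ∃ ψ : MvPowerSeries σ k →ₐ[k] R, ∀ i, ψ (MvPowerSeries.X i) = b i := by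
  classical
  let ψ₀ : MvPolynomial σ k →ₐ[k] R := MvPolynomial.aeval b
  have h₀ : ∀ n : ℕ, ∀ q ∈ (MvPolynomial.idealOfVars σ k) ^ n,
      ((Ideal.Quotient.mkₐ k (I ^ n)).comp ψ₀) q = 0 := by
    intro n q hq
    change Ideal.Quotient.mk (I ^ n) (ψ₀ q) = 0
    rw [Ideal.Quotient.eq_zero_iff_mem]
    exact aeval_mem_pow I b hb n q hq
  let f : (n : ℕ) → MvPowerSeries σ k →ₐ[k] R ⧸ I ^ n := fun n =>
    (Ideal.Quotient.liftₐ ((MvPolynomial.idealOfVars σ k) ^ n)
      ((Ideal.Quotient.mkₐ k (I ^ n)).comp ψ₀) (h₀ n)).comp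
      ((MvPowerSeries.truncTotalAlgHom σ k n).restrictScalars k)
  have hfapp : ∀ n p, f n p = Ideal.Quotient.mk (I ^ n) (ψ₀ (MvPowerSeries.truncTotal n p)) :=
    fun n p => rfl
  have hf : ∀ {m n : ℕ} (hle : m ≤ n),
      (Ideal.Quotient.factorₐ k (Ideal.pow_le_pow_right hle)).comp (f n) = f m := by
    intro m n hle
    apply AlgHom.ext
    intro p
    rw [AlgHom.comp_apply, hfapp, hfapp]
    change Ideal.Quotient.mk (I ^ m) _ = _
    rw [Ideal.Quotient.mk_eq_mk_iff_sub_mem, ← map_sub]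
    exact aeval_mem_pow I b hb m _
      (MvPowerSeries.truncTotal_sub_truncTotal_mem_pow_idealOfVars hle le_rfl p)
  refine ⟨IsAdicComplete.liftAlgHom I f hf, fun i => ?_⟩
  have hX : ∀ n, Ideal.Quotient.mk (I ^ n) (IsAdicComplete.liftAlgHom I f hf (X i)) =
      Ideal.Quotient.mk (I ^ n) (b i) := by
    intro n
    rw [IsAdicComplete.mk_liftAlgHom, hfapp, Ideal.Quotient.mk_eq_mk_iff_sub_mem]
    have h1 : ψ₀ (MvPolynomial.X i) = b i := MvPolynomial.aeval_X _ _
    rw [← h1, ← map_sub]
    apply aeval_mem_pow I b hb n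
    have := (MvPowerSeries.truncTotalAlgHom σ k n).commutes (MvPolynomial.X i)
    have h5 : algebraMap (MvPolynomial σ k) (MvPowerSeries σ k) (MvPolynomial.X i) =
        (X i : MvPowerSeries σ k) := by
      rw [MvPowerSeries.algebraMap_apply', Algebra.algebraMap_self, MvPowerSeries.map_id]
      exact MvPolynomial.coe_X i
    rw [h5] at this
    change Ideal.Quotient.mk _ (MvPowerSeries.truncTotal n (X i)) = Ideal.Quotient.mk _ _ at this
    rwa [Ideal.Quotient.mk_eq_mk_iff_sub_mem] at this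
  have hH : IsHausdorff I R := inferInstance
  rw [← sub_eq_zero]
  apply hH.haus'
  intro n
  rw [SModEq.zero, smul_eq_mul, Ideal.mul_top]
  have := hX n
  rwa [Ideal.Quotient.mk_eq_mk_iff_sub_mem] at this

end Eval

end Groth.Agent.H47.PSEvalGen
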