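import Mathlib
import Groth.Agent.H47.PSEvalGen
import Groth.Agent.H61.PSBasic
import Groth.Agent.H61.PSComplete

/-!
# Ring homomorphisms out of power series rings

Existence (`exists_evalHom`), uniqueness (`ringHom_ext`) and a surjectivity criterion
(`surjective_of_gens`) for ring homomorphisms `Λ[[X_1..X_n]] → C` into an adically complete ring.
-/

set_option autoImplicit false
universe u

namespace Groth.Agent.H47.PSHom

open IsLocalRing MvPowerSeries

/-- Evaluation of power series over a ring homomorphism `v : Λ → C`. -/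
theorem exists_evalHom {Λ D : Type*} [CommRing Λ] [CommRing D] (I : Ideal D) [IsAdicComplete I D]
    (v : Λ →+* D) {σ : Type*} [Finite σ] (c : σ → D) (hc : ∀ i, c i ∈ I) :
    ∃ f : MvPowerSeries σ Λ →+* D, (∀ a, f (C a) = v a) ∧ ∀ i, f (X i) = c i := by
  letI : Algebra Λ D := v.toAlgebra
  obtain ⟨ψ, hψ⟩ := Groth.Agent.H47.PSEvalGen.exists_evalHom_complete (k := Λ) I c hc
  refine ⟨ψ.toRingHom, fun a => ?_, hψ⟩
  have h1 : (C a : MvPowerSeries σ Λ) = algebraMap Λ (MvPowerSeries σ Λ) a := by
    rw [MvPowerSeries.algebraMap_apply, Algebra.algebraMap_self, RingHom.id_apply]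
  show ψ (C a) = v a
  rw [h1, ψ.commutes]
  rfl

/-- Ring homomorphisms out of a power series ring into a separated ring are determined by their
values on constants and variables. -/
theorem ringHom_ext {Λ D : Type*} [CommRing Λ] [CommRing D] {σ : Type*} [Finite σ] (I : Ideal D)
    (hI : ⨅ n : ℕ, I ^ n = ⊥) (f g : MvPowerSeries σ Λ →+* D)
    (hC : ∀ a, f (MvPowerSeries.C a) = g (MvPowerSeries.C a))
    (hX : ∀ i, f (X i) = g (X i)) (hfI : ∀ i, f (X i) ∈ I) : f = g := by
  classical
  have hpoly : ∀ q : MvPolynomial σ Λ, f (q : MvPowerSeries σ Λ) = g (q : MvPowerSeries σ Λ) := by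
    intro q
    have h1 : f.comp (MvPolynomial.coeToMvPowerSeries.ringHom (R := Λ) (σ := σ)) =
        g.comp (MvPolynomial.coeToMvPowerSeries.ringHom (R := Λ) (σ := σ)) := by
      apply MvPolynomial.ringHom_ext
      · intro a
        simpa using hC a
      · intro i
        simpa using hX i
    exact congrArg (fun φ => φ q) h1
  have hpow : ∀ h : MvPowerSeries σ Λ →+* D, (∀ i, h (X i) ∈ I) → ∀ N : ℕ,
      ∀ F ∈ (Ideal.span (Set.range (X : σ → MvPowerSeries σ Λ))) ^ N, h F ∈ I ^ N := by
    intro h hh N F hF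
    have h1 : (Ideal.span (Set.range (X : σ → MvPowerSeries σ Λ))).map h ≤ I := by
      rw [Ideal.map_span, Ideal.span_le]
      rintro _ ⟨_, ⟨i, rfl⟩, rfl⟩
      exact hh i
    have h2 := Ideal.mem_map_of_mem h hF
    rw [Ideal.map_pow] at h2
    exact Ideal.pow_right_mono h1 N h2
  ext F
  have key : ∀ N : ℕ, f F - g F ∈ I ^ N := by
    intro N
    have hrem : F - (truncTotal N F : MvPowerSeries σ Λ) ∈
        (Ideal.span (Set.range (X : σ → MvPowerSeries σ Λ))) ^ N := by
      apply Groth.Agent.H61.mem_span_X_pow_of_coeff_eq_zero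
      intro α hα
      rw [map_sub, MvPolynomial.coeff_coe, coeff_truncTotal _ hα, sub_self]
    have h1 := hpow f hfI N _ hrem
    have h2 := hpow g (fun i => hX i ▸ hfI i) N _ hrem
    have h3 : f F - g F = f (F - (truncTotal N F : MvPowerSeries σ Λ)) -
        g (F - (truncTotal N F : MvPowerSeries σ Λ)) := by
      rw [map_sub, map_sub, hpoly]
      ring
    rw [h3]
    exact Ideal.sub_mem _ h1 h2
  have h4 : f F - g F ∈ ⨅ n : ℕ, I ^ n := by
    rw [Ideal.mem_iInf]
    exact key
  rw [hI, Ideal.mem_bot, sub_eq_zero] at h4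
  exact h4

/-- Surjectivity criterion for maps out of power series rings over complete local rings. -/
theorem surjective_of_gens {Λ R : Type u} [CommRing Λ] [IsLocalRing Λ] [IsNoetherianRing Λ]
    [IsAdicComplete (maximalIdeal Λ) Λ] [CommRing R] [IsLocalRing R]
    [IsHausdorff (maximalIdeal R) R] (n : ℕ) (f : MvPowerSeries (Fin n) Λ →+* R)
    (hres : Function.Surjective fun a : Λ => residue R (f (C a)))
    (hgen : maximalIdeal R ≤ (maximalIdeal (MvPowerSeries (Fin n) Λ)).map f) :
    Function.Surjective f := by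
  set P := MvPowerSeries (Fin n) Λ
  let I : Ideal P := maximalIdeal P
  let ρ : P →+* ResidueField R := (residue R).comp f
  have hρ : Function.Surjective ρ := by
    intro y
    obtain ⟨a, ha⟩ := hres y
    exact ⟨C a, ha⟩
  have hker : RingHom.ker ρ = I := by
    have := RingHom.ker_isMaximal_of_surjective ρ hρ
    exact IsLocalRing.eq_maximalIdeal inferInstance
  have hle : I.map f ≤ maximalIdeal R := by
    rw [Ideal.map_le_iff_le_comap]
    intro g hg
    rw [← hker] at hg
    have h1 : residue R (f g) = 0 := hg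
    exact (residue_eq_zero_iff _).1 h1
  have heq : I.map f = maximalIdeal R := le_antisymm hle hgen
  haveI : IsAdicComplete I P := Groth.Agent.H61.ps_isAdicComplete n
  haveI : IsHausdorff (I.map f) R := by rw [heq]; infer_instance
  apply surjective_of_mk_map_comp_surjective (I := I) f
  intro y
  obtain ⟨r, rfl⟩ := Ideal.Quotient.mk_surjective y
  obtain ⟨a, ha⟩ := hres (residue R r)
  refine ⟨C a, ?_⟩
  show Ideal.Quotient.mk _ (f (C a)) = Ideal.Quotient.mk _ r
  rw [Ideal.Quotient.eq, heq, ← residue_eq_zero_iff, map_sub, sub_eq_zero]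
  exact ha

end Groth.Agent.H47.PSHom
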