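import Mathlib
import Groth.Prelude.Def_Found
import Groth.Prelude.Def_EGA41
import Groth.Agent.H47.PSFlat
import Groth.Agent.H47.PSHom
import Groth.Agent.H47.CohenLift
import Groth.Agent.H96.CohenStruct
import Groth.Agent.S0578
import Groth.Agent.S0579
import Groth.Agent.Lead.RegularLocalization

/-!
# Flat Cohen presentations of local homomorphisms of complete local rings (S2053)
-/

set_option autoImplicit false
universe u

namespace Groth.Agent.H47.CohenPres

open IsLocalRing MvPowerSeries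

/-- Coefficient-ring data: a complete Noetherian local ring with `𝔪 = (p)` which is a field of
characteristic zero (`p = 0`, `e = 0`) or a Cohen ring (`e = 1`). -/
structure IsCoeff (Λ : Type u) [CommRing Λ] [IsLocalRing Λ] (p e : ℕ) : Prop where
  noeth : IsNoetherianRing Λ
  complete : IsAdicComplete (maximalIdeal Λ) Λ
  hm : maximalIdeal Λ = Ideal.span {(p : Λ)}
  hdim : ringKrullDim Λ = e
  he : e = 0 → (p : Λ) = 0
  cm : LocCoh.IsCohenMacaulayLocalRing Λ
  ega : EGA41.IsCohenRingEGA Λ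
  cases : (p = 0 ∧ IsField Λ) ∨ (p ≠ 0 ∧ CAlg.IsCohenRing Λ)

/-- dimension of the coefficient ring of residue characteristic `p`. -/
def dimOf (p : ℕ) : ℕ := if p = 0 then 0 else 1

theorem natCast_mem_maximalIdeal (A : Type u) [CommRing A] [IsLocalRing A] (p : ℕ)
    [CharP (ResidueField A) p] : (p : A) ∈ maximalIdeal A := by
  rw [← residue_eq_zero_iff, map_natCast]
  exact CharP.cast_eq_zero _ p

theorem exists_coeff (A : Type u) [CommRing A] [IsLocalRing A]
    [IsAdicComplete (maximalIdeal A) A] (p : ℕ) [hp : CharP (ResidueField A) p] :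
    ∃ (Λ : Type u) (_ : CommRing Λ) (_ : IsLocalRing Λ) (v : Λ →+* A),
      IsCoeff Λ p (dimOf p) ∧ IsLocalHom v ∧
        Function.Surjective fun a : Λ => residue A (v a) := by
  rcases CharP.char_is_prime_or_zero (ResidueField A) p with hpp | hp0
  · -- a Cohen ring
    haveI : Fact p.Prime := ⟨hpp⟩
    obtain ⟨Λ, hΛ1, hΛ2, hW, ⟨e⟩⟩ := Groth.Agent.S0578.result p (ResidueField A)
    obtain ⟨hdom, hdvr, hcomp, p', hp', hm⟩ := id hW
    have hpΛ : (p : Λ) ∈ maximalIdeal Λ := by
      rw [← residue_eq_zero_iff, map_natCast]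
      apply e.injective
      rw [map_natCast, map_zero]
      exact CharP.cast_eq_zero _ p
    have hp'Λ : (p' : Λ) ∈ maximalIdeal Λ := hm ▸ Ideal.mem_span_singleton_self _
    have hpeq : p' = p := by
      by_contra hne
      have hcop : Nat.Coprime p' p := (Nat.coprime_primes hp' hpp).2 hne
      obtain ⟨a, b, hab⟩ := Nat.isCoprime_iff_coprime.2 hcop
      have h1 : (1 : Λ) ∈ maximalIdeal Λ := by
        have h2 : ((a * (p' : ℤ) + b * (p : ℤ) : ℤ) : Λ) = 1 := by rw [hab]; simp
        rw [← h2]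
        push_cast
        exact Ideal.add_mem _ (Ideal.mul_mem_left _ _ hp'Λ) (Ideal.mul_mem_left _ _ hpΛ)
      exact (maximalIdeal.isMaximal Λ).ne_top ((Ideal.eq_top_iff_one _).2 h1)
    subst hpeq
    let u : Λ →+* A ⧸ maximalIdeal A :=
      (e.toRingHom : ResidueField Λ →+* ResidueField A).comp (residue Λ)
    have hu0 : ∀ x ∈ maximalIdeal Λ, u x = 0 := by
      intro x hx
      show e (residue Λ x) = 0
      rw [(residue_eq_zero_iff x).2 hx, map_zero]
    obtain ⟨v, hv⟩ := Groth.Agent.H96.CohenStruct.exists_lift_cohen_residue hW u hu0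
    have hp1 : dimOf p' = 1 := by
      unfold dimOf
      rw [if_neg hp'.ne_zero]
    refine ⟨Λ, hΛ1, hΛ2, v, ⟨inferInstance, hcomp, hm, ?_, ?_, ?_, Or.inr hW,
      Or.inr ⟨hp'.ne_zero, hW⟩⟩, ⟨?_⟩, ?_⟩
    · rw [hp1, Nat.cast_one]
      exact IsPrincipalIdealRing.ringKrullDim_eq_one Λ (IsDiscreteValuationRing.not_isField Λ)
    · intro h0
      rw [hp1] at h0
      exact absurd h0 one_ne_zero
    · exact Groth.Agent.H29.ComplCat.isCM_of_isCohenRing Λ hW
    · intro x hx
      by_contra hnu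
      have hxm : x ∈ maximalIdeal Λ := (mem_maximalIdeal x).2 (mem_nonunits_iff.2 hnu)
      rw [hm, Ideal.mem_span_singleton] at hxm
      obtain ⟨y, rfl⟩ := hxm
      have h1 : v ((p' : Λ) * y) ∈ maximalIdeal A := by
        rw [map_mul, map_natCast]
        exact Ideal.mul_mem_right _ _ (natCast_mem_maximalIdeal A p')
      exact (mem_maximalIdeal _).1 h1 hx
    · intro y
      obtain ⟨z, hz⟩ := e.surjective y
      obtain ⟨a, rfl⟩ := residue_surjective z
      refine ⟨a, ?_⟩
      have h1 : (Ideal.Quotient.mk (maximalIdeal A)).comp v = u := hv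
      have h2 := congrArg (fun φ => φ a) h1
      exact h2.trans hz
  · -- a coefficient field
    subst hp0
    have : CharZero (ResidueField A) := CharP.charP_to_charZero _
    obtain ⟨s, hs⟩ := Groth.Agent.S0579.result A
    have hcomp : IsAdicComplete (maximalIdeal (ResidueField A)) (ResidueField A) := by
      rw [maximalIdeal_eq_bot]
      infer_instance
    have h0 : dimOf 0 = 0 := rfl
    refine ⟨ResidueField A, inferInstance, inferInstance, s, ⟨inferInstance, hcomp, ?_, ?_, ?_, ?_,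
      Or.inl ⟨Field.toIsField _, inferInstance⟩, Or.inl ⟨rfl, Field.toIsField _⟩⟩, ⟨?_⟩, ?_⟩
    · rw [maximalIdeal_eq_bot, Nat.cast_zero, eq_comm, Ideal.span_singleton_eq_bot]
    · rw [h0, Nat.cast_zero]
      exact ringKrullDim_eq_zero_of_field _
    · intro _
      exact Nat.cast_zero
    · exact Groth.Agent.H29.ComplCat.isCM_of_isField _ (Field.toIsField _)
    · intro x hx
      have hx0 : x ≠ 0 := by
        rintro rfl
        rw [map_zero] at hx
        exact not_isUnit_zero hx
      exact IsUnit.mk0 x hx0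
    · intro y
      exact ⟨y, congrArg (fun φ => φ y) hs⟩

theorem exists_fin_gens (A : Type u) [CommRing A] [IsLocalRing A] [IsNoetherianRing A] :
    ∃ (n : ℕ) (a : Fin n → A), maximalIdeal A = Ideal.span (Set.range a) := by
  classical
  obtain ⟨s, hs⟩ := (isNoetherianRing_iff_ideal_fg A).1 inferInstance (maximalIdeal A)
  refine ⟨s.card, fun i => (s.equivFin.symm i : A), ?_⟩
  rw [← hs]
  congr 1
  ext x
  constructor
  · intro hx
    exact ⟨s.equivFin ⟨x, hx⟩, by simp⟩
  · rintro ⟨i, rfl⟩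
    exact (s.equivFin.symm i).2

theorem isRegularRing_of_isRegularLocalRing (T : Type u) [CommRing T] [IsRegularLocalRing T] :
    IsRegularRing T :=
  ⟨fun P _ => Groth.Agent.Lead.RLR.isRegularLocalRing_localization T P⟩

/-- **S2053**: flat Cohen presentation of a local homomorphism of complete local rings. -/
theorem main {A B : Type u} [CommRing A] [CommRing B]
    [IsLocalRing A] [IsLocalRing B] [IsNoetherianRing A] [IsNoetherianRing B]
    [IsAdicComplete (maximalIdeal A) A] [IsAdicComplete (maximalIdeal B) B]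
    [Algebra A B] [IsLocalHom (algebraMap A B)] :
    ∃ (Λ Λ' : Type u) (_ : CommRing Λ) (_ : CommRing Λ') (_ : IsLocalRing Λ) (n m : ℕ)
      (ρ : MvPowerSeries (Fin n) Λ →+* A) (σ : MvPowerSeries (Fin m) Λ' →+* B)
      (τ : MvPowerSeries (Fin n) Λ →+* MvPowerSeries (Fin m) Λ'),
      ((CharZero (ResidueField A) ∧ IsField Λ ∧ IsField Λ') ∨
        (¬ CharZero (ResidueField A) ∧ CAlg.IsCohenRing Λ ∧ CAlg.IsCohenRing Λ')) ∧
        Function.Surjective ρ ∧ Function.Surjective σ ∧ σ.comp τ = (algebraMap A B).comp ρ ∧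
        τ.Flat ∧ IsRegularRing (MvPowerSeries (Fin m) Λ' ⧸
          (maximalIdeal (MvPowerSeries (Fin n) Λ)).map τ) := by
  obtain ⟨p, hp⟩ := CharP.exists (ResidueField A)
  haveI : CharP (ResidueField B) p :=
    (RingHom.charP_iff (ResidueField.map (algebraMap A B))
      (ResidueField.map (algebraMap A B)).injective p).1 hp
  obtain ⟨Λ, _, _, v, hΛ, hvloc, hv⟩ := exists_coeff A p
  obtain ⟨Λ', _, _, v', hΛ', hv'loc, hv'⟩ := exists_coeff B p
  haveI := hΛ.noeth
  haveI := hΛ.complete
  haveI := hΛ'.noeth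
  haveI := hΛ'.complete
  obtain ⟨n, a, ha⟩ := exists_fin_gens A
  obtain ⟨m, b, hb⟩ := exists_fin_gens B
  have ham : ∀ i, a i ∈ maximalIdeal A := fun i => ha ▸ Ideal.subset_span ⟨i, rfl⟩
  have hbm : ∀ i, b i ∈ maximalIdeal B := fun i => hb ▸ Ideal.subset_span ⟨i, rfl⟩
  -- the presentation of `A`
  obtain ⟨ρ, hρC, hρX⟩ := Groth.Agent.H47.PSHom.exists_evalHom (maximalIdeal A) v a ham
  have hρs : Function.Surjective ρ := by
    apply Groth.Agent.H47.PSHom.surjective_of_gens n ρ
    · simpa only [hρC] using hv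
    · rw [ha, Ideal.span_le]
      rintro _ ⟨i, rfl⟩
      rw [← hρX i]
      exact Ideal.mem_map_of_mem _ (Groth.Agent.H47.PSReg.X_mem_maximalIdeal i)
  -- the presentation of `B`
  let c : Fin (n + m) → B := Fin.append (fun i => algebraMap A B (a i)) b
  have hc : ∀ j, c j ∈ maximalIdeal B := by
    intro j
    induction j using Fin.addCases with
    | left i =>
      show Fin.append _ _ _ ∈ _
      rw [Fin.append_left]
      rw [mem_maximalIdeal, mem_nonunits_iff]
      intro hu
      exact (mem_maximalIdeal _).1 (ham i) (isUnit_of_map_unit (algebraMap A B) _ hu)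
    | right i =>
      show Fin.append _ _ _ ∈ _
      rw [Fin.append_right]
      exact hbm i
  obtain ⟨σ, hσC, hσX⟩ := Groth.Agent.H47.PSHom.exists_evalHom (maximalIdeal B) v' c hc
  have hσs : Function.Surjective σ := by
    apply Groth.Agent.H47.PSHom.surjective_of_gens (n + m) σ
    · simpa only [hσC] using hv'
    · rw [hb, Ideal.span_le]
      rintro _ ⟨i, rfl⟩
      have h1 : b i = σ (X (Fin.natAdd n i)) := by
        rw [hσX]
        show b i = Fin.append _ _ _
        rw [Fin.append_right]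
      rw [h1]
      exact Ideal.mem_map_of_mem _ (Groth.Agent.H47.PSReg.X_mem_maximalIdeal _)
  -- lifting the constants
  haveI : IsAdicComplete (maximalIdeal (MvPowerSeries (Fin (n + m)) Λ'))
      (MvPowerSeries (Fin (n + m)) Λ') := Groth.Agent.H61.ps_isAdicComplete (n + m)
  have hJ : RingHom.ker σ ≠ ⊤ := RingHom.ker_ne_top σ
  let eq : (MvPowerSeries (Fin (n + m)) Λ' ⧸ RingHom.ker σ) ≃+* B :=
    RingHom.quotientKerEquivOfSurjective hσs
  haveI : Nontrivial (MvPowerSeries (Fin (n + m)) Λ' ⧸ RingHom.ker σ) :=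
    Ideal.Quotient.nontrivial_iff.2 hJ
  haveI : IsLocalRing (MvPowerSeries (Fin (n + m)) Λ' ⧸ RingHom.ker σ) :=
    IsLocalRing.of_surjective' (Ideal.Quotient.mk (RingHom.ker σ)) Ideal.Quotient.mk_surjective
  let u : Λ →+* (MvPowerSeries (Fin (n + m)) Λ' ⧸ RingHom.ker σ) :=
    (eq.symm : B →+* _).comp ((algebraMap A B).comp v)
  have hequ : ∀ x, eq (u x) = algebraMap A B (v x) := fun x => eq.apply_symm_apply _
  haveI : IsLocalHom u := by
    constructor
    intro x hx
    have h1 : IsUnit (eq (u x)) := hx.map eq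
    rw [hequ] at h1
    exact hvloc.map_nonunit x (isUnit_of_map_unit (algebraMap A B) _ h1)
  obtain ⟨w, -, hw⟩ := Groth.Agent.H47.CohenLift.exists_lift_cohen hΛ.ega (RingHom.ker σ) hJ u
  have hσw : ∀ x, σ (w x) = algebraMap A B (v x) := by
    intro x
    rw [← hequ, ← hw]
    rfl
  -- the map `τ`
  obtain ⟨τ, hτC, hτX⟩ := Groth.Agent.H47.PSHom.exists_evalHom
    (maximalIdeal (MvPowerSeries (Fin (n + m)) Λ')) w
    (fun i : Fin n => (X (Fin.castAdd m i) : MvPowerSeries (Fin (n + m)) Λ'))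
    (fun i => Groth.Agent.H47.PSReg.X_mem_maximalIdeal _)
  have hcomm : σ.comp τ = (algebraMap A B).comp ρ := by
    apply Groth.Agent.H47.PSHom.ringHom_ext (maximalIdeal B)
      (Ideal.iInf_pow_eq_bot_of_isLocalRing _ Ideal.IsPrime.ne_top')
    · intro x
      rw [RingHom.comp_apply, RingHom.comp_apply, hτC, hσw, hρC]
    · intro i
      rw [RingHom.comp_apply, RingHom.comp_apply, hτX, hσX, hρX]
      show Fin.append _ _ _ = _
      rw [Fin.append_left]
    · intro i
      rw [RingHom.comp_apply, hτX, hσX]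
      exact hc _
  obtain ⟨hflat, -, -, hreg, -⟩ := Groth.Agent.H47.PSFlat.core p (dimOf p) hΛ.hm hΛ'.hm hΛ.hdim
    hΛ'.hdim hΛ.he hΛ'.he hΛ'.cm n m τ hτX
  refine ⟨Λ, Λ', inferInstance, inferInstance, inferInstance, n, n + m, ρ, σ, τ, ?_, hρs, hσs,
    hcomm, hflat, isRegularRing_of_isRegularLocalRing _⟩
  rcases hΛ.cases with ⟨h0, hf⟩ | ⟨h0, hW⟩
  · left
    subst h0
    refine ⟨CharP.charP_to_charZero _, hf, ?_⟩
    rcases hΛ'.cases with ⟨_, hf'⟩ | ⟨h0', _⟩
    · exact hf'
    · exact absurd rfl h0'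
  · right
    refine ⟨fun hcz => h0 (CharP.eq (ResidueField A) hp (CharP.ofCharZero _)), hW, ?_⟩
    rcases hΛ'.cases with ⟨h0', _⟩ | ⟨_, hW'⟩
    · exact absurd h0' h0
    · exact hW'

end Groth.Agent.H47.CohenPres
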