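import Mathlib
import Groth.Agent.H47.CohenPres
import Groth.Agent.H61.QuotComplete
import Groth.Agent.H20.ComplNoeth2
import Groth.Agent.Lead.RegularGlDim
import Groth.Agent.Lead.RegularLocal3

/-!
# Flat complete lifts with prescribed regular closed fibre (EGA 0_IV, S4514)

`A` Noetherian local with residue field `k`, `B₀` a complete regular local `k`-algebra: there is a
complete Noetherian local flat `A`-algebra `B` with `k ⊗_A B ≅ B₀`.
-/

set_option autoImplicit false
set_option linter.style.haveILetI false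
universe u

namespace Groth.Agent.H47.FlatLift

open IsLocalRing MvPowerSeries TensorProduct

/-- From a surjection `g : B → B₀` with kernel `𝔪_A B` to the fibre isomorphism. -/
theorem nonempty_fiber_algEquiv {A B B₀ : Type u} [CommRing A] [IsLocalRing A] [CommRing B]
    [Algebra A B] [CommRing B₀] [Algebra (ResidueField A) B₀]
    (g : B →+* B₀) (hg : Function.Surjective g)
    (hker : RingHom.ker g = (maximalIdeal A).map (algebraMap A B))
    (hcomp : ∀ a, g (algebraMap A B a) = algebraMap (ResidueField A) B₀ (residue A a)) :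
    Nonempty (ResidueField A ⊗[A] B ≃ₐ[ResidueField A] B₀) := by
  let e1 : (B ⧸ (maximalIdeal A).map (algebraMap A B)) ≃ₐ[A ⧸ maximalIdeal A]
      (A ⧸ maximalIdeal A) ⊗[A] B :=
    Algebra.TensorProduct.quotIdealMapEquivQuotTensor B (maximalIdeal A)
  let r1 : ResidueField A ⊗[A] B ≃+* (B ⧸ (maximalIdeal A).map (algebraMap A B)) :=
    e1.symm.toRingEquiv
  have hr1 : ∀ a : A, r1 (algebraMap (ResidueField A) (ResidueField A ⊗[A] B) (residue A a)) =
      Ideal.Quotient.mk _ (algebraMap A B a) := by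
    intro a
    exact AlgEquiv.commutes e1.symm (Ideal.Quotient.mk (maximalIdeal A) a)
  let e2 : (B ⧸ (maximalIdeal A).map (algebraMap A B)) ≃+* B₀ :=
    (Ideal.quotEquivOfEq hker.symm).trans (RingHom.quotientKerEquivOfSurjective hg)
  have he2 : ∀ b, e2 (Ideal.Quotient.mk _ b) = g b := fun b => rfl
  refine ⟨AlgEquiv.ofRingEquiv (f := r1.trans e2) ?_⟩
  intro r
  obtain ⟨a, rfl⟩ := residue_surjective r
  rw [RingEquiv.trans_apply, hr1]
  exact (he2 _).trans (hcomp a)

/-- Base change of a flat map along a surjection. -/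
theorem exists_flat_quotient {R S A' : Type u} [CommRing R] [CommRing S] [CommRing A']
    (τ : R →+* S) (hτ : τ.Flat) (ρ : R →+* A') (hρ : Function.Surjective ρ) :
    ∃ φ : A' →+* S ⧸ (RingHom.ker ρ).map τ, φ.Flat ∧
      ∀ r, φ (ρ r) = Ideal.Quotient.mk _ (τ r) := by
  let e : R ⧸ RingHom.ker ρ ≃+* A' := RingHom.quotientKerEquivOfSurjective hρ
  let qm : R ⧸ RingHom.ker ρ →+* S ⧸ (RingHom.ker ρ).map τ :=
    Ideal.quotientMap ((RingHom.ker ρ).map τ) τ Ideal.le_comap_map
  have hqm : qm.Flat := by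
    algebraize [τ]
    have h1 : Module.Flat (R ⧸ RingHom.ker ρ) (S ⧸ (RingHom.ker ρ).map (algebraMap R S)) :=
      Module.Flat.of_linearEquiv
        (Algebra.TensorProduct.quotIdealMapEquivQuotTensor S (RingHom.ker ρ)).toLinearEquiv
    exact RingHom.flat_algebraMap_iff.2 h1
  refine ⟨qm.comp (e.symm : A' →+* R ⧸ RingHom.ker ρ),
    (RingHom.Flat.of_bijective e.symm.bijective).comp hqm, ?_⟩
  intro r
  have h2 : e.symm (ρ r) = Ideal.Quotient.mk (RingHom.ker ρ) r := by
    rw [RingEquiv.symm_apply_eq]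
    rfl
  show qm (e.symm (ρ r)) = _
  rw [h2]
  rfl

/-- The core construction over a complete base. -/
theorem lift_core {A' B₀ : Type u} [CommRing A'] [IsLocalRing A'] [IsNoetherianRing A']
    [IsAdicComplete (maximalIdeal A') A'] [CommRing B₀] [IsRegularLocalRing B₀]
    [IsAdicComplete (maximalIdeal B₀) B₀] (θ : A' →+* B₀) [IsLocalHom θ]
    (hθ : ∀ x ∈ maximalIdeal A', θ x = 0) :
    ∃ (B : Type u) (_ : CommRing B) (_ : IsLocalRing B) (_ : IsNoetherianRing B)
      (φ : A' →+* B) (g : B →+* B₀),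
      IsAdicComplete (maximalIdeal B) B ∧ φ.Flat ∧ IsLocalHom φ ∧ Function.Surjective g ∧
        RingHom.ker g = (maximalIdeal A').map φ ∧ ∀ x, g (φ x) = θ x := by
  obtain ⟨p, hp⟩ := CharP.exists (ResidueField A')
  haveI : CharP (ResidueField B₀) p :=
    (RingHom.charP_iff (ResidueField.map θ) (ResidueField.map θ).injective p).1 hp
  obtain ⟨Λ, _, _, v, hΛ, hvloc, hv⟩ := Groth.Agent.H47.CohenPres.exists_coeff A' p
  obtain ⟨Λ', _, _, v', hΛ', hv'loc, hv'⟩ := Groth.Agent.H47.CohenPres.exists_coeff B₀ p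
  haveI := hΛ.noeth
  haveI := hΛ.complete
  haveI := hΛ'.noeth
  haveI := hΛ'.complete
  obtain ⟨n, a, ha⟩ := Groth.Agent.H47.CohenPres.exists_fin_gens A'
  have ham : ∀ i, a i ∈ maximalIdeal A' := fun i => ha ▸ Ideal.subset_span ⟨i, rfl⟩
  obtain ⟨d, hd, -⟩ := Groth.Agent.Lead.RLR.exists_ringKrullDim_eq B₀
  obtain ⟨b, hb⟩ := Groth.Agent.Lead.RLR.exists_fin_span_eq B₀ d hd
  have hbm : ∀ i, b i ∈ maximalIdeal B₀ := fun i => hb ▸ Ideal.subset_span ⟨i, rfl⟩
  -- the presentation of `A'`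
  obtain ⟨ρ, hρC, hρX⟩ := Groth.Agent.H47.PSHom.exists_evalHom (maximalIdeal A') v a ham
  have hρs : Function.Surjective ρ := by
    apply Groth.Agent.H47.PSHom.surjective_of_gens n ρ
    · simpa only [hρC] using hv
    · rw [ha, Ideal.span_le]
      rintro _ ⟨i, rfl⟩
      rw [← hρX i]
      exact Ideal.mem_map_of_mem _ (Groth.Agent.H47.PSReg.X_mem_maximalIdeal i)
  -- the presentation of `B₀`
  let c : Fin (n + d) → B₀ := Fin.append (fun _ => 0) b
  have hcl : ∀ i : Fin n, c (Fin.castAdd d i) = 0 := fun i => Fin.append_left _ _ i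
  have hcr : ∀ j : Fin d, c (Fin.natAdd n j) = b j := fun j => Fin.append_right _ _ j
  have hc : ∀ j, c j ∈ maximalIdeal B₀ := by
    intro j
    induction j using Fin.addCases with
    | left i => rw [hcl]; exact Ideal.zero_mem _
    | right i => rw [hcr]; exact hbm i
  obtain ⟨σ, hσC, hσX⟩ := Groth.Agent.H47.PSHom.exists_evalHom (maximalIdeal B₀) v' c hc
  have hσs : Function.Surjective σ := by
    apply Groth.Agent.H47.PSHom.surjective_of_gens (n + d) σ
    · simpa only [hσC] using hv'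
    · rw [← hb, Ideal.span_le]
      rintro _ ⟨i, rfl⟩
      have h1 : b i = σ (X (Fin.natAdd n i)) := by rw [hσX, hcr]
      rw [h1]
      exact Ideal.mem_map_of_mem _ (Groth.Agent.H47.PSReg.X_mem_maximalIdeal _)
  -- lifting the constants
  haveI : IsAdicComplete (maximalIdeal (MvPowerSeries (Fin (n + d)) Λ'))
      (MvPowerSeries (Fin (n + d)) Λ') := Groth.Agent.H61.ps_isAdicComplete (n + d)
  have hJ : RingHom.ker σ ≠ ⊤ := RingHom.ker_ne_top σ
  let eq : (MvPowerSeries (Fin (n + d)) Λ' ⧸ RingHom.ker σ) ≃+* B₀ :=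
    RingHom.quotientKerEquivOfSurjective hσs
  haveI : Nontrivial (MvPowerSeries (Fin (n + d)) Λ' ⧸ RingHom.ker σ) :=
    Ideal.Quotient.nontrivial_iff.2 hJ
  haveI : IsLocalRing (MvPowerSeries (Fin (n + d)) Λ' ⧸ RingHom.ker σ) :=
    IsLocalRing.of_surjective' (Ideal.Quotient.mk (RingHom.ker σ)) Ideal.Quotient.mk_surjective
  let u : Λ →+* (MvPowerSeries (Fin (n + d)) Λ' ⧸ RingHom.ker σ) :=
    (eq.symm : B₀ →+* _).comp (θ.comp v)
  have hequ : ∀ x, eq (u x) = θ (v x) := fun x => eq.apply_symm_apply _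
  haveI : IsLocalHom u := by
    constructor
    intro x hx
    have h1 : IsUnit (eq (u x)) := hx.map eq
    rw [hequ] at h1
    exact hvloc.map_nonunit x (isUnit_of_map_unit θ _ h1)
  obtain ⟨w, -, hw⟩ := Groth.Agent.H47.CohenLift.exists_lift_cohen hΛ.ega (RingHom.ker σ) hJ u
  have hσw : ∀ x, σ (w x) = θ (v x) := by
    intro x
    rw [← hequ, ← hw]
    rfl
  -- the map `τ`
  obtain ⟨τ, hτC, hτX⟩ := Groth.Agent.H47.PSHom.exists_evalHom
    (maximalIdeal (MvPowerSeries (Fin (n + d)) Λ')) w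
    (fun i : Fin n => (X (Fin.castAdd d i) : MvPowerSeries (Fin (n + d)) Λ'))
    (fun i => Groth.Agent.H47.PSReg.X_mem_maximalIdeal _)
  have hcomm : σ.comp τ = θ.comp ρ := by
    apply Groth.Agent.H47.PSHom.ringHom_ext (maximalIdeal B₀)
      (Ideal.iInf_pow_eq_bot_of_isLocalRing _ Ideal.IsPrime.ne_top')
    · intro x
      rw [RingHom.comp_apply, RingHom.comp_apply, hτC, hσw, hρC]
    · intro i
      rw [RingHom.comp_apply, RingHom.comp_apply, hτX, hσX, hρX, hcl, hθ _ (ham i)]
    · intro i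
      rw [RingHom.comp_apply, hτX, hσX]
      exact hc _
  obtain ⟨hflat, hτloc, hI₀, hQreg, hQdim⟩ := Groth.Agent.H47.PSFlat.core p
    (Groth.Agent.H47.CohenPres.dimOf p) hΛ.hm hΛ'.hm hΛ.hdim hΛ'.hdim hΛ.he hΛ'.he hΛ'.cm n d τ hτX
  -- the kernel of `σ` is `𝔪_R S`
  have hpB₀ : (p : B₀) = 0 := by
    have h1 : (p : B₀) = θ ((p : ℕ) : A') := (map_natCast θ p).symm
    rw [h1]
    exact hθ _ (Groth.Agent.H47.CohenPres.natCast_mem_maximalIdeal A' p)
  have hle : (maximalIdeal (MvPowerSeries (Fin n) Λ)).map τ ≤ RingHom.ker σ := by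
    rw [hI₀, Ideal.span_le]
    rintro g (rfl | ⟨i, rfl⟩)
    · show σ (C ((p : ℕ) : Λ')) = 0
      rw [hσC, map_natCast, hpB₀]
    · show σ (X (Fin.castAdd d i)) = 0
      rw [hσX, hcl]
  have hker : RingHom.ker σ = (maximalIdeal (MvPowerSeries (Fin n) Λ)).map τ := by
    apply le_antisymm _ hle
    let σbar : (MvPowerSeries (Fin (n + d)) Λ' ⧸ (maximalIdeal (MvPowerSeries (Fin n) Λ)).map τ)
        →+* B₀ := Ideal.Quotient.lift _ σ (fun f hf => hle hf)
    have hσbar : Function.Surjective σbar := by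
      intro y
      obtain ⟨f, rfl⟩ := hσs y
      exact ⟨Ideal.Quotient.mk _ f, rfl⟩
    haveI := Groth.Agent.Lead.RLR.isDomain (MvPowerSeries (Fin (n + d)) Λ' ⧸
      (maximalIdeal (MvPowerSeries (Fin n) Λ)).map τ)
    have hP : RingHom.ker σbar = ⊥ := by
      apply Groth.Agent.Lead.RLR.eq_bot_of_ringKrullDim_quotient_eq _ _ d hQdim
      rw [ringKrullDim_eq_of_ringEquiv (RingHom.quotientKerEquivOfSurjective hσbar), hd]
    intro f hf
    have h1 : σbar (Ideal.Quotient.mk _ f) = 0 := hf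
    have h2 : Ideal.Quotient.mk _ f ∈ RingHom.ker σbar := h1
    rw [hP, Ideal.mem_bot, Ideal.Quotient.eq_zero_iff_mem] at h2
    exact h2
  -- the quotient
  obtain ⟨φ, hφflat, hφ⟩ := exists_flat_quotient τ hflat ρ hρs
  have hKle : (RingHom.ker ρ).map τ ≤ RingHom.ker σ := by
    rw [Ideal.map_le_iff_le_comap]
    intro f hf
    have h1 : σ (τ f) = θ (ρ f) := congrArg (fun ψ => ψ f) hcomm
    show σ (τ f) = 0
    rw [h1, (RingHom.mem_ker).1 hf, map_zero]
  have hKne : (RingHom.ker ρ).map τ ≠ ⊤ := fun h => hJ (top_le_iff.1 (h ▸ hKle))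
  haveI : Nontrivial (MvPowerSeries (Fin (n + d)) Λ' ⧸ (RingHom.ker ρ).map τ) :=
    Ideal.Quotient.nontrivial_iff.2 hKne
  haveI : IsLocalRing (MvPowerSeries (Fin (n + d)) Λ' ⧸ (RingHom.ker ρ).map τ) :=
    IsLocalRing.of_surjective' (Ideal.Quotient.mk _) Ideal.Quotient.mk_surjective
  let g : (MvPowerSeries (Fin (n + d)) Λ' ⧸ (RingHom.ker ρ).map τ) →+* B₀ :=
    Ideal.Quotient.lift _ σ (fun f hf => hKle hf)
  have hgφ : ∀ x, g (φ x) = θ x := by
    intro x
    obtain ⟨r, rfl⟩ := hρs x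
    rw [hφ]
    exact congrArg (fun ψ => ψ r) hcomm
  have hmap : (maximalIdeal A').map φ =
      ((maximalIdeal (MvPowerSeries (Fin n) Λ)).map τ).map (Ideal.Quotient.mk _) := by
    have h1 : (maximalIdeal (MvPowerSeries (Fin n) Λ)).map ρ = maximalIdeal A' :=
      IsLocalRing.map_maximalIdeal_of_surjective ρ hρs
    rw [← h1, Ideal.map_map, Ideal.map_map]
    congr 1
    ext r
    exact hφ r
  refine ⟨_, inferInstance, inferInstance, inferInstance, φ, g,
    Groth.Agent.H61.isAdicComplete_quotient _, hφflat, ⟨?_⟩, ?_, ?_, hgφ⟩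
  · -- `φ` is local
    intro x hx
    have h1 : IsUnit (g (φ x)) := hx.map g
    rw [hgφ] at h1
    exact isUnit_of_map_unit θ x h1
  · intro y
    obtain ⟨f, rfl⟩ := hσs y
    exact ⟨Ideal.Quotient.mk _ f, rfl⟩
  · rw [hmap, ← hker]
    apply le_antisymm
    · intro y hy
      obtain ⟨f, rfl⟩ := Ideal.Quotient.mk_surjective y
      exact Ideal.mem_map_of_mem _ ((RingHom.mem_ker).2 hy)
    · rw [Ideal.map_le_iff_le_comap]
      intro f hf
      exact hf

/-- **S4514** (EGA 0_IV): flat complete lift of a complete regular local algebra over the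
residue field. -/
theorem main {A : Type u} [CommRing A] [IsLocalRing A] [IsNoetherianRing A]
    (B₀ : Type u) [CommRing B₀] [IsRegularLocalRing B₀] [IsAdicComplete (maximalIdeal B₀) B₀]
    [Algebra (ResidueField A) B₀] :
    ∃ (B : Type u) (_ : CommRing B) (_ : IsLocalRing B) (_ : IsNoetherianRing B) (_ : Algebra A B)
      (_ : IsLocalHom (algebraMap A B)),
      IsAdicComplete (maximalIdeal B) B ∧ Module.Flat A B ∧
        Nonempty (ResidueField A ⊗[A] B ≃ₐ[ResidueField A] B₀) := by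
  haveI : IsNoetherianRing (AdicCompletion (maximalIdeal A) A) :=
    Groth.Agent.H20.isNoetherianRing_adicCompletion (maximalIdeal A)
  have hbij := AdicCompletion.residueField_map_bijective (R := A)
  let e1 : ResidueField A ≃+* ResidueField (AdicCompletion (maximalIdeal A) A) :=
    RingEquiv.ofBijective _ hbij
  let θ : AdicCompletion (maximalIdeal A) A →+* B₀ :=
    (algebraMap (ResidueField A) B₀).comp
      ((e1.symm : ResidueField (AdicCompletion (maximalIdeal A) A) →+* ResidueField A).comp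
        (residue (AdicCompletion (maximalIdeal A) A)))
  have hθ : ∀ x ∈ maximalIdeal (AdicCompletion (maximalIdeal A) A), θ x = 0 := by
    intro x hx
    show algebraMap _ _ (e1.symm (residue _ x)) = 0
    rw [(residue_eq_zero_iff x).2 hx, map_zero, map_zero]
  haveI : IsLocalHom θ := ⟨fun x hx => by
    by_contra hnu
    have h0 := hθ x ((mem_maximalIdeal x).2 (mem_nonunits_iff.2 hnu))
    rw [h0] at hx
    exact not_isUnit_zero hx⟩
  have hθalg : ∀ a : A, θ (algebraMap A (AdicCompletion (maximalIdeal A) A) a) =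
      algebraMap (ResidueField A) B₀ (residue A a) := by
    intro a
    show algebraMap _ _ (e1.symm (residue _ (algebraMap A _ a))) = _
    have h1 : e1 (residue A a) = residue _ (algebraMap A (AdicCompletion (maximalIdeal A) A) a) :=
      ResidueField.map_residue _ a
    rw [← h1, e1.symm_apply_apply]
  obtain ⟨B, _, _, _, φ, g, hcomp, hflat, hloc, hgs, hker, hgφ⟩ := lift_core θ hθ
  letI : Algebra A B := (φ.comp (algebraMap A (AdicCompletion (maximalIdeal A) A))).toAlgebra
  have hψloc : IsLocalHom (algebraMap A B) := by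
    show IsLocalHom (φ.comp (algebraMap A (AdicCompletion (maximalIdeal A) A)))
    exact RingHom.isLocalHom_comp _ _
  have hψflat : Module.Flat A B := by
    have h1 : (algebraMap A (AdicCompletion (maximalIdeal A) A)).Flat :=
      RingHom.flat_algebraMap_iff.2 inferInstance
    exact h1.comp hflat
  refine ⟨B, inferInstance, inferInstance, inferInstance, inferInstance, hψloc, hcomp, hψflat, ?_⟩
  apply nonempty_fiber_algEquiv g hgs
  · rw [hker, AdicCompletion.maximalIdeal_eq_map, Ideal.map_map]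
    rfl
  · intro a
    exact (hgφ _).trans (hθalg a)

end Groth.Agent.H47.FlatLift
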