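import Mathlib
import Groth.Prelude.Def_EGA41
import Groth.Agent.H47.FSField

set_option autoImplicit false
set_option linter.unusedSectionVars false
set_option linter.style.haveILetI false
set_option linter.unusedVariables false
universe u

/-!
# Cohen algebras are adically formally smooth (EGA 0_IV 19.7.1 / 19.8.2)
-/

namespace Groth.Agent.H47.CohenAlg

open IsLocalRing

variable {A B : Type u} [CommRing A] [IsLocalRing A] [CommRing B] [IsLocalRing B]
  [Algebra A B] [IsLocalHom (algebraMap A B)]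

/-- `B/IB` is flat over `A/I` when `B` is flat over `A`. -/
theorem flat_quotient [Module.Flat A B] (I : Ideal A) :
    Module.Flat (A ⧸ I) (B ⧸ I.map (algebraMap A B)) :=
  Module.Flat.of_linearEquiv
    (Algebra.TensorProduct.quotIdealMapEquivQuotTensor B I).toLinearEquiv

/-- Main induction: `B/𝔪ʲB` is formally smooth over `A/𝔪ʲ`. -/
theorem formallySmooth_quot_aux [Module.Flat A B]
    (hmB : (maximalIdeal A).map (algebraMap A B) = maximalIdeal B)
    [Algebra.IsGeometricallyReduced (ResidueField A) (ResidueField B)] :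
    ∀ j : ℕ, 1 ≤ j → ∀ I : Ideal A, I = maximalIdeal A ^ j →
      (algebraMap (A ⧸ I) (B ⧸ I.map (algebraMap A B))).FormallySmooth := by
  intro j hj
  induction j, hj using Nat.le_induction with
  | base =>
    intro I hI
    obtain rfl : I = maximalIdeal A := by simpa using hI
    let e : B ⧸ (maximalIdeal A).map (algebraMap A B) ≃+* B ⧸ maximalIdeal B :=
      Ideal.quotEquivOfEq hmB
    have h0 : (algebraMap (ResidueField A) (ResidueField B)).FormallySmooth :=
      RingHom.formallySmooth_algebraMap.2 formallySmooth_of_isGeometricallyReduced_field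
    have h1 : (e.symm.toRingHom).FormallySmooth := RingHom.FormallySmooth.of_bijective e.symm.bijective
    have h2 := h0.comp h1
    have key : algebraMap (A ⧸ maximalIdeal A) (B ⧸ (maximalIdeal A).map (algebraMap A B)) =
        (e.symm.toRingHom.comp (algebraMap (ResidueField A) (ResidueField B)) :
          A ⧸ maximalIdeal A →+* _) := by
      apply Ideal.Quotient.ringHom_ext
      ext a
      rfl
    rw [key]
    exact h2
  | succ j hj ih =>
    intro I hI
    subst hI
    let m := maximalIdeal A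
    have hle : m ^ (j + 1) ≤ m ^ j := Ideal.pow_le_pow_right (Nat.le_succ j)
    have hle' : (m ^ (j + 1)).map (algebraMap A B) ≤ (m ^ j).map (algebraMap A B) :=
      Ideal.map_mono hle
    let qR : A ⧸ m ^ (j + 1) →+* A ⧸ m ^ j := Ideal.Quotient.factor hle
    let qS : B ⧸ (m ^ (j + 1)).map (algebraMap A B) →+* B ⧸ (m ^ j).map (algebraMap A B) :=
      Ideal.Quotient.factor hle'
    refine RingHom.FormallySmooth.of_flat_of_ker_eq_map_of_square_zero _
      (RingHom.flat_algebraMap_iff.2 (flat_quotient _)) qR qS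
      (algebraMap (A ⧸ m ^ j) (B ⧸ (m ^ j).map (algebraMap A B)))
      (Ideal.Quotient.factor_surjective hle) (Ideal.Quotient.factor_surjective hle')
      ?_ ?_ ?_ (ih _ rfl)
    · apply Ideal.Quotient.ringHom_ext
      ext a
      rfl
    · rw [Ideal.Quotient.factor_ker, ← Ideal.map_pow, Ideal.map_eq_bot_iff_le_ker, Ideal.mk_ker,
        ← pow_mul]
      exact Ideal.pow_le_pow_right (by nlinarith)
    · rw [Ideal.Quotient.factor_ker, Ideal.Quotient.factor_ker, Ideal.map_map, Ideal.map_map]
      congr 1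

/-- If `B/𝔪ᴺB` is formally smooth over `A/𝔪ᴺ` for all `N ≥ 1` then `B` is adically formally
smooth over `A` (for the `𝔪_A`-adic topology on `A` and any ideal `𝔟` of `B`). -/
theorem isFormallySmoothAdic_of_quot (𝔞 : Ideal A) (𝔟 : Ideal B)
    (h : ∀ N : ℕ, 1 ≤ N →
      (algebraMap (A ⧸ 𝔞 ^ N) (B ⧸ (𝔞 ^ N).map (algebraMap A B))).FormallySmooth) :
    EGA41.IsFormallySmoothAdic A 𝔞 B 𝔟 := by
  intro D _ _ J' hnil hk u' _
  obtain ⟨k, hk⟩ := hk
  obtain ⟨N, hN, hkN⟩ : ∃ N, 1 ≤ N ∧ k ≤ N := ⟨max k 1, le_max_right _ _, le_max_left _ _⟩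
  let I : Ideal A := 𝔞 ^ N
  let I' : Ideal B := I.map (algebraMap A B)
  have hID : ∀ a ∈ I, algebraMap A D a = 0 := by
    intro a ha
    have h1 : algebraMap A D a ∈ (𝔞 ^ k).map (algebraMap A D) :=
      Ideal.mem_map_of_mem _ (Ideal.pow_le_pow_right hkN ha)
    rwa [hk, Ideal.mem_bot] at h1
  haveI : Algebra.FormallySmooth (A ⧸ I) (B ⧸ I') := RingHom.formallySmooth_algebraMap.1 (h N hN)
  let φD : A ⧸ I →+* D := Ideal.Quotient.lift I (algebraMap A D) hID
  letI : Algebra (A ⧸ I) D := φD.toAlgebra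
  have hu0 : ∀ b ∈ I', u'.toRingHom b = 0 := by
    intro b hb
    have h1 : u'.toRingHom b ∈ I'.map u'.toRingHom := Ideal.mem_map_of_mem _ hb
    have h2 : I'.map u'.toRingHom = ⊥ := by
      rw [Ideal.map_map, Ideal.map_eq_bot_iff_le_ker]
      intro a ha
      rw [RingHom.mem_ker, RingHom.comp_apply]
      show u' (algebraMap A B a) = 0
      rw [AlgHom.commutes, IsScalarTower.algebraMap_apply A D (D ⧸ J'), hID a ha, map_zero]
    rwa [h2, Ideal.mem_bot] at h1
  let ψ : B ⧸ I' →+* D ⧸ J' := Ideal.Quotient.lift I' u'.toRingHom hu0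
  let g : B ⧸ I' →ₐ[A ⧸ I] D ⧸ J' :=
    { ψ with
      commutes' := fun r => by
        obtain ⟨a, rfl⟩ := Ideal.Quotient.mk_surjective r
        show ψ (Ideal.Quotient.mk I' (algebraMap A B a)) =
          Ideal.Quotient.mk J' (φD (Ideal.Quotient.mk I a))
        show u' (algebraMap A B a) = Ideal.Quotient.mk J' (algebraMap A D a)
        rw [AlgHom.commutes]
        rfl }
  let l := Algebra.FormallySmooth.lift J' hnil g
  refine ⟨{ toRingHom := l.toRingHom.comp (Ideal.Quotient.mk I')
            commutes' := fun a => ?_ }, ?_⟩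
  · show l (Ideal.Quotient.mk I' (algebraMap A B a)) = algebraMap A D a
    have h1 : Ideal.Quotient.mk I' (algebraMap A B a) =
        algebraMap (A ⧸ I) (B ⧸ I') (Ideal.Quotient.mk I a) := rfl
    rw [h1, AlgHom.commutes]
    rfl
  · ext b
    show Ideal.Quotient.mk J' (l (Ideal.Quotient.mk I' b)) = u' b
    rw [Algebra.FormallySmooth.mk_lift]
    rfl

/-- **EGA 0_IV 19.8.2** (S2454): a Cohen `A`-algebra is adically formally smooth. -/
theorem isFormallySmoothAdic_of_isCohenAlgebra (h : EGA41.IsCohenAlgebra A B) :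
    EGA41.IsFormallySmoothAdic A (maximalIdeal A) B (maximalIdeal B) := by
  obtain ⟨_, _, _, hflat, hmB, hsep⟩ := h
  exact isFormallySmoothAdic_of_quot _ _ fun N hN => formallySmooth_quot_aux hmB N hN _ rfl

end Groth.Agent.H47.CohenAlg
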