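import Mathlib
import Groth.Prelude.Def_EGA41
import Groth.Agent.H47.AdicLift
import Groth.Agent.H47.CohenAlg

set_option autoImplicit false
set_option linter.unusedSectionVars false
set_option linter.style.haveILetI false
set_option linter.unusedVariables false
universe u

/-!
# Uniqueness of unramified extensions of complete DVRs with separable residue extension
(EGA 0_IV 19.8.? / S2482)
-/

namespace Groth.Agent.H47.CohenDVR

open IsLocalRing

/-- A local hom of DVRs `u : A → B` with `u(𝔪_A)B = 𝔪_B` is injective. -/
theorem injective_of_map_maximalIdeal {A B : Type u} [CommRing A] [IsDomain A]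
    [IsDiscreteValuationRing A] [CommRing B] [IsDomain B] [IsDiscreteValuationRing B]
    (u : A →+* B) (hu : (maximalIdeal A).map u = maximalIdeal B) : Function.Injective u := by
  rw [injective_iff_map_eq_zero]
  intro x hx
  by_contra hx0
  obtain ⟨ϖ, hϖ⟩ := IsDiscreteValuationRing.exists_irreducible A
  obtain ⟨n, w, hw⟩ := IsDiscreteValuationRing.eq_unit_mul_pow_irreducible hx0 hϖ
  rw [hw, map_mul, map_pow] at hx
  have hwu : IsUnit (u (w : A)) := w.isUnit.map u
  have h1 : (u ϖ) ^ n = 0 := (hwu.mul_right_eq_zero).1 hx
  have h2 : u ϖ = 0 := eq_zero_of_pow_eq_zero h1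
  apply IsDiscreteValuationRing.not_a_field B
  rw [← hu, hϖ.maximalIdeal_eq, Ideal.map_span, Set.image_singleton, h2]
  simp

/-- **S2482**: uniqueness of the unramified extension of a complete DVR with given separable
residue field extension. -/
theorem exists_ringEquiv {A B B' : Type u} [CommRing A] [IsDomain A] [IsDiscreteValuationRing A]
    [CommRing B] [IsDomain B] [IsDiscreteValuationRing B] [IsAdicComplete (maximalIdeal B) B]
    [CommRing B'] [IsDomain B'] [IsDiscreteValuationRing B'] [IsAdicComplete (maximalIdeal B') B']
    (u : A →+* B) [IsLocalHom u] (hu : (maximalIdeal A).map u = maximalIdeal B)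
    (hsep : letI := (ResidueField.map u).toAlgebra
      Algebra.IsGeometricallyReduced (ResidueField A) (ResidueField B))
    (u' : A →+* B') [IsLocalHom u'] (hu' : (maximalIdeal A).map u' = maximalIdeal B')
    (σ : ResidueField B ≃+* ResidueField B')
    (hσ : (σ : ResidueField B →+* ResidueField B').comp (ResidueField.map u) =
      ResidueField.map u') :
    ∃ w : B ≃+* B', (w : B →+* B').comp u = u' ∧
      ∀ b : B, residue B' (w b) = σ (residue B b) := by
  letI : Algebra A B := u.toAlgebra
  letI : Algebra A B' := u'.toAlgebra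
  haveI : IsLocalHom (algebraMap A B) := ‹IsLocalHom u›
  haveI : IsLocalHom (algebraMap A B') := ‹IsLocalHom u'›
  have hinj := injective_of_map_maximalIdeal u hu
  haveI : Module.IsTorsionFree A B := Module.IsTorsionFree.of_smul_eq_zero (fun r m h => by
    rw [Algebra.smul_def] at h
    rcases mul_eq_zero.1 h with h | h
    · left
      exact hinj (by rw [map_zero]; exact h)
    · right
      exact h)
  haveI : Module.Flat A B := inferInstance
  have halg : (ResidueField.map u).toAlgebra =
      (ResidueField.instAlgebra : Algebra (ResidueField A) (ResidueField B)) :=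
    Algebra.algebra_ext _ _ (fun r => by
      obtain ⟨a, rfl⟩ := residue_surjective r
      rfl)
  haveI : Algebra.IsGeometricallyReduced (ResidueField A) (ResidueField B) := by
    have h := hsep
    rw [halg] at h
    exact h
  have hB : EGA41.IsFormallySmoothAdic A (maximalIdeal A) B (maximalIdeal B) :=
    CohenAlg.isFormallySmoothAdic_of_quot _ _ fun N hN =>
      CohenAlg.formallySmooth_quot_aux hu N hN _ rfl
  haveI : IsLocalRing (B' ⧸ maximalIdeal B') := inferInstanceAs (IsLocalRing (ResidueField B'))
  let u₀ : B →ₐ[A] B' ⧸ maximalIdeal B' :=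
    { toRingHom := (σ : ResidueField B →+* ResidueField B').comp (residue B)
      commutes' := fun a => by
        show σ (residue B (u a)) = residue B' (u' a)
        have := congrArg (fun φ => φ (residue A a)) hσ
        simpa using this }
  have hu₀ : ∀ b, u₀ b = σ (residue B b) := fun b => rfl
  have hA : (maximalIdeal A).map (algebraMap A B') ≤ maximalIdeal B' := hu'.le
  have hub : (maximalIdeal B).map u₀.toRingHom ≤
      (maximalIdeal B').map (Ideal.Quotient.mk (maximalIdeal B')) := by
    rw [Ideal.map_le_iff_le_comap]
    intro b hb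
    rw [Ideal.mem_comap]
    show u₀ b ∈ _
    rw [hu₀, (residue_eq_zero_iff b).2 hb, map_zero]
    exact Ideal.zero_mem _
  obtain ⟨w₀, hw1, hw2⟩ := AdicLift.exists_lift hB hA (maximalIdeal.isMaximal B').ne_top hub
  have hw3 : ∀ b, residue B' (w₀ b) = σ (residue B b) := fun b =>
    congrArg (fun φ => φ b) hw2
  have hwu : ∀ a, w₀ (u a) = u' a := fun a => w₀.commutes a
  have hmap : (maximalIdeal B).map w₀.toRingHom = maximalIdeal B' := by
    rw [← hu, Ideal.map_map, ← hu']
    congr 1
    ext a
    exact hwu a
  have hinj' : Function.Injective w₀ := by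
    have : w₀.toRingHom = w₀.toRingHom := rfl
    exact injective_of_map_maximalIdeal w₀.toRingHom hmap
  have hsurj : Function.Surjective w₀ := by
    haveI : IsHausdorff ((maximalIdeal B).map w₀.toRingHom) B' := by
      rw [hmap]
      infer_instance
    apply surjective_of_mk_map_comp_surjective (I := maximalIdeal B) w₀.toRingHom
    intro y
    obtain ⟨y', rfl⟩ := Ideal.Quotient.mk_surjective y
    obtain ⟨x, hx⟩ := residue_surjective (σ.symm (residue B' y'))
    refine ⟨x, ?_⟩
    show Ideal.Quotient.mk _ (w₀ x) = Ideal.Quotient.mk _ y'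
    rw [Ideal.Quotient.eq, hmap, ← residue_eq_zero_iff, map_sub, hw3 x, hx,
      RingEquiv.apply_symm_apply, sub_self]
  refine ⟨RingEquiv.ofBijective w₀.toRingHom ⟨hinj', hsurj⟩, ?_, hw3⟩
  ext a
  exact hwu a

end Groth.Agent.H47.CohenDVR
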