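import Mathlib
import Groth.Prelude.Def_CAlgX
import Groth.Prelude.Def_EGA41
import Groth.Prelude.Def_EtRam
import Groth.Agent.H47.CohenAlg
import Groth.Agent.H47.CohenDVR
import Groth.Agent.H47.CohenArtin
import Groth.Agent.H47.FSSep
import Groth.Agent.H96.GeomRegAdic
import Groth.Agent.Lead.RegularLocal

set_option autoImplicit false
set_option linter.unusedSectionVars false
set_option linter.style.haveILetI false
set_option linter.unusedVariables false
universe u

/-!
# Formal smoothness of extensions of DVRs (S7134)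
-/

namespace Groth.Agent.H47.DVRAdic

open IsLocalRing

section General

variable {A B : Type u} [CommRing A] [CommRing B] [Algebra A B]

/-- EGA-style adic formal smoothness implies the discrete-base version when `𝔞B ⊆ 𝔟`. -/
theorem calgx_of_ega41 (𝔞 : Ideal A) (𝔟 : Ideal B) (h : EGA41.IsFormallySmoothAdic A 𝔞 B 𝔟)
    (h𝔞 : 𝔞.map (algebraMap A B) ≤ 𝔟) : CAlgX.IsAdicFormallySmooth A B 𝔟 := by
  intro E _ _ N hN ψ hψ
  obtain ⟨n, hn⟩ := hψ
  refine h E N ⟨2, hN⟩ ⟨n * 2, ?_⟩ ψ ⟨n, hn⟩
  have h1 : (𝔞 ^ n).map (algebraMap A E) ≤ N := by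
    rw [Ideal.map_le_iff_le_comap]
    intro a ha
    rw [Ideal.mem_comap, ← Ideal.Quotient.eq_zero_iff_mem]
    have h2 : Ideal.Quotient.mk N (algebraMap A E a) = ψ (algebraMap A B a) := by
      rw [ψ.commutes]
      rfl
    rw [h2]
    apply hn
    have h3 : algebraMap A B a ∈ (𝔞 ^ n).map (algebraMap A B) := Ideal.mem_map_of_mem _ ha
    rw [Ideal.map_pow] at h3
    exact Ideal.pow_right_mono h𝔞 n h3
  rw [pow_mul, Ideal.map_pow, eq_bot_iff, ← hN]
  exact Ideal.pow_right_mono h1 2

/-- Adic formal smoothness passes to the quotient by an ideal of the base. -/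
theorem adic_quotient (𝔞 : Ideal A) (𝔟 : Ideal B) (h : CAlgX.IsAdicFormallySmooth A B 𝔟) :
    CAlgX.IsAdicFormallySmooth (A ⧸ 𝔞) (B ⧸ 𝔞.map (algebraMap A B))
      (𝔟.map (Ideal.Quotient.mk (𝔞.map (algebraMap A B)))) := by
  intro E _ _ N hN ψ hψ
  obtain ⟨n, hn⟩ := hψ
  letI : Algebra A E := ((algebraMap (A ⧸ 𝔞) E).comp (Ideal.Quotient.mk 𝔞)).toAlgebra
  haveI : IsScalarTower A (A ⧸ 𝔞) E := IsScalarTower.of_algebraMap_eq' rfl
  let ψ' : B →ₐ[A] E ⧸ N :=
    { toRingHom := ψ.toRingHom.comp (Ideal.Quotient.mk (𝔞.map (algebraMap A B)))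
      commutes' := fun a => by
        show ψ (algebraMap (A ⧸ 𝔞) (B ⧸ 𝔞.map (algebraMap A B)) (Ideal.Quotient.mk 𝔞 a)) = _
        rw [ψ.commutes]
        rfl }
  obtain ⟨χ', hχ'⟩ := h E N hN ψ' ⟨n, fun x hx => by
    show ψ (Ideal.Quotient.mk _ x) = 0
    apply hn
    rw [← Ideal.map_pow]
    exact Ideal.mem_map_of_mem _ hx⟩
  have hkill : ∀ b ∈ 𝔞.map (algebraMap A B), χ'.toRingHom b = 0 := by
    intro b hb
    have h1 : χ'.toRingHom b ∈ (𝔞.map (algebraMap A B)).map χ'.toRingHom :=
      Ideal.mem_map_of_mem _ hb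
    have h2 : (𝔞.map (algebraMap A B)).map χ'.toRingHom = ⊥ := by
      rw [Ideal.map_map, Ideal.map_eq_bot_iff_le_ker]
      intro a ha
      rw [RingHom.mem_ker, RingHom.comp_apply]
      show χ' (algebraMap A B a) = 0
      rw [χ'.commutes]
      show algebraMap (A ⧸ 𝔞) E (Ideal.Quotient.mk 𝔞 a) = 0
      rw [Ideal.Quotient.eq_zero_iff_mem.2 ha, map_zero]
    rwa [h2, Ideal.mem_bot] at h1
  refine ⟨{ toRingHom := Ideal.Quotient.lift _ χ'.toRingHom hkill
            commutes' := fun r => ?_ }, ?_⟩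
  · obtain ⟨a, rfl⟩ := Ideal.Quotient.mk_surjective r
    show χ' (algebraMap A B a) = _
    rw [χ'.commutes]
    rfl
  · ext x
    obtain ⟨b, rfl⟩ := Ideal.Quotient.mk_surjective x
    exact AlgHom.congr_fun hχ' b

end General

section Local

variable {A B : Type u} [CommRing A] [IsLocalRing A] [CommRing B] [IsLocalRing B] [Algebra A B]
  [IsLocalHom (algebraMap A B)]

/-- If `A → B` is adically formally smooth and `𝔪_A B = 𝔪_B` then the residue field extension is
formally smooth. -/
theorem formallySmooth_residueField (h : CAlgX.IsAdicFormallySmooth A B (maximalIdeal B))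
    (hwu : (maximalIdeal A).map (algebraMap A B) = maximalIdeal B) :
    Algebra.FormallySmooth (ResidueField A) (ResidueField B) := by
  apply Algebra.FormallySmooth.of_comp_surjective
  intro E _ _ N hN ψ
  letI : Algebra A E := ((algebraMap (ResidueField A) E).comp (residue A)).toAlgebra
  haveI : IsScalarTower A (ResidueField A) E := IsScalarTower.of_algebraMap_eq' rfl
  let ψ' : B →ₐ[A] E ⧸ N :=
    { toRingHom := ψ.toRingHom.comp (residue B)
      commutes' := fun a => by
        show ψ (residue B (algebraMap A B a)) = _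
        rw [← ResidueField.algebraMap_residue, ψ.commutes]
        rfl }
  obtain ⟨χ', hχ'⟩ := h E N hN ψ' ⟨1, fun x hx => by
    show ψ (residue B x) = 0
    rw [pow_one] at hx
    rw [(residue_eq_zero_iff x).2 hx, map_zero]⟩
  have hkill : ∀ b ∈ maximalIdeal B, χ'.toRingHom b = 0 := by
    intro b hb
    rw [← hwu] at hb
    have h1 : χ'.toRingHom b ∈ ((maximalIdeal A).map (algebraMap A B)).map χ'.toRingHom :=
      Ideal.mem_map_of_mem _ hb
    have h2 : ((maximalIdeal A).map (algebraMap A B)).map χ'.toRingHom = ⊥ := by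
      rw [Ideal.map_map, Ideal.map_eq_bot_iff_le_ker]
      intro a ha
      rw [RingHom.mem_ker, RingHom.comp_apply]
      show χ' (algebraMap A B a) = 0
      rw [χ'.commutes]
      show algebraMap (ResidueField A) E (residue A a) = 0
      rw [(residue_eq_zero_iff a).2 ha, map_zero]
    rwa [h2, Ideal.mem_bot] at h1
  refine ⟨{ toRingHom := Ideal.Quotient.lift _ χ'.toRingHom hkill
            commutes' := fun r => ?_ }, ?_⟩
  · obtain ⟨a, rfl⟩ := residue_surjective r
    show χ' (algebraMap A B a) = _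
    rw [χ'.commutes]
    rfl
  · ext x
    obtain ⟨b, rfl⟩ := residue_surjective x
    exact AlgHom.congr_fun hχ' b

end Local

/-- **S7134**. -/
theorem adic_iff (A B : Type u) [CommRing A]
    [IsDomain A] [IsDiscreteValuationRing A] [CommRing B] [IsDomain B] [IsDiscreteValuationRing B]
    [Algebra A B]
    (hinj : Function.Injective (algebraMap A B)) [IsLocalHom (algebraMap A B)] :
    CAlgX.IsAdicFormallySmooth A B (IsLocalRing.maximalIdeal B) ↔
      EtRam.IsWeaklyUnramified A B ∧
        Algebra.IsGeometricallyReduced (IsLocalRing.ResidueField A) (IsLocalRing.ResidueField B) := by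
  have hle : (maximalIdeal A).map (algebraMap A B) ≤ maximalIdeal B := by
    rw [Ideal.map_le_iff_le_comap]
    intro a ha
    rw [Ideal.mem_comap, mem_maximalIdeal, mem_nonunits_iff]
    intro hu
    exact (mem_maximalIdeal _).1 ha (isUnit_of_map_unit (algebraMap A B) a hu)
  constructor
  · intro h
    -- the closed fibre
    let I : Ideal B := (maximalIdeal A).map (algebraMap A B)
    have hI : I ≠ ⊤ := fun h' => (maximalIdeal.isMaximal B).ne_top (top_le_iff.1 (h' ▸ hle))
    haveI : Nontrivial (B ⧸ I) := Ideal.Quotient.nontrivial_iff.2 hI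
    haveI : IsLocalRing (B ⧸ I) :=
      IsLocalRing.of_surjective' (Ideal.Quotient.mk I) Ideal.Quotient.mk_surjective
    have hmC : (maximalIdeal B).map (Ideal.Quotient.mk I) = maximalIdeal (B ⧸ I) :=
      CohenArtin.map_maximalIdeal_of_surjective _ Ideal.Quotient.mk_surjective
    have hC := adic_quotient (maximalIdeal A) (maximalIdeal B) h
    rw [hmC] at hC
    letI : Field (A ⧸ maximalIdeal A) := Ideal.Quotient.field _
    haveI : IsRegularLocalRing (B ⧸ I) :=
      Groth.Agent.H96.GeomRegAdic.regular_of_adic_field (A ⧸ maximalIdeal A) (B ⧸ I) hC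
    haveI : IsDomain (B ⧸ I) := Groth.Agent.Lead.RLR.isDomain (B ⧸ I)
    -- a uniformizer of `B` has a power in `I`
    obtain ⟨ϖ, hϖ⟩ := IsDiscreteValuationRing.exists_irreducible B
    obtain ⟨π, hπ⟩ := IsDiscreteValuationRing.exists_irreducible A
    have hπ0 : algebraMap A B π ≠ 0 := fun h0 => hπ.ne_zero (hinj (by rw [h0, map_zero]))
    obtain ⟨e, w, hw⟩ := IsDiscreteValuationRing.eq_unit_mul_pow_irreducible hπ0 hϖ
    have hπI : algebraMap A B π ∈ I :=
      Ideal.mem_map_of_mem _ ((mem_maximalIdeal _).2 hπ.not_isUnit)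
    have hϖe : ϖ ^ e ∈ I := by
      have : ϖ ^ e = (↑w⁻¹ : B) * algebraMap A B π := by
        rw [hw, ← mul_assoc, Units.inv_mul, one_mul]
      rw [this]
      exact Ideal.mul_mem_left _ _ hπI
    have hϖI : ϖ ∈ I := by
      have h1 : (Ideal.Quotient.mk I ϖ) ^ e = 0 := by
        rw [← map_pow]
        exact Ideal.Quotient.eq_zero_iff_mem.2 hϖe
      exact Ideal.Quotient.eq_zero_iff_mem.1 (eq_zero_of_pow_eq_zero h1)
    have hwu : (maximalIdeal A).map (algebraMap A B) = maximalIdeal B := by
      apply le_antisymm hle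
      rw [hϖ.maximalIdeal_eq, Ideal.span_singleton_le_iff_mem]
      exact hϖI
    refine ⟨hwu, ?_⟩
    haveI := formallySmooth_residueField h hwu
    exact Groth.Agent.H47.isGeometricallyReduced_of_formallySmooth_field
  · rintro ⟨hwu, hsep⟩
    haveI : Module.IsTorsionFree A B := Module.IsTorsionFree.of_smul_eq_zero (fun r m h => by
      rw [Algebra.smul_def] at h
      rcases mul_eq_zero.1 h with h | h
      · left
        exact hinj (by rw [map_zero]; exact h)
      · right
        exact h)
    haveI : Module.Flat A B := inferInstance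
    have hB : EGA41.IsFormallySmoothAdic A (maximalIdeal A) B (maximalIdeal B) :=
      CohenAlg.isFormallySmoothAdic_of_quot _ _ fun N hN =>
        CohenAlg.formallySmooth_quot_aux hwu N hN _ rfl
    exact calgx_of_ega41 _ _ hB hwu.le

end Groth.Agent.H47.DVRAdic
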