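import Mathlib
import Groth.Prelude.Def_Found
import Groth.Prelude.Def_EGA4b
import Groth.Agent.H47.SmoothRegular
import Groth.Agent.H47.NormalLoc
import Groth.Agent.H14.RegularNormal

set_option autoImplicit false
set_option linter.unusedSectionVars false
set_option linter.style.haveILetI false
set_option linter.unusedVariables false
universe u

namespace Groth.Agent.H47.SF

open TensorProduct

/-- A regular ring is normal (all local rings are integrally closed domains). -/
theorem isNormalRing_of_isRegularRing (R : Type u) [CommRing R] [IsRegularRing R] :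
    EGA4.IsNormalRing R := by
  intro p hp
  haveI : IsRegularLocalRing (Localization.AtPrime p) := inferInstance
  exact ⟨Groth.Agent.Lead.RLR.isDomain _, Groth.Agent.H14.isIntegrallyClosed_of_isRegularLocalRing _⟩

/-- A smooth algebra over a field is geometrically regular. -/
theorem isGeometricallyRegular_of_smooth (k A : Type u) [Field k] [CommRing A] [Algebra k A]
    [Algebra.Smooth k A] : CAlg.IsGeometricallyRegular k A := by
  intro K _ _ _
  apply isRegularRing_tensor_of_smooth k k A K
  exact IsRegularRing.of_ringEquiv (Algebra.TensorProduct.rid k k K).toRingEquiv.symm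

/-- A smooth algebra over a field is geometrically normal. -/
theorem isGeomNormal_of_smooth (k A : Type u) [Field k] [CommRing A] [Algebra k A]
    [Algebra.Smooth k A] : EGA4.IsGeomNormal k A := by
  intro K _ _ hK
  haveI : IsRegularRing (K ⊗[k] A) := isGeometricallyRegular_of_smooth k A K hK
  exact isNormalRing_of_isRegularRing _

/-- A smooth ring map is regular. -/
theorem isRegularHom_of_smooth (R S : Type u) [CommRing R] [CommRing S] [Algebra R S]
    [Algebra.Smooth R S] : CAlg.IsRegularHom R S := by
  refine ⟨inferInstance, fun p hp => ?_⟩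
  haveI : Algebra.Smooth p.ResidueField (p.Fiber S) := inferInstance
  exact ⟨Algebra.FiniteType.isNoetherianRing p.ResidueField _,
    isGeometricallyRegular_of_smooth _ _⟩

/-- A smooth ring map is normal. -/
theorem isNormalHom_of_smooth (R S : Type u) [CommRing R] [CommRing S] [Algebra R S]
    [Algebra.Smooth R S] : EGA4.IsNormalHom R S := by
  refine ⟨inferInstance, fun p hp => ?_⟩
  haveI : Algebra.Smooth p.ResidueField (p.Fiber S) := inferInstance
  exact isGeomNormal_of_smooth _ _

end Groth.Agent.H47.SF

namespace Groth.Agent.H47.SF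

open AlgebraicGeometry CategoryTheory

theorem smooth_appLE {X Y : Scheme.{u}} (f : X ⟶ Y) [Smooth f] (U : X.Opens) (V : Y.Opens)
    (hU : IsAffineOpen U) (hV : IsAffineOpen V) (hUV : U ≤ f ⁻¹ᵁ V) :
    (f.appLE V U hUV).hom.Smooth :=
  HasRingHomProperty.appLE (P := @Smooth) f ‹_› ⟨V, hV⟩ ⟨U, hU⟩ hUV

theorem isRegularHom_appLE_of_smooth {X Y : Scheme.{u}} (f : X ⟶ Y) [Smooth f] (U : X.Opens)
    (V : Y.Opens) (hU : IsAffineOpen U) (hV : IsAffineOpen V) (hUV : U ≤ f ⁻¹ᵁ V) :
    letI := (f.appLE V U hUV).hom.toAlgebra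
    CAlg.IsRegularHom Γ(Y, V) Γ(X, U) := by
  letI := (f.appLE V U hUV).hom.toAlgebra
  haveI : Algebra.Smooth Γ(Y, V) Γ(X, U) := smooth_appLE f U V hU hV hUV
  exact isRegularHom_of_smooth _ _

theorem isNormalHom_appLE_of_smooth {X Y : Scheme.{u}} (f : X ⟶ Y) [Smooth f] (U : X.Opens)
    (V : Y.Opens) (hU : IsAffineOpen U) (hV : IsAffineOpen V) (hUV : U ≤ f ⁻¹ᵁ V) :
    letI := (f.appLE V U hUV).hom.toAlgebra
    EGA4.IsNormalHom Γ(Y, V) Γ(X, U) := by
  letI := (f.appLE V U hUV).hom.toAlgebra
  haveI : Algebra.Smooth Γ(Y, V) Γ(X, U) := smooth_appLE f U V hU hV hUV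
  exact isNormalHom_of_smooth _ _

end Groth.Agent.H47.SF
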