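import Mathlib

/-!
# Pure ideals: existence for closed subsets stable under generalization (Stacks 04PU)
-/

set_option autoImplicit false
set_option linter.style.haveILetI false
universe u
open PrimeSpectrum TensorProduct

namespace Groth.Agent.H47.PureIdeal

variable {R : Type*} [CommRing R]

/-- `∀ x ∈ I, ∃ y ∈ I, x = x * y` implies `I` pure (Stacks 04PS (5) ⇒ (1)). -/
theorem pure_of_forall_exists_eq_mul (I : Ideal R) (h : ∀ x ∈ I, ∃ y ∈ I, x = x * y) : I.Pure := by
  refine Ideal.Pure.of_inf_eq_mul I fun J _ => le_antisymm ?_ Ideal.mul_le_inf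
  rintro z ⟨hzI, hzJ⟩
  obtain ⟨y, hy, hzy⟩ := h z hzI
  have h1 : y * z ∈ I * J := Ideal.mul_mem_mul hy hzJ
  rwa [mul_comm y z, ← hzy] at h1

/-- the zero locus of a pure ideal is stable under generalization. -/
theorem stableUnderGeneralization_zeroLocus (I : Ideal R) [I.Pure] :
    StableUnderGeneralization (zeroLocus (I : Set R)) := by
  intro p q hqp hp
  rw [← le_iff_specializes] at hqp
  rw [mem_zeroLocus] at hp ⊢
  intro x hx
  obtain ⟨y, hy, hxy⟩ := Ideal.exists_eq_mul_of_pure hx
  have h0 : x * (1 - y) ∈ q.asIdeal := by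
    have : x * (1 - y) = 0 := by rw [mul_sub, mul_one, ← hxy, sub_self]
    rw [this]; exact zero_mem _
  rcases q.2.mem_or_mem h0 with h | h
  · exact h
  · exfalso
    have h1 : (1 - y) ∈ p.asIdeal := hqp h
    have h2 : y ∈ p.asIdeal := hp hy
    exact p.2.ne_top ((Ideal.eq_top_iff_one _).mpr (by simpa using add_mem h1 h2))

/-- the ideal `{x | x ∈ x J}`. -/
def selfMulIdeal (J : Ideal R) : Ideal R where
  carrier := {x | ∃ f ∈ J, x = x * f}
  zero_mem' := ⟨0, zero_mem _, by simp⟩
  add_mem' := by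
    rintro x y ⟨f, hf, hxf⟩ ⟨g, hg, hyg⟩
    refine ⟨f + g - f * g, sub_mem (add_mem hf hg) (J.mul_mem_left f hg), ?_⟩
    have e1 : x * f = x := hxf.symm
    have e2 : y * g = y := hyg.symm
    have : (x + y) * (f + g - f * g) = x * f + (x * g - (x * f) * g) + ((y * f) - (y * g) * f) + y * g := by
      ring
    rw [this, e1, e2]
    ring
  smul_mem' := by
    rintro r x ⟨f, hf, hxf⟩
    refine ⟨f, hf, ?_⟩
    rw [smul_eq_mul, mul_assoc, ← hxf]

theorem mem_selfMulIdeal {J : Ideal R} {x : R} : x ∈ selfMulIdeal J ↔ ∃ f ∈ J, x = x * f := Iff.rfl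

theorem selfMulIdeal_le (J : Ideal R) : selfMulIdeal J ≤ J := by
  rintro x ⟨f, hf, hxf⟩
  rw [hxf]
  exact J.mul_mem_left x hf

/-- Stacks 04PU: a closed subset stable under generalization is the zero locus of a pure ideal. -/
theorem exists_pure_zeroLocus_eq (Z : Set (PrimeSpectrum R)) (hZ : IsClosed Z)
    (hg : StableUnderGeneralization Z) :
    ∃ I : Ideal R, I.Pure ∧ zeroLocus (I : Set R) = Z := by
  set J := vanishingIdeal Z with hJ
  have hVJ : zeroLocus (J : Set R) = Z := by
    rw [hJ, zeroLocus_vanishingIdeal_eq_closure, hZ.closure_eq]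
  have hVI : zeroLocus (selfMulIdeal J : Set R) = Z := by
    apply le_antisymm
    · intro p hp
      rw [mem_zeroLocus] at hp
      -- the multiplicative set `(R ∖ p)(1 + J)`
      let S : Submonoid R :=
        { carrier := {s | ∃ a ∉ p.asIdeal, ∃ j ∈ J, s = a * (1 + j)}
          one_mem' := ⟨1, p.asIdeal.one_notMem, 0, zero_mem _, by simp⟩
          mul_mem' := by
            rintro _ _ ⟨a, ha, j, hj, rfl⟩ ⟨b, hb, k, hk, rfl⟩
            refine ⟨a * b, fun h => (p.2.mem_or_mem h).elim ha hb, j + k + j * k,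
              add_mem (add_mem hj hk) (J.mul_mem_left j hk), by ring⟩ }
      have h0 : Disjoint ((⊥ : Ideal R) : Set R) (S : Set R) := by
        rw [Set.disjoint_left]
        rintro x hx ⟨a, ha, j, hj, rfl⟩
        have hx0 : a * (1 + j) = 0 := by simpa using hx
        have : a ∈ selfMulIdeal J := ⟨-j, neg_mem hj, by linear_combination hx0⟩
        exact ha (hp this)
      obtain ⟨q, hqprime, -, hqS⟩ := Ideal.exists_le_prime_disjoint ⊥ S h0
      have hqp : q ≤ p.asIdeal := by
        intro x hxq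
        by_contra hxp
        exact Set.disjoint_left.mp hqS hxq ⟨x, hxp, 0, zero_mem _, by simp⟩
      have hqJ : q ⊔ J ≠ ⊤ := by
        intro htop
        obtain ⟨a, ha, j, hj, haj⟩ := Submodule.mem_sup.mp ((Ideal.eq_top_iff_one _).mp htop)
        refine Set.disjoint_left.mp hqS ha ⟨1, p.asIdeal.one_notMem, -j, neg_mem hj, ?_⟩
        linear_combination haj
      obtain ⟨m, hm, hle⟩ := Ideal.exists_le_maximal _ hqJ
      have hmZ : (⟨m, hm.isPrime⟩ : PrimeSpectrum R) ∈ Z := by
        rw [← hVJ, mem_zeroLocus]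
        exact fun x hx => hle (Ideal.mem_sup_right hx)
      have hqZ : (⟨q, hqprime⟩ : PrimeSpectrum R) ∈ Z :=
        hg ((le_iff_specializes ⟨q, hqprime⟩ ⟨m, hm.isPrime⟩).mp (le_sup_left.trans hle)) hmZ
      exact hZ.stableUnderSpecialization ((le_iff_specializes ⟨q, hqprime⟩ p).mp hqp) hqZ
    · rw [← hVJ]
      exact zeroLocus_anti_mono (selfMulIdeal_le J)
  refine ⟨selfMulIdeal J, pure_of_forall_exists_eq_mul _ ?_, hVI⟩
  rintro x ⟨f, hf, hxf⟩
  have hrad : J = (selfMulIdeal J).radical := by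
    rw [← vanishingIdeal_zeroLocus_eq_radical, hVI]
  rw [hrad] at hf
  obtain ⟨n, hn⟩ := hf
  refine ⟨f ^ n, hn, ?_⟩
  clear hn
  induction n with
  | zero => simp
  | succ n ih => rw [pow_succ, ← mul_assoc, ← ih, ← hxf]

/-- purity is stable under base change. -/
theorem pure_map {A B : Type*} [CommRing A] [CommRing B] (φ : A →+* B) (I : Ideal A) [I.Pure] :
    (I.map φ).Pure := by
  letI := φ.toAlgebra
  exact Module.Flat.of_linearEquiv
    (Algebra.TensorProduct.quotIdealMapEquivTensorQuot B I).toLinearEquiv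

end Groth.Agent.H47.PureIdeal
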