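import Mathlib
import Groth.Agent.H47.PureIdeal

/-!
# Flat closed subschemes correspond to closed subsets stable under generalization (Stacks 04PW)
-/

set_option autoImplicit false
set_option linter.style.haveILetI false
set_option backward.isDefEq.respectTransparency false
universe u
open AlgebraicGeometry CategoryTheory TopologicalSpace Scheme IdealSheafData

namespace Groth.Agent.H47.FlatClosed

variable {X : Scheme.{u}}

theorem flat_specMap_mk_iff {R : Type u} [CommRing R] (I : Ideal R) :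
    Flat (Spec.map (CommRingCat.ofHom (Ideal.Quotient.mk I))) ↔ I.Pure := by
  rw [Flat.SpecMap_iff]
  exact RingHom.flat_algebraMap_iff (R := R) (S := R ⧸ I)

/-- flatness of the closed immersion ↔ all the ideals are pure. -/
theorem flat_subschemeι_iff (I : X.IdealSheafData) :
    Flat I.subschemeι ↔ ∀ U : X.affineOpens, (I.ideal U).Pure := by
  rw [IsZariskiLocalAtSource.iff_of_openCover (P := @Flat) I.subschemeCover.openCover]
  refine forall_congr' fun U => ?_
  show Flat (I.subschemeCover.f U ≫ I.subschemeι) ↔ _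
  rw [subschemeCover_map_subschemeι, glueDataObjι_ι, ← flat_specMap_mk_iff]
  constructor
  · intro h
    exact MorphismProperty.of_postcomp (W := @Flat) (W' := MorphismProperty.monomorphisms Scheme)
      _ U.2.fromSpec (MorphismProperty.monomorphisms.infer_property _) h
  · intro h
    infer_instance

/-- the support of an ideal sheaf on an affine chart. -/
theorem fromSpec_preimage_support (I : X.IdealSheafData) (U : X.affineOpens) :
    U.2.fromSpec ⁻¹' (I.support : Set X) = PrimeSpectrum.zeroLocus (I.ideal U : Set Γ(X, U)) := by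
  rw [← U.2.fromSpec_preimage_zeroLocus]
  ext p
  have hp : U.2.fromSpec p ∈ U.1 := by
    have : U.2.fromSpec p ∈ Set.range U.2.fromSpec := ⟨p, rfl⟩
    rwa [U.2.range_fromSpec] at this
  exact mem_support_iff_of_mem hp

theorem stableUnderGeneralization_support (I : X.IdealSheafData) (hI : Flat I.subschemeι) :
    StableUnderGeneralization (I.support : Set X) := by
  rw [flat_subschemeι_iff] at hI
  intro x y hyx hx
  obtain ⟨_, ⟨U, hU, rfl⟩, hxU, -⟩ :=
    (isBasis_affineOpens X).exists_subset_of_mem_open (Set.mem_univ x) isOpen_univ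
  have hyU : y ∈ U := hyx.mem_open U.isOpen hxU
  let U' : X.affineOpens := ⟨U, hU⟩
  have ex : U'.2.fromSpec (U'.2.primeIdealOf ⟨x, hxU⟩) = x := U'.2.fromSpec_primeIdealOf ⟨x, hxU⟩
  have ey : U'.2.fromSpec (U'.2.primeIdealOf ⟨y, hyU⟩) = y := U'.2.fromSpec_primeIdealOf ⟨y, hyU⟩
  have hsp : U'.2.primeIdealOf ⟨y, hyU⟩ ⤳ U'.2.primeIdealOf ⟨x, hxU⟩ := by
    rw [← U'.2.fromSpec.isOpenEmbedding.isInducing.specializes_iff, ex, ey]
    exact hyx
  have hx' : U'.2.primeIdealOf ⟨x, hxU⟩ ∈ U'.2.fromSpec ⁻¹' (I.support : Set X) := by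
    show U'.2.fromSpec (U'.2.primeIdealOf ⟨x, hxU⟩) ∈ (I.support : Set X)
    rw [ex]; exact hx
  rw [fromSpec_preimage_support] at hx'
  haveI := hI U'
  have hy' := PureIdeal.stableUnderGeneralization_zeroLocus (I.ideal U') hsp hx'
  rw [← fromSpec_preimage_support] at hy'
  have : U'.2.fromSpec (U'.2.primeIdealOf ⟨y, hyU⟩) ∈ (I.support : Set X) := hy'
  rwa [ey] at this

theorem eq_of_support_eq (I J : X.IdealSheafData) (hI : Flat I.subschemeι)
    (hJ : Flat J.subschemeι) (h : I.support = J.support) : I = J := by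
  rw [flat_subschemeι_iff] at hI hJ
  refine IdealSheafData.ext (funext fun U => ?_)
  haveI := hI U
  haveI := hJ U
  rw [← Ideal.zeroLocus_inj_of_pure, ← fromSpec_preimage_support, ← fromSpec_preimage_support, h]

theorem fromSpec_comap (U V : X.affineOpens) (h : V.1 ≤ U.1) (p : PrimeSpectrum Γ(X, V.1)) :
    U.2.fromSpec (PrimeSpectrum.comap (X.presheaf.map (homOfLE h).op).hom p) = V.2.fromSpec p := by
  have := U.2.map_fromSpec V.2 (homOfLE h).op
  rw [← this]
  rfl

section construct
variable (Z : Closeds X) (hZ : StableUnderGeneralization (Z : Set X))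
include hZ

theorem exists_pure (U : X.affineOpens) : ∃ I : Ideal Γ(X, U.1), I.Pure ∧
    PrimeSpectrum.zeroLocus (I : Set Γ(X, U.1)) = U.2.fromSpec ⁻¹' (Z : Set X) :=
  PureIdeal.exists_pure_zeroLocus_eq _ (Z.isClosed.preimage U.2.fromSpec.continuous)
    (hZ.preimage U.2.fromSpec.continuous)

/-- the pure ideal cutting out `Z ∩ U`. -/
noncomputable def pureIdeal (U : X.affineOpens) : Ideal Γ(X, U.1) := (exists_pure Z hZ U).choose

theorem pureIdeal_pure (U : X.affineOpens) : (pureIdeal Z hZ U).Pure :=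
  (exists_pure Z hZ U).choose_spec.1

theorem zeroLocus_pureIdeal (U : X.affineOpens) :
    PrimeSpectrum.zeroLocus (pureIdeal Z hZ U : Set Γ(X, U.1)) = U.2.fromSpec ⁻¹' (Z : Set X) :=
  (exists_pure Z hZ U).choose_spec.2

theorem map_pureIdeal (U : X.affineOpens) (f : Γ(X, U.1)) :
    (pureIdeal Z hZ U).map (X.presheaf.map (homOfLE <| X.basicOpen_le f).op).hom =
      pureIdeal Z hZ (X.affineBasicOpen f) := by
  haveI := pureIdeal_pure Z hZ U
  have h1 := PureIdeal.pure_map (X.presheaf.map (homOfLE <| X.basicOpen_le f).op).hom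
    (pureIdeal Z hZ U)
  have h2 := pureIdeal_pure Z hZ (X.affineBasicOpen f)
  refine (@Ideal.zeroLocus_inj_of_pure _ _ _ _ h1 h2).mp ?_
  rw [zeroLocus_pureIdeal, Ideal.map, PrimeSpectrum.zeroLocus_span,
    ← PrimeSpectrum.preimage_comap_zeroLocus, zeroLocus_pureIdeal]
  ext p
  simp only [Set.mem_preimage]
  rw [fromSpec_comap U (X.affineBasicOpen f) (X.basicOpen_le f) p]

/-- the ideal sheaf of the flat closed subscheme supported on `Z`. -/
noncomputable def idealSheaf : X.IdealSheafData where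
  ideal := pureIdeal Z hZ
  map_ideal_basicOpen := map_pureIdeal Z hZ

theorem flat_idealSheaf : Flat (idealSheaf Z hZ).subschemeι := by
  rw [flat_subschemeι_iff]
  exact fun U => pureIdeal_pure Z hZ U

theorem support_idealSheaf : (idealSheaf Z hZ).support = Z := by
  ext x
  obtain ⟨_, ⟨U, hU, rfl⟩, hxU, -⟩ :=
    (isBasis_affineOpens X).exists_subset_of_mem_open (Set.mem_univ x) isOpen_univ
  let U' : X.affineOpens := ⟨U, hU⟩
  have ex : U'.2.fromSpec (U'.2.primeIdealOf ⟨x, hxU⟩) = x := U'.2.fromSpec_primeIdealOf ⟨x, hxU⟩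
  have h1 := fromSpec_preimage_support (idealSheaf Z hZ) U'
  have h2 : PrimeSpectrum.zeroLocus ((idealSheaf Z hZ).ideal U' : Set Γ(X, U'.1)) =
      U'.2.fromSpec ⁻¹' (Z : Set X) := zeroLocus_pureIdeal Z hZ U'
  rw [h2] at h1
  have h3 := Set.ext_iff.mp h1 (U'.2.primeIdealOf ⟨x, hxU⟩)
  simp only [Set.mem_preimage, ex] at h3
  exact h3

end construct

theorem le_ker_of_range_subset (I : X.IdealSheafData) (hI : Flat I.subschemeι) {Y : Scheme.{u}}
    (g : Y ⟶ X) (hg : Set.range g.base ⊆ (I.support : Set X)) : I ≤ g.ker := by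
  rw [flat_subschemeι_iff] at hI
  refine le_ofIdeals_iff.mpr fun U x hx => ?_
  haveI := hI U
  obtain ⟨y, hy, hxy⟩ := Ideal.exists_eq_mul_of_pure hx
  rw [RingHom.mem_ker]
  have hst : (g.app U).hom x = (g.app U).hom x * (g.app U).hom y := by rw [← map_mul, ← hxy]
  have hunit : IsUnit (1 - (g.app U).hom y) := by
    apply Y.toRingedSpace.isUnit_of_isUnit_germ (g ⁻¹ᵁ U) (1 - (g.app U).hom y)
    intro w hw
    rw [map_sub, map_one]
    apply IsLocalRing.isUnit_one_sub_self_of_mem_nonunits
    rw [mem_nonunits_iff]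
    intro hu
    have hmem : w ∈ Y.basicOpen ((g.app U).hom y) := (Y.mem_basicOpen _ w hw).mpr hu
    rw [← Scheme.preimage_basicOpen] at hmem
    have h1 : g.base w ∈ (I.support : Set X) := hg ⟨w, rfl⟩
    have h2 : g.base w ∈ X.zeroLocus (U := U.1) (I.ideal U) := (mem_support_iff_of_mem hw).mp h1
    rw [Scheme.mem_zeroLocus_iff] at h2
    exact h2 y hy hmem
  have h0 : (g.app U).hom x * (1 - (g.app U).hom y) = 0 := by rw [mul_sub, mul_one, ← hst, sub_self]
  exact (hunit.mul_left_eq_zero).mp h0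

theorem exists_factor (I : X.IdealSheafData) (hI : Flat I.subschemeι) {Y : Scheme.{u}}
    (g : Y ⟶ X) (hg : Set.range g.base ⊆ (I.support : Set X)) :
    ∃ g' : Y ⟶ I.subscheme, g' ≫ I.subschemeι = g := by
  have hle := le_ker_of_range_subset I hI g hg
  refine ⟨g.toImage ≫ IdealSheafData.inclusion hle, ?_⟩
  rw [Category.assoc, IdealSheafData.inclusion_subschemeι]
  exact g.toImage_imageι

/-- Stacks 04PW. -/
theorem main (X : Scheme.{u}) :
    Set.BijOn (fun I : X.IdealSheafData => I.support) {I : X.IdealSheafData | Flat I.subschemeι}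
        {Z : TopologicalSpace.Closeds ↑X | StableUnderGeneralization (Z : Set ↑X)} ∧
      ∀ I : X.IdealSheafData, Flat I.subschemeι → ∀ (Y : Scheme.{u}) (g : Y ⟶ X),
        Set.range g.base ⊆ (I.support : Set ↑X) → ∃ g' : Y ⟶ I.subscheme, g' ≫ I.subschemeι = g := by
  refine ⟨⟨fun I hI => stableUnderGeneralization_support I hI,
    fun I hI J hJ h => eq_of_support_eq I J hI hJ h,
    fun Z hZ => ⟨idealSheaf Z hZ, flat_idealSheaf Z hZ, support_idealSheaf Z hZ⟩⟩,
    fun I hI Y g hg => exists_factor I hI g hg⟩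

end Groth.Agent.H47.FlatClosed
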