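import Mathlib

/-!
# An isomorphism criterion modulo a square-zero ideal
-/

set_option autoImplicit false
set_option linter.unusedSectionVars false
set_option linter.style.haveILetI false
set_option linter.unusedVariables false
universe u

namespace Groth.Agent.H47

open TensorProduct

section

variable {A' : Type*} [CommRing A'] (I : Ideal A')

/-- The multiplication map `M ⊗ I → M`. -/
noncomputable def muI (M : Type*) [AddCommGroup M] [Module A' M] : M ⊗[A'] I →ₗ[A'] M :=
  (TensorProduct.rid A' M).toLinearMap ∘ₗ (I.subtype.lTensor M)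

lemma muI_tmul (M : Type*) [AddCommGroup M] [Module A' M] (m : M) (a : I) :
    muI I M (m ⊗ₜ a) = (a : A') • m := by
  simp [muI]

lemma muI_natural {M N : Type*} [AddCommGroup M] [Module A' M] [AddCommGroup N] [Module A' N]
    (f : M →ₗ[A'] N) (ζ : M ⊗[A'] I) : muI I N (f.rTensor I ζ) = f (muI I M ζ) := by
  induction ζ using TensorProduct.induction_on with
  | zero => simp
  | tmul m a => rw [LinearMap.rTensor_tmul, muI_tmul, muI_tmul, map_smul]
  | add x y hx hy => rw [map_add, map_add, map_add, map_add, hx, hy]

lemma exists_muI_eq (M : Type*) [AddCommGroup M] [Module A' M] (x : M)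
    (hx : x ∈ I • (⊤ : Submodule A' M)) : ∃ ζ : M ⊗[A'] I, muI I M ζ = x := by
  refine Submodule.smul_induction_on hx (fun a ha m _ => ⟨m ⊗ₜ ⟨a, ha⟩, ?_⟩) ?_
  · rw [muI_tmul]
  · rintro x y ⟨ζ₁, rfl⟩ ⟨ζ₂, rfl⟩
    exact ⟨ζ₁ + ζ₂, map_add _ _ _⟩

/-- If `I² = 0`, then `M ⊗ I → (M / I M) ⊗ I` is injective. -/
lemma rTensor_mkQ_injective (hI : I ^ 2 = ⊥) (M : Type*) [AddCommGroup M] [Module A' M] :
    Function.Injective ((Submodule.mkQ (I • (⊤ : Submodule A' M))).rTensor I) := by
  have hex := rTensor_exact I
    (LinearMap.exact_subtype_mkQ (I • (⊤ : Submodule A' M)))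
    (Submodule.mkQ_surjective _)
  have hzero : ∀ w : (I • (⊤ : Submodule A' M) : Submodule A' M) ⊗[A'] I,
      (I • (⊤ : Submodule A' M)).subtype.rTensor I w = 0 := by
    intro w
    induction w using TensorProduct.induction_on with
    | zero => simp
    | tmul n a =>
      obtain ⟨n, hn⟩ := n
      rw [LinearMap.rTensor_tmul]
      change n ⊗ₜ[A'] a = 0
      refine Submodule.smul_induction_on hn (fun a' ha' m _ => ?_) ?_
      · have : (a' : A') • (a : I) = 0 := by
          apply Subtype.ext
          change a' * (a : A') = 0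
          have : a' * (a : A') ∈ I ^ 2 := by
            rw [pow_two]
            exact Ideal.mul_mem_mul ha' a.2
          rw [hI] at this
          exact this
        rw [TensorProduct.smul_tmul, this, tmul_zero]
      · intro x y hx hy
        rw [add_tmul, hx, hy, add_zero]
    | add x y hx hy => rw [map_add, hx, hy, add_zero]
  rw [injective_iff_map_eq_zero]
  intro ζ hζ
  obtain ⟨w, rfl⟩ := (hex ζ).mp hζ
  exact hzero w

end

/-- **Isomorphism criterion modulo a square-zero ideal.** -/
theorem bijective_of_sqZero {A' : Type*} [CommRing A'] (I : Ideal A') (hI : I ^ 2 = ⊥)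
    {B'' B' : Type*} [CommRing B''] [CommRing B'] [Algebra A' B''] [Algebra A' B']
    (φ : B'' →ₐ[A'] B')
    (h1 : ∀ b' : B', ∃ b'' : B'', b' - φ b'' ∈ I • (⊤ : Submodule A' B'))
    (h2 : ∀ x : B'', φ x ∈ I • (⊤ : Submodule A' B') → x ∈ I • (⊤ : Submodule A' B''))
    (hinj : Function.Injective (I.subtype.baseChange B')) :
    Function.Bijective φ := by
  -- products of two elements of `I B'` vanish
  have hsq : ∀ x ∈ I • (⊤ : Submodule A' B'), ∀ y ∈ I • (⊤ : Submodule A' B'), x * y = 0 := by
    intro x hx y hy
    refine Submodule.smul_induction_on hx (fun a ha m _ => ?_) (fun x₁ x₂ h₁ h₂ => ?_)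
    · refine Submodule.smul_induction_on hy (fun a' ha' m' _ => ?_) (fun y₁ y₂ h₁ h₂ => ?_)
      · have : a * a' = 0 := by
          have : a * a' ∈ I ^ 2 := by rw [pow_two]; exact Ideal.mul_mem_mul ha ha'
          rw [hI] at this
          exact this
        rw [smul_mul_smul_comm, this, zero_smul]
      · rw [mul_add, h₁, h₂, add_zero]
    · rw [add_mul, h₁, h₂, add_zero]
  constructor
  · -- injectivity
    rw [injective_iff_map_eq_zero]
    intro x hx
    have hxI : x ∈ I • (⊤ : Submodule A' B'') := h2 x (by rw [hx]; exact Submodule.zero_mem _)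
    obtain ⟨ζ, rfl⟩ := exists_muI_eq I B'' x hxI
    have hφζ : φ.toLinearMap.rTensor I ζ = 0 := by
      have h0 : muI I B' (φ.toLinearMap.rTensor I ζ) = 0 := by
        rw [muI_natural]
        exact hx
      apply hinj
      rw [map_zero]
      apply (TensorProduct.rid A' B').injective
      rw [map_zero, ← h0]
      generalize φ.toLinearMap.rTensor I ζ = w
      induction w using TensorProduct.induction_on with
      | zero => simp
      | tmul m a => simp [muI_tmul]
      | add x y hx hy => rw [map_add, map_add, map_add, hx, hy]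
    -- the induced map on quotients
    let φbar : (B'' ⧸ (I • (⊤ : Submodule A' B''))) →ₗ[A'] (B' ⧸ (I • (⊤ : Submodule A' B'))) :=
      Submodule.mapQ _ _ φ.toLinearMap (by
        intro y hy
        refine Submodule.smul_induction_on hy (fun a ha m _ => ?_) (fun y₁ y₂ h₁ h₂ => ?_)
        · rw [Submodule.mem_comap, map_smul]
          exact Submodule.smul_mem_smul ha Submodule.mem_top
        · exact Submodule.add_mem _ h₁ h₂)
    have hφbar_inj : Function.Injective φbar := by
      rw [injective_iff_map_eq_zero]
      intro y hy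
      obtain ⟨y, rfl⟩ := Submodule.Quotient.mk_surjective _ y
      change Submodule.Quotient.mk (φ y) = 0 at hy
      rw [Submodule.Quotient.mk_eq_zero] at hy
      rw [Submodule.Quotient.mk_eq_zero]
      exact h2 y hy
    have hφbar_surj : Function.Surjective φbar := by
      intro y
      obtain ⟨y, rfl⟩ := Submodule.Quotient.mk_surjective _ y
      obtain ⟨b'', hb''⟩ := h1 y
      refine ⟨Submodule.Quotient.mk b'', ?_⟩
      change Submodule.Quotient.mk (φ b'') = _
      rw [eq_comm, Submodule.Quotient.eq]
      exact hb''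
    let e := LinearEquiv.ofBijective φbar ⟨hφbar_inj, hφbar_surj⟩
    have hsquare : (φbar.rTensor I) ((Submodule.mkQ _).rTensor I ζ) =
        (Submodule.mkQ _).rTensor I (φ.toLinearMap.rTensor I ζ) := by
      rw [← LinearMap.comp_apply, ← LinearMap.comp_apply, ← LinearMap.rTensor_comp,
        ← LinearMap.rTensor_comp]
      rfl
    rw [hφζ, map_zero] at hsquare
    have hbar_inj : Function.Injective (φbar.rTensor I) := by
      have : φbar.rTensor I = (e.rTensor I).toLinearMap := rfl
      rw [this]
      exact (e.rTensor I).injective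
    have h3 : (Submodule.mkQ (I • (⊤ : Submodule A' B''))).rTensor I ζ = 0 :=
      hbar_inj (by rw [hsquare, map_zero])
    have h4 : ζ = 0 := rTensor_mkQ_injective I hI B'' (by rw [h3, map_zero])
    rw [h4, map_zero]
  · -- surjectivity
    have hrange : ∀ d ∈ I • (⊤ : Submodule A' B'), d ∈ φ.range := by
      intro d hd
      refine Submodule.smul_induction_on hd (fun a ha m _ => ?_) (fun x y hx hy => ?_)
      · obtain ⟨m'', hm''⟩ := h1 m
        have h0 : a • (m - φ m'') = 0 := by
          have h5 : a • (1 : B') ∈ I • (⊤ : Submodule A' B') :=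
            Submodule.smul_mem_smul ha Submodule.mem_top
          have := hsq _ h5 _ hm''
          rwa [smul_mul_assoc, one_mul] at this
        refine ⟨a • m'', ?_⟩
        rw [smul_sub, sub_eq_zero] at h0
        rw [h0]
        exact map_smul φ a m''
      · exact φ.range.add_mem hx hy
    intro b'
    obtain ⟨b'', hb''⟩ := h1 b'
    obtain ⟨c, hc⟩ := hrange _ hb''
    have hc' : φ c = b' - φ b'' := hc
    exact ⟨c + b'', by rw [map_add, hc']; ring⟩

end Groth.Agent.H47
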