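import Groth.Agent.H47.TildeExact
import Mathlib.CategoryTheory.Limits.Preserves.Shapes.Kernels

set_option autoImplicit false
universe u

open AlgebraicGeometry CategoryTheory Limits TopologicalSpace Opposite

namespace Groth.Agent.H47

variable {R : CommRingCat.{u}}

/-- A module on `Spec R` isomorphic to some `tilde N` is quasi-coherent. -/
theorem isQuasicoherent_of_iso_tilde (M : (Spec R).Modules) (N : ModuleCat.{u} R)
    (e : tilde N ≅ M) : M.IsQuasicoherent :=
  (SheafOfModules.isQuasicoherent (Spec R).ringCatSheaf).prop_of_iso e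
    (by dsimp [SheafOfModules.isQuasicoherent]; infer_instance)

theorem isQuasicoherent_kernel {M N : (Spec R).Modules} [M.IsQuasicoherent] [N.IsQuasicoherent]
    (φ : M ⟶ N) : (kernel φ).IsQuasicoherent := by
  have := tilde_preservesFiniteLimits R
  let adj := tilde.adjunction (R := R)
  let φ' := (moduleSpecΓFunctor (R := R)).map φ
  have hM : IsIso (adj.counit.app M) := by
    change IsIso M.fromTildeΓ; infer_instance
  have hN : IsIso (adj.counit.app N) := by
    change IsIso N.fromTildeΓ; infer_instance
  have nat : (tilde.functor R).map φ' ≫ adj.counit.app N = adj.counit.app M ≫ φ :=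
    adj.counit.naturality φ
  let e1 : (tilde.functor R).obj (kernel φ') ≅ kernel ((tilde.functor R).map φ') :=
    PreservesKernel.iso _ _
  let e2 : kernel ((tilde.functor R).map φ') ≅ kernel φ :=
    kernel.mapIso _ _ (asIso (adj.counit.app M)) (asIso (adj.counit.app N)) nat
  exact isQuasicoherent_of_iso_tilde _ (kernel φ') (e1 ≪≫ e2)

theorem isQuasicoherent_cokernel {M N : (Spec R).Modules} [M.IsQuasicoherent] [N.IsQuasicoherent]
    (φ : M ⟶ N) : (cokernel φ).IsQuasicoherent := by
  have := tilde_preservesFiniteColimits R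
  let adj := tilde.adjunction (R := R)
  let φ' := (moduleSpecΓFunctor (R := R)).map φ
  have hM : IsIso (adj.counit.app M) := by
    change IsIso M.fromTildeΓ; infer_instance
  have hN : IsIso (adj.counit.app N) := by
    change IsIso N.fromTildeΓ; infer_instance
  have nat : (tilde.functor R).map φ' ≫ adj.counit.app N = adj.counit.app M ≫ φ :=
    adj.counit.naturality φ
  let e1 : (tilde.functor R).obj (cokernel φ') ≅ cokernel ((tilde.functor R).map φ') :=
    PreservesCokernel.iso _ _
  let e2 : cokernel ((tilde.functor R).map φ') ≅ cokernel φ :=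
    cokernel.mapIso _ _ (asIso (adj.counit.app M)) (asIso (adj.counit.app N)) nat
  exact isQuasicoherent_of_iso_tilde _ (cokernel φ') (e1 ≪≫ e2)

end Groth.Agent.H47

namespace Groth.Agent.H47

variable {R : CommRingCat.{u}}

theorem isQuasicoherent_colimit {J : Type u} [SmallCategory J] (F : J ⥤ (Spec R).Modules)
    (hF : ∀ j, (F.obj j).IsQuasicoherent) : (colimit F).IsQuasicoherent := by
  have : PreservesColimitsOfSize.{u, u} (tilde.functor R) :=
    (tilde.adjunction (R := R)).leftAdjoint_preservesColimits
  let adj := tilde.adjunction (R := R)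
  let G := moduleSpecΓFunctor (R := R)
  have hiso : ∀ j, IsIso ((Functor.whiskerLeft F adj.counit).app j) := by
    intro j
    have := hF j
    change IsIso (F.obj j).fromTildeΓ
    infer_instance
  have : IsIso (Functor.whiskerLeft F adj.counit) := NatIso.isIso_of_isIso_app _
  let α : (F ⋙ G) ⋙ tilde.functor R ≅ F :=
    (Functor.associator _ _ _) ≪≫ asIso (Functor.whiskerLeft F adj.counit) ≪≫ F.rightUnitor
  let e1 : (tilde.functor R).obj (colimit (F ⋙ G)) ≅ colimit ((F ⋙ G) ⋙ tilde.functor R) :=
    preservesColimitIso _ _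
  let e2 : colimit ((F ⋙ G) ⋙ tilde.functor R) ≅ colimit F :=
    (HasColimit.isoOfNatIso α)
  exact isQuasicoherent_of_iso_tilde _ _ (e1 ≪≫ e2)

end Groth.Agent.H47
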