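import Mathlib.AlgebraicGeometry.Modules.Tilde
import Mathlib.CategoryTheory.Limits.Preserves.Finite
import Mathlib.CategoryTheory.Adjunction.Limits
import Mathlib.Algebra.Homology.ShortComplex.ExactFunctor

set_option autoImplicit false
universe u

open AlgebraicGeometry CategoryTheory Limits TopologicalSpace Opposite

namespace Groth.Agent.H47

theorem comapFun_injective {R : Type u} [CommRing R] {M N : Type u} [AddCommGroup M] [Module R M]
    [AddCommGroup N] [Module R N] (f : M →ₗ[R] N) (hf : Function.Injective f)
    (y : PrimeSpectrum.Top R) :
    Function.Injective (StructureSheaf.Localizations.comapFun (σ := RingHom.id R) f y) := by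
  rw [injective_iff_map_eq_zero]
  intro x
  induction x using LocalizedModule.induction_on with
  | h a b =>
    intro h
    rw [StructureSheaf.Localizations.comapFun_mk] at h
    rw [← LocalizedModule.zero_mk 1, LocalizedModule.mk_eq] at h ⊢
    obtain ⟨u, hu⟩ := h
    refine ⟨⟨u.1, u.2⟩, ?_⟩
    apply hf
    simp only [smul_zero, Submonoid.smul_def, map_smul, one_smul] at hu ⊢
    simpa using hu

end Groth.Agent.H47

namespace Groth.Agent.H47

theorem tilde_map_app_injective {R : CommRingCat.{u}} {M N : ModuleCat.{u} R} (f : M ⟶ N)
    (hf : Function.Injective f.hom) (U : (Opens (Spec R))ᵒᵖ) :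
    Function.Injective ((tilde.map f).val.app U) := by
  intro s t hst
  apply Subtype.ext
  funext y
  apply comapFun_injective f.hom hf y.1
  exact congrFun (congrArg Subtype.val hst) y

end Groth.Agent.H47

namespace Groth.Agent.H47

theorem tilde_map_mono {R : CommRingCat.{u}} {M N : ModuleCat.{u} R} (f : M ⟶ N) [Mono f] :
    Mono (tilde.map f) := by
  have hf : Function.Injective f.hom := (ModuleCat.mono_iff_injective f).mp inferInstance
  have h1 : Mono ((SheafOfModules.forget _).map (tilde.map f)) :=
    PresheafOfModules.mono_of_injective (fun U => tilde_map_app_injective f hf U)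
  exact (SheafOfModules.forget _).mono_of_mono_map h1

theorem tilde_preservesFiniteColimits (R : CommRingCat.{u}) :
    PreservesFiniteColimits (tilde.functor R) := by
  have : PreservesColimitsOfSize.{0, 0} (tilde.functor R) :=
    (tilde.adjunction (R := R)).leftAdjoint_preservesColimits
  exact PreservesColimitsOfSize.preservesFiniteColimits _

theorem tilde_preservesFiniteLimits (R : CommRingCat.{u}) :
    PreservesFiniteLimits (tilde.functor R) := by
  have hc := tilde_preservesFiniteColimits R
  rw [Functor.preservesFiniteLimits_iff_forall_exact_map_and_mono]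
  intro S hS
  have h1 := ((Functor.preservesFiniteColimits_iff_forall_exact_map_and_epi (tilde.functor R)).mp hc S hS).1
  refine ⟨h1, ?_⟩
  have := hS.mono_f
  exact tilde_map_mono S.f

end Groth.Agent.H47
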