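import Mathlib
import Groth.Prelude.Def_CohB1
import Groth.Prelude.Def_Coh
import Groth.Agent.H8.QCohStalk

/-!
# Support of a quasi-coherent module (S9390, S9373)
-/

set_option autoImplicit false
set_option linter.style.haveILetI false
universe u
open CategoryTheory CategoryTheory.Limits AlgebraicGeometry TopologicalSpace Opposite

namespace Groth.Agent.H47.QCohSupport

/-- S9390: on an affine open, the support of `F` corresponds to the support of `Γ(F, U)`. -/
theorem mem_support_iff (X : Scheme.{u}) (F : X.Modules) [F.IsQuasicoherent]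
    {U : X.Opens} (hU : IsAffineOpen U) (x : X) (hx : x ∈ U) :
    hU.primeIdealOf ⟨x, hx⟩ ∈ Module.support Γ(X, U) Γ(F, U) ↔ x ∈ CohB1.support F := by
  letI := Groth.Agent.H8.stalkModule F hx
  haveI := Groth.Agent.H8.isLocalizedModule_germₗ F hU hx
  let e := IsLocalizedModule.iso (hU.primeIdealOf ⟨x, hx⟩).asIdeal.primeCompl
    (Groth.Agent.H8.germₗ F hx)
  rw [Module.mem_support_iff]
  change _ ↔ ¬ Subsingleton (F.presheaf.stalk x)
  rw [not_subsingleton_iff_nontrivial]
  exact ⟨fun h => e.symm.toEquiv.nontrivial, fun h => e.toEquiv.nontrivial⟩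

theorem primeIdealOf_le_of_specializes {X : Scheme.{u}} {U : X.Opens} (hU : IsAffineOpen U)
    {x y : X} (hx : x ∈ U) (hy : y ∈ U) (h : x ⤳ y) :
    hU.primeIdealOf ⟨x, hx⟩ ≤ hU.primeIdealOf ⟨y, hy⟩ := by
  rw [PrimeSpectrum.le_iff_specializes]
  have h1 : (⟨x, hx⟩ : U) ⤳ ⟨y, hy⟩ := (subtype_specializes_iff _ _).2 h
  exact h1.map hU.isoSpec.hom.continuous

/-- S9373: the support of a quasi-coherent module is stable under specialization. -/
theorem stableUnderSpecialization_support (X : Scheme.{u}) (F : X.Modules) [F.IsQuasicoherent] :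
    StableUnderSpecialization (CohB1.support F) := by
  intro x y hxy hx
  obtain ⟨U, hU, hyU, -⟩ := exists_isAffineOpen_mem_and_subset
    (show y ∈ (⊤ : X.Opens) from trivial)
  have hxU : x ∈ U := hxy.mem_open U.isOpen hyU
  rw [← mem_support_iff X F hU y hyU]
  rw [← mem_support_iff X F hU x hxU] at hx
  exact Module.mem_support_mono (primeIdealOf_le_of_specializes hU hxU hyU hxy) hx

end Groth.Agent.H47.QCohSupport
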