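import Mathlib
import Groth.Prelude.Def_CohB1
import Groth.Prelude.Def_Coh
import Groth.Agent.H8.QCohStalk
import Groth.Agent.H8.AffineLocal
import Groth.Agent.H44.FiniteSections
import Groth.Agent.H47.QCohSupport

/-!
# S2313: on a Noetherian scheme, `Supp F ⊆ V(J)` implies `Jⁿ F = 0`
-/

set_option autoImplicit false
set_option linter.style.haveILetI false
universe u
open CategoryTheory CategoryTheory.Limits AlgebraicGeometry TopologicalSpace Opposite

namespace Groth.Agent.H47.IdealPowKill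

variable {X : Scheme.{u}}

/-- The ideal of `O_{X,x}` generated by the germs of `J(U)` does not depend on the affine open `U ∋ x`. -/
theorem map_germ_ideal_eq (J : X.IdealSheafData) (U U' : X.affineOpens) (x : X)
    (hx : x ∈ U.1) (hx' : x ∈ U'.1) :
    (J.ideal U).map (X.presheaf.germ U.1 x hx).hom =
      (J.ideal U').map (X.presheaf.germ U'.1 x hx').hom := by
  obtain ⟨W, hW, hxW, hWU⟩ := exists_isAffineOpen_mem_and_subset
    (show x ∈ U.1 ⊓ U'.1 from ⟨hx, hx'⟩)
  have key : ∀ (V : X.affineOpens) (hxV : x ∈ V.1) (hWV : (⟨W, hW⟩ : X.affineOpens) ≤ V),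
      (J.ideal V).map (X.presheaf.germ V.1 x hxV).hom =
        (J.ideal ⟨W, hW⟩).map (X.presheaf.germ W x hxW).hom := by
    intro V hxV hWV
    rw [← J.map_ideal hWV, Ideal.map_map]
    congr 1
    rw [← CommRingCat.hom_comp]
    congr 1
    exact (X.presheaf.germ_res (homOfLE hWV) x hxW).symm
  rw [key U hx (fun y hy => (hWU hy).1), key U' hx' (fun y hy => (hWU hy).2)]

/-- Germs of annihilators of sections annihilate the stalk. -/
theorem germ_smul_eq_zero (F : X.Modules) [F.IsQuasicoherent] {V : X.Opens} (hV : IsAffineOpen V)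
    {x : X} (hxV : x ∈ V) (a : Γ(X, V)) (ha : ∀ s : Γ(F, V), a • s = 0)
    (y : F.presheaf.stalk x) : (X.presheaf.germ V x hxV).hom a • y = 0 := by
  letI := Groth.Agent.H8.stalkModule F hxV
  haveI := Groth.Agent.H8.isLocalizedModule_germₗ F hV hxV
  obtain ⟨⟨s', t⟩, hst⟩ := IsLocalizedModule.surj (hV.primeIdealOf ⟨x, hxV⟩).asIdeal.primeCompl
    (Groth.Agent.H8.germₗ F hxV) y
  -- hst : t • y = germₗ s'
  have ht : IsUnit ((X.presheaf.germ V x hxV).hom (t : Γ(X, V))) := by
    by_contra h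
    exact t.2 ((Groth.Agent.H8.mem_primeIdealOf_iff hV hxV _).mpr h)
  have h1 : (X.presheaf.germ V x hxV).hom (t : Γ(X, V)) • y = F.presheaf.germ V x hxV s' := hst
  have h2 : (X.presheaf.germ V x hxV).hom a • F.presheaf.germ V x hxV s' = 0 := by
    rw [← Groth.Agent.H8.germ_smul, ha, map_zero]
  rw [← h1, smul_smul, mul_comm, ← smul_smul] at h2
  obtain ⟨u, hu⟩ := ht
  have h3 := congrArg (fun z => (↑u⁻¹ : X.presheaf.stalk x) • z) h2
  simp only [smul_zero] at h3
  rw [← hu, smul_smul, Units.inv_mul, one_smul] at h3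
  exact h3

/-- elements of the extended ideal kill the stalk -/
theorem map_germ_smul_eq_zero (F : X.Modules) [F.IsQuasicoherent] {V : X.Opens}
    (hV : IsAffineOpen V) {x : X} (hxV : x ∈ V) (I : Ideal Γ(X, V))
    (hI : ∀ a ∈ I, ∀ s : Γ(F, V), a • s = 0)
    (b : X.presheaf.stalk x) (hb : b ∈ I.map (X.presheaf.germ V x hxV).hom)
    (y : F.presheaf.stalk x) : b • y = 0 := by
  induction hb using Submodule.span_induction with
  | mem b hb =>
    obtain ⟨a, ha, rfl⟩ := hb
    exact germ_smul_eq_zero F hV hxV a (hI a ha) y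
  | zero => exact zero_smul _ _
  | add b c _ _ hb hc => rw [add_smul, hb, hc, add_zero]
  | smul r b _ hb => rw [smul_eq_mul, mul_smul, hb, smul_zero]

/-- per-affine exponent -/
theorem exists_pow_le_annihilator [IsLocallyNoetherian X] (F : X.Modules) [F.IsQuasicoherent]
    [SheafOfModules.IsFiniteType (R := X.ringCatSheaf) F] (J : X.IdealSheafData)
    (h : CohB1.support F ⊆ (J.support : Set X)) (U : X.affineOpens) :
    ∃ n : ℕ, J.ideal U ^ n ≤ Module.annihilator Γ(X, U.1) Γ(F, U.1) := by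
  haveI : IsNoetherianRing Γ(X, U.1) := IsLocallyNoetherian.component_noetherian U
  haveI : Module.Finite Γ(X, U.1) Γ(F, U.1) := Groth.Agent.H44.finite_sections_of_isFiniteType F U.2
  have hsub : PrimeSpectrum.zeroLocus (Module.annihilator Γ(X, U.1) Γ(F, U.1) : Set Γ(X, U.1)) ⊆
      PrimeSpectrum.zeroLocus (J.ideal U : Set Γ(X, U.1)) := by
    rw [← Module.support_eq_zeroLocus]
    intro p hp
    have hxU : U.2.fromSpec p ∈ U.1 := Groth.Agent.H8.fromSpec_mem U.2 p
    have hp' : U.2.primeIdealOf ⟨U.2.fromSpec p, hxU⟩ = p := Groth.Agent.H8.primeIdealOf_fromSpec U.2 p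
    rw [← hp'] at hp
    have h1 : U.2.fromSpec p ∈ CohB1.support F :=
      (Groth.Agent.H47.QCohSupport.mem_support_iff X F U.2 _ hxU).1 hp
    have h2 := (Groth.Agent.H8.mem_support_iff_le_primeIdealOf J U.2 _ hxU).1 (h h1)
    rw [hp'] at h2
    rw [PrimeSpectrum.mem_zeroLocus]
    exact h2
  rw [PrimeSpectrum.zeroLocus_subset_zeroLocus_iff] at hsub
  exact Ideal.exists_pow_le_of_le_radical_of_fg hsub (IsNoetherian.noetherian _)

/-- **S2313** -/
theorem main (X : Scheme.{u}) [IsNoetherian X] (F : X.Modules) [F.IsQuasicoherent]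
    [SheafOfModules.IsFiniteType (R := X.ringCatSheaf) F] (J : X.IdealSheafData)
    (h : CohB1.support F ⊆ (J.support : Set X)) :
    ∃ n : ℕ, ∀ (U : X.affineOpens) (a : Γ(X, U.1)), a ∈ J.ideal U ^ n →
      ∀ s : Γ(F, U.1), a • s = 0 := by
  classical
  choose nU hnU using exists_pow_le_annihilator F J h
  -- finite affine cover
  obtain ⟨t, ht⟩ := isCompact_univ.elim_finite_subcover (fun U : X.affineOpens => (U.1 : Set X))
    (fun U => U.1.isOpen) (by
      intro x _
      obtain ⟨U, hU, hxU, -⟩ := exists_isAffineOpen_mem_and_subset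
        (show x ∈ (⊤ : X.Opens) from trivial)
      exact Set.mem_iUnion.2 ⟨⟨U, hU⟩, hxU⟩)
  refine ⟨t.sup nU, fun U a ha s => ?_⟩
  apply TopCat.Presheaf.section_ext ⟨F.presheaf, F.isSheaf⟩
  intro x hxU
  rw [map_zero]
  have hx := ht (Set.mem_univ x)
  simp only [Set.mem_iUnion] at hx
  obtain ⟨V, hVt, hxV⟩ := hx
  change F.presheaf.germ U.1 x hxU (a • s) = 0
  rw [Groth.Agent.H8.germ_smul]
  apply map_germ_smul_eq_zero F V.2 hxV (J.ideal V ^ nU V)
    (fun b hb s' => Module.mem_annihilator.1 (hnU V hb) s')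
  rw [Ideal.map_pow, ← map_germ_ideal_eq J U V x hxU hxV, ← Ideal.map_pow]
  apply Ideal.mem_map_of_mem
  exact Ideal.pow_le_pow_right (Finset.le_sup hVt) ha

end Groth.Agent.H47.IdealPowKill
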