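import Mathlib

/-!
# Tensor products and weakly presented directed colimits

A *weak directed system* is a family of `A₀`-algebras `G i` over a directed preorder with maps
`f i j h : G i → G j` (NOT assumed functorial) and compatible maps `g i : G i → A` which are jointly
surjective and such that every element of `ker (g i)` dies under some `f i j h`.

Main results: for any `A₀`-module `M`,
* `exists_rep`: every element of `M ⊗ A` comes from some `M ⊗ G i`;
* `exists_reach_kill`: an element of `M ⊗ G i` dying in `M ⊗ A` dies under `M ⊗ θ` for some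
  `A₀`-algebra map `θ : G i → G j` compatible with the maps to `A`.
-/

set_option autoImplicit false
universe u v

namespace Groth.Agent.H47.ColimKL

open TensorProduct

section

variable {ι : Type u} [Preorder ι]
  (A₀ : Type u) [CommRing A₀] (G : ι → Type u) [∀ i, CommRing (G i)] [∀ i, Algebra A₀ (G i)]
  (A : Type u) [CommRing A] [Algebra A₀ A]

/-- A weakly presented directed colimit. -/
structure Sys where
  f : ∀ i j, i ≤ j → (G i →ₐ[A₀] G j)
  g : ∀ i, G i →ₐ[A₀] A
  hg : ∀ i j (h : i ≤ j), (g j).comp (f i j h) = g i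
  hsurj : ∀ a : A, ∃ i, ∃ x : G i, g i x = a
  hker : ∀ i (x : G i), g i x = 0 → ∃ j, ∃ h : i ≤ j, f i j h x = 0

variable {A₀ G A}
variable (S : Sys A₀ G A)

/-- `θ : G i → G j` is compatible with the maps to the colimit. -/
def Reach (i j : ι) (θ : G i →ₐ[A₀] G j) : Prop := (S.g j).comp θ = S.g i

lemma Reach.refl (i : ι) : Reach S i i (AlgHom.id A₀ (G i)) := AlgHom.comp_id _

lemma Reach.step {i j : ι} (h : i ≤ j) : Reach S i j (S.f i j h) := S.hg i j h

lemma Reach.trans {i j k : ι} {θ : G i →ₐ[A₀] G j} {θ' : G j →ₐ[A₀] G k}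
    (h : Reach S i j θ) (h' : Reach S j k θ') : Reach S i k (θ'.comp θ) := by
  unfold Reach at *
  rw [← AlgHom.comp_assoc, h', h]

lemma Reach.apply {i j : ι} {θ : G i →ₐ[A₀] G j} (h : Reach S i j θ) (x : G i) :
    S.g j (θ x) = S.g i x := DFunLike.congr_fun h x

/-- Finitely many elements of `ker (g i)` can be killed simultaneously. -/
lemma exists_reach_kill_finset (i : ι) (T : Finset (G i)) (hT : ∀ x ∈ T, S.g i x = 0) :
    ∃ (j : ι) (θ : G i →ₐ[A₀] G j), Reach S i j θ ∧ ∀ x ∈ T, θ x = 0 := by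
  classical
  induction T using Finset.induction_on with
  | empty => exact ⟨i, AlgHom.id A₀ (G i), Reach.refl S i, by simp⟩
  | insert a T _ ih =>
    obtain ⟨j, θ, hθ, hk⟩ := ih (fun x hx => hT x (Finset.mem_insert_of_mem hx))
    have ha : S.g j (θ a) = 0 := by rw [hθ.apply, hT a (Finset.mem_insert_self a T)]
    obtain ⟨k, hjk, hka⟩ := S.hker j (θ a) ha
    refine ⟨k, (S.f j k hjk).comp θ, hθ.trans S (Reach.step S hjk), ?_⟩
    intro x hx
    rcases Finset.mem_insert.mp hx with rfl | hx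
    · exact hka
    · rw [AlgHom.comp_apply, hk x hx, map_zero]

variable (M : Type v) [AddCommGroup M] [Module A₀ M]

lemma lTensor_reach {i j : ι} {θ : G i →ₐ[A₀] G j} (h : Reach S i j θ) (u : M ⊗[A₀] G i) :
    (S.g j).toLinearMap.lTensor M (θ.toLinearMap.lTensor M u) = (S.g i).toLinearMap.lTensor M u := by
  rw [← LinearMap.comp_apply, ← LinearMap.lTensor_comp]
  congr 2
  exact congrArg AlgHom.toLinearMap h

variable [IsDirected ι (· ≤ ·)] [Nonempty ι]

/-- Every element of `M ⊗ A` comes from a finite stage. -/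
theorem exists_rep (w : M ⊗[A₀] A) :
    ∃ (i : ι) (w' : M ⊗[A₀] G i), (S.g i).toLinearMap.lTensor M w' = w := by
  induction w using TensorProduct.induction_on with
  | zero => exact ⟨Classical.arbitrary ι, 0, map_zero _⟩
  | tmul m a =>
    obtain ⟨i, x, rfl⟩ := S.hsurj a
    exact ⟨i, m ⊗ₜ x, rfl⟩
  | add w₁ w₂ h₁ h₂ =>
    obtain ⟨i₁, w₁', rfl⟩ := h₁
    obtain ⟨i₂, w₂', rfl⟩ := h₂
    obtain ⟨k, h1, h2⟩ := exists_ge_ge i₁ i₂
    refine ⟨k, (S.f i₁ k h1).toLinearMap.lTensor M w₁' + (S.f i₂ k h2).toLinearMap.lTensor M w₂', ?_⟩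
    rw [map_add, lTensor_reach S M (Reach.step S h1), lTensor_reach S M (Reach.step S h2)]

/-- Finitely many elements of `M ⊗ A` come from a common finite stage. -/
theorem exists_rep_family {κ : Type*} [Finite κ] (w : κ → M ⊗[A₀] A) :
    ∃ (i : ι) (w' : κ → M ⊗[A₀] G i), ∀ k, (S.g i).toLinearMap.lTensor M (w' k) = w k := by
  choose idx w₀ hw₀ using fun k => exists_rep S M (w k)
  obtain ⟨i, hi⟩ := Finite.exists_le idx
  refine ⟨i, fun k => (S.f (idx k) i (hi k)).toLinearMap.lTensor M (w₀ k), fun k => ?_⟩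
  rw [lTensor_reach S M (Reach.step S (hi k)), hw₀]

omit [IsDirected ι (· ≤ ·)] [Nonempty ι] in
/-- Naturality of `finsuppScalarLeft`. -/
lemma finsuppScalarLeft_lTensor {N N' : Type*} [AddCommGroup N] [Module A₀ N] [AddCommGroup N']
    [Module A₀ N'] (X : Type*) [DecidableEq X] (θ : N →ₗ[A₀] N') (u : (X →₀ A₀) ⊗[A₀] N) (x : X) :
    finsuppScalarLeft A₀ N' X (θ.lTensor (X →₀ A₀) u) x = θ (finsuppScalarLeft A₀ N X u x) := by
  induction u using TensorProduct.induction_on with
  | zero => simp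
  | tmul p n =>
    rw [LinearMap.lTensor_tmul, finsuppScalarLeft_apply_tmul_apply,
      finsuppScalarLeft_apply_tmul_apply, map_smul]
  | add u₁ u₂ h₁ h₂ => simp only [map_add, Finsupp.add_apply, h₁, h₂]

omit [IsDirected ι (· ≤ ·)] [Nonempty ι] in
/-- The kernel statement for free modules. -/
lemma exists_reach_kill_free (X : Type*) [DecidableEq X] (i : ι) (u : (X →₀ A₀) ⊗[A₀] G i)
    (hu : (S.g i).toLinearMap.lTensor (X →₀ A₀) u = 0) :
    ∃ (j : ι) (θ : G i →ₐ[A₀] G j), Reach S i j θ ∧ θ.toLinearMap.lTensor (X →₀ A₀) u = 0 := by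
  classical
  let c : X →₀ G i := finsuppScalarLeft A₀ (G i) X u
  have hc : ∀ x, S.g i (c x) = 0 := fun x => by
    have := finsuppScalarLeft_lTensor X (S.g i).toLinearMap u x
    rw [hu, map_zero, Finsupp.zero_apply] at this
    exact this.symm
  obtain ⟨j, θ, hθ, hk⟩ := exists_reach_kill_finset S i (c.support.image c) (by
    intro y hy
    obtain ⟨x, _, rfl⟩ := Finset.mem_image.mp hy
    exact hc x)
  refine ⟨j, θ, hθ, ?_⟩
  apply (finsuppScalarLeft A₀ (G j) X).injective
  ext x
  rw [finsuppScalarLeft_lTensor, map_zero, Finsupp.zero_apply]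
  by_cases hx : x ∈ c.support
  · exact hk _ (Finset.mem_image_of_mem c hx)
  · have : c x = 0 := Finsupp.notMem_support_iff.mp hx
    change θ (c x) = 0
    rw [this, map_zero]

omit [IsDirected ι (· ≤ ·)] [Nonempty ι] in
/-- `lTensor` and `rTensor` commute. -/
lemma comm {M₁ M₂ N₁ N₂ : Type*} [AddCommGroup M₁] [Module A₀ M₁] [AddCommGroup M₂]
    [Module A₀ M₂] [AddCommGroup N₁] [Module A₀ N₁] [AddCommGroup N₂] [Module A₀ N₂]
    (f : M₁ →ₗ[A₀] M₂) (g : N₁ →ₗ[A₀] N₂) (x : M₁ ⊗[A₀] N₁) :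
    g.lTensor M₂ (f.rTensor N₁ x) = f.rTensor N₂ (g.lTensor M₁ x) := by
  rw [← LinearMap.comp_apply, ← LinearMap.comp_apply, LinearMap.lTensor_comp_rTensor,
    LinearMap.rTensor_comp_lTensor]

/-- Passing the kernel statement to quotients. -/
theorem exists_reach_kill_of_surjective (F : Type*) [AddCommGroup F] [Module A₀ F]
    (p : F →ₗ[A₀] M) (hp : Function.Surjective p)
    (hF : ∀ (k : ι) (u : F ⊗[A₀] G k), (S.g k).toLinearMap.lTensor F u = 0 →
      ∃ (j : ι) (θ : G k →ₐ[A₀] G j), Reach S k j θ ∧ θ.toLinearMap.lTensor F u = 0)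
    (i : ι) (u : M ⊗[A₀] G i) (hu : (S.g i).toLinearMap.lTensor M u = 0) :
    ∃ (j : ι) (θ : G i →ₐ[A₀] G j), Reach S i j θ ∧ θ.toLinearMap.lTensor M u = 0 := by
  have hex : Function.Exact (LinearMap.ker p).subtype p := LinearMap.exact_subtype_ker_map p
  obtain ⟨ũ, rfl⟩ := LinearMap.rTensor_surjective (G i) hp u
  have hv : p.rTensor A ((S.g i).toLinearMap.lTensor F ũ) = 0 := by
    rw [← comm]
    exact hu
  obtain ⟨z, hz⟩ := (rTensor_exact A hex hp _).mp hv
  obtain ⟨i', z', rfl⟩ := exists_rep S (LinearMap.ker p) z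
  obtain ⟨k, h1, h2⟩ := exists_ge_ge i i'
  have h'' : (S.g k).toLinearMap.lTensor F
      ((S.f i k h1).toLinearMap.lTensor F ũ -
        (LinearMap.ker p).subtype.rTensor (G k)
          ((S.f i' k h2).toLinearMap.lTensor (LinearMap.ker p) z')) = 0 := by
    rw [map_sub, lTensor_reach S _ (Reach.step S h1), sub_eq_zero, ← hz, comm,
      lTensor_reach S _ (Reach.step S h2)]
  obtain ⟨j, θ, hθ, hk⟩ := hF k _ h''
  refine ⟨j, θ.comp (S.f i k h1), (Reach.step S h1).trans S hθ, ?_⟩
  rw [map_sub, sub_eq_zero] at hk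
  have e1 : (θ.comp (S.f i k h1)).toLinearMap.lTensor M (p.rTensor (G i) ũ) =
      p.rTensor (G j) (θ.toLinearMap.lTensor F
        ((S.f i k h1).toLinearMap.lTensor F ũ)) := by
    rw [comm, ← LinearMap.lTensor_comp_apply]
    rfl
  rw [e1, hk, comm, ← LinearMap.comp_apply (p.rTensor (G j)), ← LinearMap.rTensor_comp]
  have : p ∘ₗ (LinearMap.ker p).subtype = 0 := LinearMap.ext fun x => x.2
  rw [this, LinearMap.rTensor_zero, LinearMap.zero_apply]

/-- An element of `M ⊗ G i` dying in `M ⊗ A` dies at a later stage. -/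
theorem exists_reach_kill (i : ι) (u : M ⊗[A₀] G i)
    (hu : (S.g i).toLinearMap.lTensor M u = 0) :
    ∃ (j : ι) (θ : G i →ₐ[A₀] G j), Reach S i j θ ∧ θ.toLinearMap.lTensor M u = 0 := by
  classical
  exact exists_reach_kill_of_surjective S M (M →₀ A₀) (Finsupp.linearCombination A₀ id)
    (Finsupp.linearCombination_id_surjective A₀ M)
    (fun k u hu => exists_reach_kill_free S M k u hu) i u hu

/-- Finitely many elements of `M ⊗ G i` dying in `M ⊗ A` die simultaneously at a later stage. -/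
theorem exists_reach_kill_family (i : ι) (T : Finset (M ⊗[A₀] G i))
    (hT : ∀ u ∈ T, (S.g i).toLinearMap.lTensor M u = 0) :
    ∃ (j : ι) (θ : G i →ₐ[A₀] G j), Reach S i j θ ∧ ∀ u ∈ T, θ.toLinearMap.lTensor M u = 0 := by
  classical
  induction T using Finset.induction_on with
  | empty => exact ⟨i, AlgHom.id A₀ (G i), Reach.refl S i, by simp⟩
  | insert a T _ ih =>
    obtain ⟨j, θ, hθ, hk⟩ := ih (fun x hx => hT x (Finset.mem_insert_of_mem hx))
    have ha : (S.g j).toLinearMap.lTensor M (θ.toLinearMap.lTensor M a) = 0 := by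
      rw [lTensor_reach S M hθ, hT a (Finset.mem_insert_self a T)]
    obtain ⟨k, θ', hθ', hka⟩ := exists_reach_kill S M j _ ha
    refine ⟨k, θ'.comp θ, hθ.trans S hθ', ?_⟩
    intro x hx
    have hcomp : (θ'.comp θ).toLinearMap.lTensor M x =
        θ'.toLinearMap.lTensor M (θ.toLinearMap.lTensor M x) := by
      rw [← LinearMap.comp_apply, ← LinearMap.lTensor_comp]
      rfl
    rw [hcomp]
    rcases Finset.mem_insert.mp hx with rfl | hx
    · exact hka
    · rw [hk x hx, map_zero]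

end

end Groth.Agent.H47.ColimKL
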