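import Mathlib
import Groth.Agent.H47.ColimKL

/-!
# Weak directed colimits: the functors `G ↦ (B₀ ⊗ G) ⊗_{B₀} N`
-/

set_option autoImplicit false
universe u v

namespace Groth.Agent.H47.ColimKL

open TensorProduct

section

variable {A₀ : Type u} [CommRing A₀] (B₀ : Type u) [CommRing B₀] [Algebra A₀ B₀]

/-- The map `B₀ ⊗ G → B₀ ⊗ G'` induced by `θ : G → G'`. -/
noncomputable abbrev rho {G G' : Type u} [CommRing G] [Algebra A₀ G] [CommRing G'] [Algebra A₀ G']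
    (θ : G →ₐ[A₀] G') : B₀ ⊗[A₀] G →ₐ[B₀] B₀ ⊗[A₀] G' :=
  Algebra.TensorProduct.map (AlgHom.id B₀ B₀) θ

lemma rho_tmul {G G' : Type u} [CommRing G] [Algebra A₀ G] [CommRing G'] [Algebra A₀ G']
    (θ : G →ₐ[A₀] G') (b : B₀) (y : G) : rho B₀ θ (b ⊗ₜ y) = b ⊗ₜ θ y := rfl

lemma rho_eq_lTensor {G G' : Type u} [CommRing G] [Algebra A₀ G] [CommRing G'] [Algebra A₀ G']
    (θ : G →ₐ[A₀] G') (x : B₀ ⊗[A₀] G) : rho B₀ θ x = θ.toLinearMap.lTensor B₀ x := by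
  induction x using TensorProduct.induction_on with
  | zero => simp
  | tmul b y => rfl
  | add x y hx hy => rw [map_add, map_add, hx, hy]

lemma rho_comp {G G' G'' : Type u} [CommRing G] [Algebra A₀ G] [CommRing G'] [Algebra A₀ G']
    [CommRing G''] [Algebra A₀ G''] (θ : G →ₐ[A₀] G') (θ' : G' →ₐ[A₀] G'') (x : B₀ ⊗[A₀] G) :
    rho B₀ (θ'.comp θ) x = rho B₀ θ' (rho B₀ θ x) := by
  induction x using TensorProduct.induction_on with
  | zero => simp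
  | tmul b y => rfl
  | add x y hx hy => rw [map_add, map_add, map_add, hx, hy]

variable (N : Type v) [AddCommGroup N] [Module B₀ N] [Module A₀ N] [IsScalarTower A₀ B₀ N]

/-- The map `(B₀ ⊗ G) ⊗_{B₀} N → (B₀ ⊗ G') ⊗_{B₀} N` induced by `θ : G → G'`. -/
noncomputable abbrev tau {G G' : Type u} [CommRing G] [Algebra A₀ G] [CommRing G'] [Algebra A₀ G']
    (θ : G →ₐ[A₀] G') : (B₀ ⊗[A₀] G) ⊗[B₀] N →ₗ[B₀] (B₀ ⊗[A₀] G') ⊗[B₀] N :=
  (rho B₀ θ).toLinearMap.rTensor N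

lemma tau_tmul {G G' : Type u} [CommRing G] [Algebra A₀ G] [CommRing G'] [Algebra A₀ G']
    (θ : G →ₐ[A₀] G') (r : B₀ ⊗[A₀] G) (n : N) : tau B₀ N θ (r ⊗ₜ n) = rho B₀ θ r ⊗ₜ n := rfl

lemma tau_comp {G G' G'' : Type u} [CommRing G] [Algebra A₀ G] [CommRing G'] [Algebra A₀ G']
    [CommRing G''] [Algebra A₀ G''] (θ : G →ₐ[A₀] G') (θ' : G' →ₐ[A₀] G'')
    (x : (B₀ ⊗[A₀] G) ⊗[B₀] N) :
    tau B₀ N (θ'.comp θ) x = tau B₀ N θ' (tau B₀ N θ x) := by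
  induction x using TensorProduct.induction_on with
  | zero => simp
  | tmul r n => rw [tau_tmul, tau_tmul, tau_tmul, rho_comp]
  | add x y hx hy => rw [map_add, map_add, map_add, hx, hy]

/-- The comparison `(B₀ ⊗ G) ⊗_{B₀} N ≃ N ⊗ G`. -/
noncomputable def eN (G : Type u) [CommRing G] [Algebra A₀ G] :
    (B₀ ⊗[A₀] G) ⊗[B₀] N ≃ₗ[B₀] N ⊗[A₀] G :=
  (TensorProduct.comm B₀ (B₀ ⊗[A₀] G) N).trans
    (TensorProduct.AlgebraTensorModule.cancelBaseChange A₀ B₀ B₀ N G)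

lemma eN_tmul (G : Type u) [CommRing G] [Algebra A₀ G] (b : B₀) (y : G) (n : N) :
    eN B₀ N G ((b ⊗ₜ[A₀] y) ⊗ₜ[B₀] n) = (b • n) ⊗ₜ[A₀] y := by
  simp [eN]

lemma eN_tau {G G' : Type u} [CommRing G] [Algebra A₀ G] [CommRing G'] [Algebra A₀ G']
    (θ : G →ₐ[A₀] G') (x : (B₀ ⊗[A₀] G) ⊗[B₀] N) :
    eN B₀ N G' (tau B₀ N θ x) = θ.toLinearMap.lTensor N (eN B₀ N G x) := by
  induction x using TensorProduct.induction_on with
  | zero => simp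
  | tmul r n =>
    induction r using TensorProduct.induction_on with
    | zero => simp
    | tmul b y => rw [tau_tmul, rho_tmul, eN_tmul, eN_tmul, LinearMap.lTensor_tmul]; rfl
    | add r₁ r₂ h₁ h₂ =>
      rw [add_tmul, map_add, map_add, map_add, map_add, h₁, h₂]
  | add x y hx hy => rw [map_add, map_add, map_add, map_add, hx, hy]

end

section

variable {ι : Type u} [Preorder ι]
  {A₀ : Type u} [CommRing A₀] {G : ι → Type u} [∀ i, CommRing (G i)] [∀ i, Algebra A₀ (G i)]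
  {A : Type u} [CommRing A] [Algebra A₀ A] (S : Sys A₀ G A)
  (B₀ : Type u) [CommRing B₀] [Algebra A₀ B₀]
  (N : Type v) [AddCommGroup N] [Module B₀ N] [Module A₀ N] [IsScalarTower A₀ B₀ N]

lemma tau_reach {i j : ι} {θ : G i →ₐ[A₀] G j} (h : Reach S i j θ)
    (x : (B₀ ⊗[A₀] G i) ⊗[B₀] N) :
    tau B₀ N (S.g j) (tau B₀ N θ x) = tau B₀ N (S.g i) x := by
  rw [← tau_comp]
  congr 2

lemma rho_reach {i j : ι} {θ : G i →ₐ[A₀] G j} (h : Reach S i j θ) (x : B₀ ⊗[A₀] G i) :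
    rho B₀ (S.g j) (rho B₀ θ x) = rho B₀ (S.g i) x := by
  rw [← rho_comp]
  congr 2

variable [IsDirected ι (· ≤ ·)] [Nonempty ι]

/-- Finitely many elements of `B₀ ⊗ A` come from a common stage. -/
theorem exists_rep_rho {κ : Type*} [Finite κ] (w : κ → B₀ ⊗[A₀] A) :
    ∃ (i : ι) (w' : κ → B₀ ⊗[A₀] G i), ∀ k, rho B₀ (S.g i) (w' k) = w k := by
  obtain ⟨i, w', hw'⟩ := exists_rep_family S B₀ w
  exact ⟨i, w', fun k => by rw [rho_eq_lTensor, hw']⟩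

/-- Finitely many elements of `B₀ ⊗ G i` dying in `B₀ ⊗ A` die at a later stage. -/
theorem exists_reach_kill_rho (i : ι) (T : Finset (B₀ ⊗[A₀] G i))
    (hT : ∀ u ∈ T, rho B₀ (S.g i) u = 0) :
    ∃ (j : ι) (θ : G i →ₐ[A₀] G j), Reach S i j θ ∧ ∀ u ∈ T, rho B₀ θ u = 0 := by
  obtain ⟨j, θ, hθ, hk⟩ := exists_reach_kill_family S B₀ i T
    (fun u hu => by rw [← rho_eq_lTensor]; exact hT u hu)
  exact ⟨j, θ, hθ, fun u hu => by rw [rho_eq_lTensor]; exact hk u hu⟩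

/-- Finitely many elements of `(B₀ ⊗ A) ⊗ N` come from a common stage. -/
theorem exists_rep_tau {κ : Type*} [Finite κ] (w : κ → (B₀ ⊗[A₀] A) ⊗[B₀] N) :
    ∃ (i : ι) (w' : κ → (B₀ ⊗[A₀] G i) ⊗[B₀] N), ∀ k, tau B₀ N (S.g i) (w' k) = w k := by
  obtain ⟨i, w', hw'⟩ := exists_rep_family S N (fun k => eN B₀ N A (w k))
  refine ⟨i, fun k => (eN B₀ N (G i)).symm (w' k), fun k => ?_⟩
  apply (eN B₀ N A).injective
  rw [eN_tau, LinearEquiv.apply_symm_apply, hw']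

/-- Finitely many elements of `(B₀ ⊗ G i) ⊗ N` dying in `(B₀ ⊗ A) ⊗ N` die at a later stage. -/
theorem exists_reach_kill_tau (i : ι) (T : Finset ((B₀ ⊗[A₀] G i) ⊗[B₀] N))
    (hT : ∀ u ∈ T, tau B₀ N (S.g i) u = 0) :
    ∃ (j : ι) (θ : G i →ₐ[A₀] G j), Reach S i j θ ∧ ∀ u ∈ T, tau B₀ N θ u = 0 := by
  classical
  obtain ⟨j, θ, hθ, hk⟩ := exists_reach_kill_family S N i (T.image (eN B₀ N (G i)))
    (fun u hu => by
      obtain ⟨x, hx, rfl⟩ := Finset.mem_image.mp hu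
      rw [← eN_tau, hT x hx, map_zero])
  refine ⟨j, θ, hθ, fun u hu => ?_⟩
  apply (eN B₀ N (G j)).injective
  rw [eN_tau, hk _ (Finset.mem_image_of_mem _ hu), map_zero]

end

end Groth.Agent.H47.ColimKL
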