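import Mathlib
import Groth.Prelude.Def_CAlgX
import Groth.Agent.H96.GeomRegAdic
import Groth.Agent.H26.RegHomField

set_option autoImplicit false
set_option linter.unusedSectionVars false
set_option linter.style.haveILetI false
set_option linter.unusedVariables false
universe u

namespace Groth.Agent.H47.AdicSep

open IsLocalRing

/-- **S4513**: subfields of an adically formally smooth Noetherian local `k`-algebra are separable
over `k`. -/
theorem isGeometricallyReduced_of_adic {k A K : Type u} [Field k] [CommRing A]
    [IsLocalRing A] [IsNoetherianRing A] [Algebra k A]
    (h : CAlgX.IsAdicFormallySmooth k A (maximalIdeal A))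
    [Field K] [Algebra k K] [Algebra K A] [IsScalarTower k K A] :
    Algebra.IsGeometricallyReduced k K := by
  have h1 := Groth.Agent.H96.GeomRegAdic.isGeometricallyRegular k A h
  haveI := Groth.Agent.H26.RegHomField.isGeometricallyReduced_of_isGeometricallyRegular k A h1
  exact Algebra.IsGeometricallyReduced.of_injective (IsScalarTower.toAlgHom k K A)
    (algebraMap K A).injective

end Groth.Agent.H47.AdicSep
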