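import Mathlib

/-!
# Artinian local rings with `𝔪² = 0` are `B/𝔫²` for a regular local ring `B` (EGA 0_IV 19.8.?)

Core construction: `Λ` a regular ring (field or Cohen ring), `ι : Λ → A` inducing a surjection on the
residue field with kernel `(π)`, and `π = 0 ∨ ι π ≠ 0`.  Then `B := Λ[x₁..x_r]_{(π, x)}` works.
-/

set_option autoImplicit false
set_option linter.style.haveILetI false
universe u

namespace Groth.Agent.H47.ArtSqZero

open IsLocalRing

section Gens

variable {A : Type u} [CommRing A] [IsLocalRing A] [IsNoetherianRing A]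

/-- Minimal generators of `𝔪` (modulo `𝔪² = 0`) completing a given element `g₀`. -/
theorem exists_gens (h : maximalIdeal A ^ 2 = ⊥) (g₀ : A) (hg₀ : g₀ ∈ maximalIdeal A) :
    ∃ (r : ℕ) (a : Fin r → A), (∀ i, a i ∈ maximalIdeal A) ∧
      (∀ z ∈ maximalIdeal A, ∃ (c₀ : A) (c : Fin r → A), z = c₀ * g₀ + ∑ i, c i * a i) ∧
      (∀ (c₀ : A) (c : Fin r → A), c₀ * g₀ + ∑ i, c i * a i = 0 →
        (∀ i, c i ∈ maximalIdeal A) ∧ (c₀ ∈ maximalIdeal A ∨ g₀ = 0)) := by
  classical
  let k := ResidueField A
  let V := CotangentSpace A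
  let tc : maximalIdeal A →ₗ[A] V := (maximalIdeal A).toCotangent
  let v₀ : V := tc ⟨g₀, hg₀⟩
  let U : Submodule k V := Submodule.span k {v₀}
  let r := Module.finrank k (V ⧸ U)
  let b : Module.Basis (Fin r) k (V ⧸ U) := Module.finBasis k (V ⧸ U)
  have hw : ∀ i, ∃ w : maximalIdeal A, U.mkQ (tc w) = b i := by
    intro i
    obtain ⟨v, hv⟩ := U.mkQ_surjective (b i)
    obtain ⟨w, hw⟩ := (maximalIdeal A).toCotangent_surjective v
    exact ⟨w, by rw [← hv, ← hw]⟩
  choose w hw using hw
  have hsm : ∀ (c : A) (v : V), c • v = residue A c • v := by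
    intro c v
    rw [← ResidueField.algebraMap_eq, algebraMap_smul]
  -- the key computation
  have htc : ∀ (c₀ : A) (c : Fin r → A),
      tc (c₀ • ⟨g₀, hg₀⟩ + ∑ i, c i • w i) = residue A c₀ • v₀ + ∑ i, residue A (c i) • tc (w i) := by
    intro c₀ c
    rw [map_add, map_smul, map_sum, hsm]
    congr 1
  have hcoe : ∀ (c₀ : A) (c : Fin r → A),
      ((c₀ • (⟨g₀, hg₀⟩ : maximalIdeal A) + ∑ i, c i • w i : maximalIdeal A) : A)
        = c₀ * g₀ + ∑ i, c i * (w i : A) := by
    intro c₀ c
    simp
  have hv₀U : U.mkQ v₀ = 0 := by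
    rw [Submodule.mkQ_apply, Submodule.Quotient.mk_eq_zero]
    exact Submodule.mem_span_singleton_self v₀
  have hmk : ∀ (c₀ : A) (c : Fin r → A),
      U.mkQ (tc (c₀ • ⟨g₀, hg₀⟩ + ∑ i, c i • w i)) = ∑ i, residue A (c i) • b i := by
    intro c₀ c
    rw [htc, map_add, map_smul, hv₀U, smul_zero, zero_add, map_sum]
    refine Finset.sum_congr rfl fun i _ => ?_
    rw [map_smul, hw]
  have hsq : ∀ x : maximalIdeal A, tc x = 0 → x = 0 := by
    intro x hx
    have := ((maximalIdeal A).toCotangent_eq_zero x).1 hx
    rw [h] at this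
    exact Subtype.ext this
  refine ⟨r, fun i => (w i : A), fun i => (w i).2, ?_, ?_⟩
  · intro z hz
    let q := U.mkQ (tc ⟨z, hz⟩)
    have hc : ∀ i, ∃ ci : A, residue A ci = b.repr q i := fun i => residue_surjective _
    choose c hc using hc
    have hy : tc ⟨z, hz⟩ - ∑ i, residue A (c i) • tc (w i) ∈ U := by
      rw [← Submodule.Quotient.mk_eq_zero, ← Submodule.mkQ_apply, map_sub, map_sum]
      rw [sub_eq_zero]
      have : ∑ i, U.mkQ (residue A (c i) • tc (w i)) = ∑ i, b.repr q i • b i := by
        refine Finset.sum_congr rfl fun i _ => ?_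
        rw [map_smul, hw, hc]
      rw [this, b.sum_repr]
    obtain ⟨β₀, hβ₀⟩ := Submodule.mem_span_singleton.1 hy
    obtain ⟨c₀, hc₀⟩ := residue_surjective β₀
    refine ⟨c₀, c, ?_⟩
    have h0 : tc (⟨z, hz⟩ - (c₀ • ⟨g₀, hg₀⟩ + ∑ i, c i • w i)) = 0 := by
      rw [map_sub, htc, hc₀, hβ₀]
      abel
    have h1 := hsq _ h0
    have h2 := congrArg (Subtype.val) h1
    rw [Submodule.coe_sub, hcoe] at h2
    exact sub_eq_zero.1 h2
  · intro c₀ c hzero
    have hz' : (c₀ • (⟨g₀, hg₀⟩ : maximalIdeal A) + ∑ i, c i • w i : maximalIdeal A) = 0 := by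
      apply Subtype.ext
      rw [hcoe]
      exact hzero
    have h1 := hmk c₀ c
    rw [hz', map_zero, map_zero] at h1
    have hli := Fintype.linearIndependent_iff.1 b.linearIndependent _ h1.symm
    have hci : ∀ i, c i ∈ maximalIdeal A := fun i => (residue_eq_zero_iff _).1 (hli i)
    refine ⟨hci, ?_⟩
    have h2 := htc c₀ c
    rw [hz', map_zero] at h2
    have h3 : ∑ i, residue A (c i) • tc (w i) = 0 := by
      refine Finset.sum_eq_zero fun i _ => ?_
      rw [hli i, zero_smul]
    rw [h3, add_zero] at h2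
    rcases smul_eq_zero.1 h2.symm with h4 | h4
    · exact Or.inl ((residue_eq_zero_iff _).1 h4)
    · right
      have := hsq ⟨g₀, hg₀⟩ h4
      exact congrArg Subtype.val this

end Gens

section Core

variable {A : Type u} [CommRing A] [IsLocalRing A] [IsNoetherianRing A]

/-- Core construction. -/
theorem core (h : maximalIdeal A ^ 2 = ⊥)
    {Λ : Type u} [CommRing Λ] [IsRegularRing Λ] (ι : Λ →+* A) (π : Λ)
    (hsurj : Function.Surjective ((residue A).comp ι))
    (hker : RingHom.ker ((residue A).comp ι) = Ideal.span {π})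
    (hπ : π = 0 ∨ ι π ≠ 0) :
    ∃ (B : Type u) (_ : CommRing B) (_ : IsRegularLocalRing B),
      Nonempty (A ≃+* B ⧸ maximalIdeal B ^ 2) := by
  classical
  have hιπ : ι π ∈ maximalIdeal A := by
    rw [← residue_eq_zero_iff]
    have : π ∈ RingHom.ker ((residue A).comp ι) := by
      rw [hker]; exact Ideal.mem_span_singleton_self π
    exact this
  obtain ⟨r, a, ha, hgen, hind⟩ := exists_gens h (ι π) hιπ
  have hmm : ∀ x ∈ maximalIdeal A, ∀ y ∈ maximalIdeal A, x * y = 0 := by
    intro x hx y hy
    have : x * y ∈ maximalIdeal A ^ 2 := by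
      rw [pow_two]; exact Ideal.mul_mem_mul hx hy
    rwa [h] at this
  let P := MvPolynomial (Fin r) Λ
  let φ : P →+* A := MvPolynomial.eval₂Hom ι a
  have hφC : ∀ l : Λ, φ (MvPolynomial.C l) = ι l := fun l => MvPolynomial.eval₂Hom_C _ _ l
  have hφX : ∀ i, φ (MvPolynomial.X i) = a i := fun i => MvPolynomial.eval₂Hom_X' _ _ i
  -- every element of `A` is `ι l` modulo `𝔪`
  have hlift : ∀ y : A, ∃ l : Λ, y - ι l ∈ maximalIdeal A := by
    intro y
    obtain ⟨l, hl⟩ := hsurj (residue A y)
    refine ⟨l, ?_⟩
    rw [← residue_eq_zero_iff, map_sub, sub_eq_zero]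
    exact hl.symm
  have hφsurj : Function.Surjective φ := by
    have hm : ∀ z ∈ maximalIdeal A, ∃ f : P, φ f = z := by
      intro z hz
      obtain ⟨c₀, c, hzc⟩ := hgen z hz
      obtain ⟨l₀, hl₀⟩ := hlift c₀
      have hl : ∀ i, ∃ l : Λ, c i - ι l ∈ maximalIdeal A := fun i => hlift (c i)
      choose l hl using hl
      refine ⟨MvPolynomial.C (l₀ * π) + ∑ i, MvPolynomial.C (l i) * MvPolynomial.X i, ?_⟩
      rw [map_add, map_sum, hφC, hzc, map_mul]
      have e0 : c₀ * ι π = ι l₀ * ι π := by
        have := hmm _ hl₀ _ hιπ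
        rw [sub_mul, sub_eq_zero] at this
        exact this
      have e1 : ∀ i, c i * a i = ι (l i) * a i := by
        intro i
        have := hmm _ (hl i) _ (ha i)
        rw [sub_mul, sub_eq_zero] at this
        exact this
      rw [e0]
      congr 1
      refine Finset.sum_congr rfl fun i _ => ?_
      rw [map_mul, hφC, hφX, e1]
    intro y
    obtain ⟨l, hl⟩ := hlift y
    obtain ⟨f, hf⟩ := hm _ hl
    refine ⟨f + MvPolynomial.C l, ?_⟩
    rw [map_add, hf, hφC]
    ring
  let M : Ideal P := (maximalIdeal A).comap φ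
  haveI hMprime : M.IsPrime := Ideal.comap_isPrime φ (maximalIdeal A)
  let G' : Option (Fin r) → P := fun j => Option.casesOn j (MvPolynomial.C π) MvPolynomial.X
  have hG'M : ∀ j, G' j ∈ M := by
    intro j
    cases j with
    | none =>
      change φ (MvPolynomial.C π) ∈ maximalIdeal A
      rw [hφC]; exact hιπ
    | some i =>
      change φ (MvPolynomial.X i) ∈ maximalIdeal A
      rw [hφX]; exact ha i
  have hMspan : M = Ideal.span (Set.range G') := by
    apply le_antisymm
    · intro f hf
      have hg : f - MvPolynomial.C (MvPolynomial.constantCoeff f)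
          ∈ Ideal.span (MvPolynomial.X '' (Set.univ : Set (Fin r))) := by
        rw [MvPolynomial.mem_ideal_span_X_image]
        intro m hm
        have hm0 : m ≠ 0 := by
          rintro rfl
          rw [MvPolynomial.mem_support_iff] at hm
          apply hm
          rw [MvPolynomial.coeff_sub, MvPolynomial.coeff_zero_C, MvPolynomial.constantCoeff_eq,
            sub_self]
        obtain ⟨i, hi⟩ : ∃ i, m i ≠ 0 := by
          by_contra hcon
          push Not at hcon
          exact hm0 (Finsupp.ext hcon)
        exact ⟨i, Set.mem_univ i, hi⟩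
      have hXle : Ideal.span (MvPolynomial.X '' (Set.univ : Set (Fin r))) ≤
          Ideal.span (Set.range G') := by
        apply Ideal.span_mono
        rintro _ ⟨i, -, rfl⟩
        exact ⟨some i, rfl⟩
      have hgM : f - MvPolynomial.C (MvPolynomial.constantCoeff f) ∈ M := by
        have : Ideal.span (Set.range G') ≤ M := by
          rw [Ideal.span_le]
          rintro _ ⟨j, rfl⟩
          exact hG'M j
        exact this (hXle hg)
      have hcc : MvPolynomial.C (MvPolynomial.constantCoeff f) ∈ M := by
        have := M.sub_mem hf hgM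
        rwa [sub_sub_cancel] at this
      have hcc2 : MvPolynomial.constantCoeff f ∈ Ideal.span {π} := by
        rw [← hker, RingHom.mem_ker, RingHom.comp_apply, residue_eq_zero_iff, ← hφC]
        exact hcc
      obtain ⟨t, ht⟩ := Ideal.mem_span_singleton'.1 hcc2
      have hcc3 : MvPolynomial.C (MvPolynomial.constantCoeff f) ∈ Ideal.span (Set.range G') := by
        rw [← ht, map_mul]
        exact Ideal.mul_mem_left _ _ (Ideal.subset_span ⟨none, rfl⟩)
      have := Ideal.add_mem _ (hXle hg) hcc3
      rwa [sub_add_cancel] at this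
    · rw [Ideal.span_le]
      rintro _ ⟨j, rfl⟩
      exact hG'M j
  let B := Localization.AtPrime M
  have hunit : ∀ y : M.primeCompl, IsUnit (φ y) := by
    intro y
    have : φ y ∉ maximalIdeal A := y.2
    rwa [mem_maximalIdeal, mem_nonunits_iff, not_not] at this
  let φB : B →+* A := IsLocalization.lift (M := M.primeCompl) (S := B) hunit
  have hφB : ∀ f : P, φB (algebraMap P B f) = φ f := fun f => IsLocalization.lift_eq hunit f
  have hφBsurj : Function.Surjective φB := by
    intro y
    obtain ⟨f, hf⟩ := hφsurj y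
    exact ⟨algebraMap P B f, by rw [hφB, hf]⟩
  have hnB : maximalIdeal B = M.map (algebraMap P B) :=
    (Localization.AtPrime.map_eq_maximalIdeal).symm
  have hnle : maximalIdeal B ≤ (maximalIdeal A).comap φB := by
    rw [hnB, Ideal.map_le_iff_le_comap]
    intro f hf
    change φB (algebraMap P B f) ∈ maximalIdeal A
    rw [hφB]; exact hf
  have hmemn : ∀ c : B, φB c ∈ maximalIdeal A → c ∈ maximalIdeal B := by
    intro c hc
    rw [mem_maximalIdeal, mem_nonunits_iff]
    intro hu
    exact (mem_maximalIdeal _).1 hc (hu.map φB)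
  have hkerB : RingHom.ker φB = maximalIdeal B ^ 2 := by
    apply le_antisymm
    · intro b' hb
      rw [RingHom.mem_ker] at hb
      have hbn : b' ∈ maximalIdeal B := by
        apply hmemn
        rw [hb]; exact zero_mem _
      have hmapeq : M.map (algebraMap P B) = Ideal.span (Set.range (algebraMap P B ∘ G')) := by
        refine (congrArg (Ideal.map (algebraMap P B)) hMspan).trans ?_
        rw [Ideal.map_span, ← Set.range_comp]
      rw [hnB, hmapeq] at hbn
      obtain ⟨c, hc⟩ := (Ideal.mem_span_range_iff_exists_fun).1 hbn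
      have hsum : φB b' = φB (c none) * ι π + ∑ i, φB (c (some i)) * a i := by
        rw [← hc, Fintype.sum_option, map_add, map_mul, map_sum]
        congr 1
        · change _ * φB (algebraMap P B (MvPolynomial.C π)) = _
          rw [hφB, hφC]
        · refine Finset.sum_congr rfl fun i _ => ?_
          rw [map_mul]
          change _ * φB (algebraMap P B (MvPolynomial.X i)) = _
          rw [hφB, hφX]
      rw [hb] at hsum
      obtain ⟨hi1, hi2⟩ := hind _ _ hsum.symm
      rw [← hc]
      refine Ideal.sum_mem _ fun j _ => ?_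
      have hGn : (algebraMap P B ∘ G') j ∈ maximalIdeal B := by
        rw [hnB]; exact Ideal.mem_map_of_mem _ (hG'M j)
      cases j with
      | none =>
        rcases hi2 with h2 | h2
        · rw [pow_two]
          exact Ideal.mul_mem_mul (hmemn _ h2) hGn
        · have hπ0 : π = 0 := by
            rcases hπ with h3 | h3
            · exact h3
            · exact absurd h2 h3
          have : (algebraMap P B ∘ G') none = 0 := by
            change algebraMap P B (MvPolynomial.C π) = 0
            rw [hπ0, map_zero, map_zero]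
          rw [this, mul_zero]
          exact zero_mem _
      | some i =>
        rw [pow_two]
        exact Ideal.mul_mem_mul (hmemn _ (hi1 i)) hGn
    · calc maximalIdeal B ^ 2 ≤ ((maximalIdeal A).comap φB) ^ 2 := Ideal.pow_right_mono hnle 2
        _ ≤ (maximalIdeal A ^ 2).comap φB := Ideal.le_comap_pow φB 2
        _ = RingHom.ker φB := by rw [h]; rfl
  refine ⟨B, inferInstance, inferInstance, ⟨?_⟩⟩
  exact ((Ideal.quotEquivOfEq hkerB.symm).trans
    (RingHom.quotientKerEquivOfSurjective hφBsurj)).symm

end Core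

end Groth.Agent.H47.ArtSqZero
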