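import Mathlib
import Groth.Agent.H47.ArtSqZero
import Groth.Agent.H47.CoeffFieldP
import Groth.Agent.H47.CohenLift
import Groth.Agent.S0578

/-!
# S2458: an Artinian local ring with `𝔪² = 0` is `B/𝔫²` for a regular local ring `B`
-/

set_option autoImplicit false
set_option linter.style.haveILetI false
universe u

namespace Groth.Agent.H47.ArtSqZero

open IsLocalRing

/-- The case of a coefficient field. -/
theorem of_coeffField {A : Type u} [CommRing A] [IsLocalRing A] [IsNoetherianRing A]
    (h : maximalIdeal A ^ 2 = ⊥) (s : ResidueField A →+* A)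
    (hs : (residue A).comp s = RingHom.id _) :
    ∃ (B : Type u) (_ : CommRing B) (_ : IsRegularLocalRing B),
      Nonempty (A ≃+* B ⧸ maximalIdeal B ^ 2) := by
  refine core h s 0 ?_ ?_ (Or.inl rfl)
  · rw [hs]; exact Function.surjective_id
  · rw [hs]
    ext x
    simp

theorem main {A : Type u} [CommRing A] [IsLocalRing A] [IsArtinianRing A]
    (h : maximalIdeal A ^ 2 = ⊥) :
    ∃ (B : Type u) (_ : CommRing B) (_ : IsRegularLocalRing B),
      Nonempty (A ≃+* B ⧸ maximalIdeal B ^ 2) := by
  classical
  obtain ⟨p, hp⟩ := CharP.exists (ResidueField A)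
  rcases CharP.char_is_prime_or_zero (ResidueField A) p with hpp | hp0
  · haveI : Fact p.Prime := ⟨hpp⟩
    by_cases hpA : (p : A) = 0
    · haveI : CharP A p := (CharP.charP_iff_prime_eq_zero (R := A) hpp).2 hpA
      obtain ⟨s, hs⟩ := Groth.Agent.H47.exists_coeffField_charP p A
      exact of_coeffField h s hs
    · obtain ⟨W, _, _, hC, ⟨e⟩⟩ := Groth.Agent.S0578.result p (ResidueField A)
      obtain ⟨hdom, hdvr, hcompl, p', hp', hmW⟩ := id hC
      have hpp' : p' = p := by
        have h1 : residue W (p' : W) = 0 := by
          rw [residue_eq_zero_iff, hmW]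
          exact Ideal.mem_span_singleton_self _
        have h2 : ((p' : ℕ) : ResidueField A) = 0 := by
          have := congrArg e h1
          rwa [map_natCast, map_natCast, map_zero] at this
        have h3 : p ∣ p' := (CharP.cast_eq_zero_iff (ResidueField A) p p').1 h2
        exact ((Nat.prime_dvd_prime_iff_eq hpp hp').1 h3).symm
      subst hpp'
      haveI : IsLocalRing (A ⧸ maximalIdeal A) := inferInstanceAs (IsLocalRing (ResidueField A))
      let u : W →+* A ⧸ maximalIdeal A := (e : ResidueField W →+* ResidueField A).comp (residue W)
      haveI hu : IsLocalHom u := by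
        constructor
        intro x hx
        by_contra hnu
        have h1 : residue W x = 0 := (residue_eq_zero_iff x).2 ((mem_maximalIdeal x).2 hnu)
        have h2 : u x = 0 := by
          change e (residue W x) = 0
          rw [h1, map_zero]
        rw [h2] at hx
        exact not_isUnit_zero hx
      obtain ⟨v, hvloc, hv⟩ := Groth.Agent.H47.CohenLift.exists_lift_cohen (Or.inr hC)
        (maximalIdeal A) (Ideal.IsPrime.ne_top inferInstance) u
      have hres : (residue A).comp v = u := hv
      refine core h v (p' : W) ?_ ?_ (Or.inr ?_)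
      · rw [hres]
        intro y
        obtain ⟨x, hx⟩ := residue_surjective (e.symm y)
        refine ⟨x, ?_⟩
        change e (residue W x) = y
        rw [hx, e.apply_symm_apply]
      · rw [hres, ← hmW]
        ext x
        rw [RingHom.mem_ker, ← residue_eq_zero_iff]
        change e (residue W x) = 0 ↔ _
        exact map_eq_zero_iff e e.injective
      · rw [map_natCast]; exact hpA
  · subst hp0
    haveI : CharZero (ResidueField A) := CharP.charP_to_charZero _
    obtain ⟨s, hs⟩ := Groth.Agent.H20.coeffField A
    exact of_coeffField h s hs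

end Groth.Agent.H47.ArtSqZero
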