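import Mathlib.RingTheory.Finiteness.NilpotentKer
import Mathlib.RingTheory.KrullDimension.Zero
import Mathlib.RingTheory.Artinian.Ring
import Mathlib.RingTheory.HopkinsLevitzki
import Mathlib.RingTheory.FiniteType
import Mathlib.RingTheory.LocalRing.ResidueField.Basic

set_option autoImplicit false
universe u

namespace Groth.Agent.H47

/-- An Artinian local `R`-algebra whose residue field is of finite type over `R` is of finite type
over `R`. -/
theorem finiteType_of_finiteType_residueField (R A : Type*) [CommRing R] [CommRing A] [Algebra R A]
    [IsArtinianRing A] [IsLocalRing A]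
    [hκ : Algebra.FiniteType R (IsLocalRing.ResidueField A)] : Algebra.FiniteType R A := by
  classical
  obtain ⟨s, hs⟩ := (Algebra.FiniteType.out : (⊤ : Subalgebra R (IsLocalRing.ResidueField A)).FG)
  have hsurj := IsLocalRing.residue_surjective (R := A)
  choose lift hlift using hsurj
  let B : Subalgebra R A := Algebra.adjoin R (lift '' (s : Set (IsLocalRing.ResidueField A)))
  haveI : IsScalarTower B A (IsLocalRing.ResidueField A) :=
    IsScalarTower.of_algebraMap_eq (fun _ => rfl)
  -- B → κ is surjective
  have hBsurj : Function.Surjective (algebraMap B (IsLocalRing.ResidueField A)) := by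
    intro x
    have hx : x ∈ (⊤ : Subalgebra R (IsLocalRing.ResidueField A)) := trivial
    rw [← hs] at hx
    let ρ : A →ₐ[R] IsLocalRing.ResidueField A := IsScalarTower.toAlgHom R A _
    have hmap : B.map ρ = Algebra.adjoin R (s : Set (IsLocalRing.ResidueField A)) := by
      rw [AlgHom.map_adjoin]
      congr 1
      ext z
      constructor
      · rintro ⟨_, ⟨w, hw, rfl⟩, rfl⟩
        have : ρ (lift w) = w := hlift w
        rw [this]; exact hw
      · intro hz
        exact ⟨lift z, ⟨z, hz, rfl⟩, hlift z⟩
    rw [← hmap] at hx
    obtain ⟨b, hb, rfl⟩ := hx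
    exact ⟨⟨b, hb⟩, rfl⟩
  haveI : Module.Finite B (IsLocalRing.ResidueField A) :=
    Module.Finite.of_surjective (Algebra.linearMap B (IsLocalRing.ResidueField A)) hBsurj
  let f : A →ₐ[B] IsLocalRing.ResidueField A := IsScalarTower.toAlgHom B A _
  have hker : RingHom.ker f = IsLocalRing.maximalIdeal A := IsLocalRing.ker_residue (R := A)
  haveI : Module.Finite B A := by
    refine Module.finite_of_surjective_of_ker_le_nilradical f
      (IsLocalRing.residue_surjective (R := A)) ?_ ?_
    · rw [hker, Ring.KrullDimLE.nilradical_eq_maximalIdeal]
    · exact IsNoetherian.noetherian _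
  haveI : Algebra.FiniteType B A := Module.Finite.finiteType A
  haveI : Algebra.FiniteType R B := by
    rw [← Subalgebra.fg_iff_finiteType]
    have h := Subalgebra.fg_adjoin_finset (R := R) (s.image lift)
    simpa [B] using h
  exact Algebra.FiniteType.trans (inferInstance : Algebra.FiniteType R B) inferInstance

end Groth.Agent.H47
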