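import Mathlib
import Groth.Prelude.Def_EGA41
import Groth.Agent.H47.AdicLift
import Groth.Agent.H47.CohenAlg

set_option autoImplicit false
set_option linter.unusedSectionVars false
set_option linter.style.haveILetI false
set_option linter.unusedVariables false
universe u

/-!
# Uniqueness of Cohen algebras (EGA 0_IV 19.8.2 (ii))
-/

namespace Groth.Agent.H47.CohenAlgUnique

open IsLocalRing

variable {A : Type u} [CommRing A] [IsLocalRing A]

/-- A surjective `A`-algebra map `B → B'` of local rings with `B` Noetherian, `B'` flat over `A`,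
`𝔪_A B = 𝔪_B`, inducing an injection on residue fields, is injective. -/
theorem injective_of_flat {B B' : Type u} [CommRing B] [IsLocalRing B] [Algebra A B]
    [IsNoetherianRing B] [CommRing B'] [IsLocalRing B'] [Algebra A B'] [Module.Flat A B']
    (hmB : (maximalIdeal A).map (algebraMap A B) = maximalIdeal B)
    (w : B →ₐ[A] B') (hsurj : Function.Surjective w)
    (hker : RingHom.ker w.toRingHom ≤ maximalIdeal B) : Function.Injective w := by
  have h1 := LinearMap.ker_inf_smul_top_eq_smul_of_flat (maximalIdeal A) w.toLinearMap hsurj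
  have htop : (maximalIdeal A • (⊤ : Submodule A B)) = (maximalIdeal B).restrictScalars A := by
    rw [Ideal.smul_top_eq_map, hmB]
  set N : Ideal B := RingHom.ker w.toRingHom with hN
  have hsm : ∀ x ∈ maximalIdeal A • LinearMap.ker w.toLinearMap, x ∈ maximalIdeal B • N := by
    intro x hx1
    induction hx1 using Submodule.smul_induction_on' with
    | smul a ha n hn =>
      have h2 : a • n = algebraMap A B a • n := by
        rw [Algebra.smul_def, smul_eq_mul]
      rw [h2]
      apply Submodule.smul_mem_smul
      · rw [← hmB]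
        exact Ideal.mem_map_of_mem _ ha
      · exact hn
    | add y ymem z zmem hy hz => exact add_mem hy hz
  have hle : N ≤ maximalIdeal B • N := by
    intro x hx
    have hx1 : x ∈ LinearMap.ker w.toLinearMap ⊓ (maximalIdeal A • (⊤ : Submodule A B)) := by
      refine ⟨?_, ?_⟩
      · exact hx
      · rw [htop]
        exact hker hx
    rw [h1] at hx1
    exact hsm x hx1
  have hbot : N = ⊥ :=
    Submodule.eq_bot_of_le_smul_of_le_jacobson_bot (maximalIdeal B) N
      (IsNoetherian.noetherian N) hle (IsLocalRing.maximalIdeal_le_jacobson ⊥)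
  exact (RingHom.injective_iff_ker_eq_bot w.toRingHom).2 hbot

variable [IsNoetherianRing A]

/-- **EGA 0_IV 19.8.2 (ii)**: two Cohen `A`-algebras with `k`-isomorphic residue fields are
isomorphic `A`-algebras. -/
theorem nonempty_algEquiv (K : Type u) [Field K] [Algebra (ResidueField A) K]
    (B B' : Type u) [CommRing B] [IsLocalRing B] [Algebra A B] [IsLocalHom (algebraMap A B)]
    [CommRing B'] [IsLocalRing B'] [Algebra A B'] [IsLocalHom (algebraMap A B')]
    (hB : EGA41.IsCohenAlgebra A B) (hB' : EGA41.IsCohenAlgebra A B')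
    (e : Nonempty (ResidueField B ≃ₐ[ResidueField A] K))
    (e' : Nonempty (ResidueField B' ≃ₐ[ResidueField A] K)) :
    Nonempty (B ≃ₐ[A] B') := by
  obtain ⟨e⟩ := e
  obtain ⟨e'⟩ := e'
  have hfs := CohenAlg.isFormallySmoothAdic_of_isCohenAlgebra hB
  obtain ⟨_, hNB, hcB, hflatB, hmB, hsepB⟩ := hB
  obtain ⟨_, hNB', hcB', hflatB', hmB', hsepB'⟩ := hB'
  let σ : ResidueField B ≃ₐ[ResidueField A] ResidueField B' := e.trans e'.symm
  haveI : IsLocalRing (B' ⧸ maximalIdeal B') := inferInstanceAs (IsLocalRing (ResidueField B'))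
  let u₀ : B →ₐ[A] B' ⧸ maximalIdeal B' :=
    { toRingHom := (σ : ResidueField B →+* ResidueField B').comp (residue B)
      commutes' := fun a => by
        show σ (residue B (algebraMap A B a)) = residue B' (algebraMap A B' a)
        rw [← ResidueField.algebraMap_residue, ← ResidueField.algebraMap_residue, σ.commutes] }
  have hu₀ : ∀ b, u₀ b = σ (residue B b) := fun b => rfl
  have hA : (maximalIdeal A).map (algebraMap A B') ≤ maximalIdeal B' := hmB'.le
  have hub : (maximalIdeal B).map u₀.toRingHom ≤
      (maximalIdeal B').map (Ideal.Quotient.mk (maximalIdeal B')) := by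
    rw [Ideal.map_le_iff_le_comap]
    intro b hb
    rw [Ideal.mem_comap]
    show u₀ b ∈ _
    rw [hu₀, (residue_eq_zero_iff b).2 hb, map_zero]
    exact Ideal.zero_mem _
  obtain ⟨w₀, hw1, hw2⟩ := AdicLift.exists_lift hfs hA (maximalIdeal.isMaximal B').ne_top hub
  have hw3 : ∀ b, residue B' (w₀ b) = σ (residue B b) := fun b =>
    congrArg (fun φ => φ b) hw2
  have hmap : (maximalIdeal B).map w₀.toRingHom = maximalIdeal B' := by
    rw [← hmB, Ideal.map_map, ← hmB']
    congr 1
    ext a
    exact w₀.commutes a
  have hsurj : Function.Surjective w₀ := by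
    haveI : IsHausdorff ((maximalIdeal B).map w₀.toRingHom) B' := by
      rw [hmap]
      infer_instance
    apply surjective_of_mk_map_comp_surjective (I := maximalIdeal B) w₀.toRingHom
    intro y
    obtain ⟨y', rfl⟩ := Ideal.Quotient.mk_surjective y
    obtain ⟨x, hx⟩ := residue_surjective (σ.symm (residue B' y'))
    refine ⟨x, ?_⟩
    show Ideal.Quotient.mk _ (w₀ x) = Ideal.Quotient.mk _ y'
    rw [Ideal.Quotient.eq, hmap, ← residue_eq_zero_iff, map_sub, hw3 x, hx,
      AlgEquiv.apply_symm_apply, sub_self]
  have hker : RingHom.ker w₀.toRingHom ≤ maximalIdeal B := by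
    intro x hx
    have h0 : w₀ x = 0 := hx
    have h1 := hw3 x
    rw [h0, map_zero] at h1
    have h2 : residue B x = 0 := by
      have := congrArg σ.symm h1
      rw [AlgEquiv.symm_apply_apply, map_zero] at this
      exact this.symm
    exact (residue_eq_zero_iff x).1 h2
  have hinj : Function.Injective w₀ := injective_of_flat hmB w₀ hsurj hker
  exact ⟨AlgEquiv.ofBijective w₀ ⟨hinj, hsurj⟩⟩

end Groth.Agent.H47.CohenAlgUnique
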