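import Mathlib
import Groth.Prelude.Def_EGA41
import Groth.Agent.H80.ResExtIter
import Groth.Agent.H47.CohenAlgUnique

/-!
# Existence of Cohen algebras with prescribed residue field (EGA 0_IV 19.8.2 (i))

`A` Noetherian local with residue field `k`, `K/k` a separable (geometrically reduced) field
extension.  By helper80's gonflement (`H80.ResExt.main`) there is a flat Noetherian local
`A`-algebra `R'` with `𝔪_A R' = 𝔪_R'` and residue field `K`; its completion is a Cohen `A`-algebra
with residue field `K`.
-/

set_option autoImplicit false
set_option linter.style.haveILetI false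
universe u

namespace Groth.Agent.H47.CohenAlgExist

open IsLocalRing

theorem exists_cohenAlgebra {A : Type u} [CommRing A] [IsLocalRing A] [IsNoetherianRing A]
    (K : Type u) [Field K] [Algebra (ResidueField A) K]
    [Algebra.IsGeometricallyReduced (ResidueField A) K] :
    ∃ (B : Type u) (_ : CommRing B) (_ : IsLocalRing B) (_ : Algebra A B)
      (_ : IsLocalHom (algebraMap A B)),
      EGA41.IsCohenAlgebra A B ∧ Nonempty (ResidueField B ≃ₐ[ResidueField A] K) := by
  classical
  let φ₀ : A →+* K := (algebraMap (ResidueField A) K).comp (residue A)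
  haveI hφ₀ : IsLocalHom φ₀ := by
    constructor
    intro x hx
    by_contra hnu
    have h1 : residue A x = 0 := (residue_eq_zero_iff x).mpr ((mem_maximalIdeal x).mpr hnu)
    have h2 : φ₀ x = 0 := by
      change algebraMap (ResidueField A) K (residue A x) = 0
      rw [h1, map_zero]
    rw [h2] at hx
    exact not_isUnit_zero hx
  obtain ⟨R', _, f, φ', hW, ⟨hloc, hlh⟩, hcomp, hsurj, hN⟩ := Groth.Agent.H80.ResExt.main A φ₀
  haveI : IsNoetherianRing R' := hN inferInstance
  haveI hfloc : IsLocalHom f := hW.isLocalHom
  let B := AdicCompletion (maximalIdeal R') R'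
  letI algAR' : Algebra A R' := f.toAlgebra
  haveI : Module.Flat A R' := hW.flat
  haveI : Module.Flat A B := Module.Flat.trans A R' B
  haveI : IsNoetherianRing B :=
    Groth.Agent.H20.isNoetherianRing_adicCompletion_of_fg (maximalIdeal R')
      (IsNoetherian.noetherian _)
  have halg : algebraMap A B = (algebraMap R' B).comp f := IsScalarTower.algebraMap_eq A R' B
  haveI hlocAB : IsLocalHom (algebraMap A B) := by
    rw [halg]
    exact RingHom.isLocalHom_comp _ _
  have hmax : (maximalIdeal A).map (algebraMap A B) = maximalIdeal B := by
    rw [halg, ← Ideal.map_map, hW.map_maximalIdeal]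
    exact AdicCompletion.maximalIdeal_eq_map.symm
  -- residue field
  have hbij := AdicCompletion.residueField_map_bijective (R := R')
  let e1 : ResidueField R' ≃+* ResidueField B := RingEquiv.ofBijective _ hbij
  let ψ : ResidueField R' →+* K := ResidueField.lift φ'
  have hψbij : Function.Bijective ψ := by
    refine ⟨ψ.injective, fun y => ?_⟩
    obtain ⟨x, rfl⟩ := hsurj y
    exact ⟨residue R' x, ResidueField.lift_residue_apply φ' x⟩
  let e2 : ResidueField B ≃+* K := e1.symm.trans (RingEquiv.ofBijective ψ hψbij)
  have he2 : ∀ x : R', e2 (residue B (algebraMap R' B x)) = φ' x := by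
    intro x
    have h1 : e1 (residue R' x) = residue B (algebraMap R' B x) :=
      ResidueField.map_residue _ x
    change (RingEquiv.ofBijective ψ hψbij) (e1.symm (residue B (algebraMap R' B x))) = φ' x
    rw [← h1, e1.symm_apply_apply]
    exact ResidueField.lift_residue_apply φ' x
  let e : ResidueField B ≃ₐ[ResidueField A] K :=
    { e2 with
      commutes' := fun r => by
        obtain ⟨a, rfl⟩ := residue_surjective r
        have h1 : algebraMap (ResidueField A) (ResidueField B) (residue A a)
            = residue B (algebraMap A B a) := IsLocalRing.ResidueField.algebraMap_residue a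
        change e2 (algebraMap (ResidueField A) (ResidueField B) (residue A a)) = _
        rw [h1, halg, RingHom.comp_apply, he2]
        have := congrArg (fun g : A →+* K => g a) hcomp
        exact this }
  refine ⟨B, inferInstance, inferInstance, inferInstance, hlocAB, ⟨inferInstance, inferInstance,
    inferInstance, inferInstance, hmax, ?_⟩, ⟨e⟩⟩
  exact Algebra.IsGeometricallyReduced.of_injective e.toAlgHom e.injective

/-- EGA 0_IV 19.8.2: existence and uniqueness of the Cohen `A`-algebra with a prescribed
separable residue field extension. -/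
theorem main {A : Type u} [CommRing A] [IsLocalRing A] [IsNoetherianRing A]
    (K : Type u) [Field K] [Algebra (ResidueField A) K]
    [Algebra.IsGeometricallyReduced (ResidueField A) K] :
    (∃ (B : Type u) (_ : CommRing B) (_ : IsLocalRing B) (_ : Algebra A B)
      (_ : IsLocalHom (algebraMap A B)),
      EGA41.IsCohenAlgebra A B ∧ Nonempty (ResidueField B ≃ₐ[ResidueField A] K)) ∧
    ∀ (B B' : Type u) [CommRing B] [IsLocalRing B] [Algebra A B] [IsLocalHom (algebraMap A B)]
      [CommRing B'] [IsLocalRing B'] [Algebra A B'] [IsLocalHom (algebraMap A B')],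
      EGA41.IsCohenAlgebra A B → EGA41.IsCohenAlgebra A B' →
      Nonempty (ResidueField B ≃ₐ[ResidueField A] K) →
      Nonempty (ResidueField B' ≃ₐ[ResidueField A] K) →
      Nonempty (B ≃ₐ[A] B') :=
  ⟨exists_cohenAlgebra K, fun B B' _ _ _ _ _ _ _ _ hB hB' e e' =>
    Groth.Agent.H47.CohenAlgUnique.nonempty_algEquiv K B B' hB hB' e e'⟩

end Groth.Agent.H47.CohenAlgExist
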