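import Mathlib
import Groth.Prelude.Def_CAlgX
import Groth.Prelude.Def_Found
import Groth.Agent.H47.CohenQuot
import Groth.Agent.H46.PowerSeriesSmooth

set_option autoImplicit false
set_option linter.unusedSectionVars false
set_option linter.style.haveILetI false
set_option linter.unusedVariables false
universe u

/-!
# `ℤ → Λ[[x]]` is adically formally smooth for a Cohen ring `Λ` (S9323)
-/

namespace Groth.Agent.H47.CohenPS

open IsLocalRing Groth.Agent.H47.CQ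

/-- Composition of adically formally smooth maps. -/
theorem comp_adic {R₀ R S : Type u} [CommRing R₀] [CommRing R] [CommRing S]
    [Algebra R₀ R] [Algebra R S] [Algebra R₀ S] [IsScalarTower R₀ R S]
    (𝔫R : Ideal R) (𝔫S 𝔪 : Ideal S) (h1 : 𝔫R.map (algebraMap R S) ≤ 𝔪) (h2 : 𝔫S ≤ 𝔪)
    (hR : CAlgX.IsAdicFormallySmooth R₀ R 𝔫R) (hS : CAlgX.IsAdicFormallySmooth R S 𝔫S) :
    CAlgX.IsAdicFormallySmooth R₀ S 𝔪 := by
  intro E _ _ N hN ψ hψ
  obtain ⟨k, hk⟩ := hψ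
  let φ₀ : R →ₐ[R₀] E ⧸ N := ψ.comp (IsScalarTower.toAlgHom R₀ R S)
  obtain ⟨φ, hφ⟩ := hR E N hN φ₀ ⟨k, fun x hx => by
    show ψ (algebraMap R S x) = 0
    apply hk
    have : algebraMap R S x ∈ (𝔫R ^ k).map (algebraMap R S) := Ideal.mem_map_of_mem _ hx
    rw [Ideal.map_pow] at this
    exact Ideal.pow_right_mono h1 k this⟩
  have hφ' : ∀ r, Ideal.Quotient.mk N (φ r) = ψ (algebraMap R S r) :=
    fun r => AlgHom.congr_fun hφ r
  letI : Algebra R E := (φ : R →+* E).toAlgebra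
  haveI : IsScalarTower R₀ R E := IsScalarTower.of_algebraMap_eq (fun c => (φ.commutes c).symm)
  let ψ' : S →ₐ[R] E ⧸ N :=
    { (ψ : S →+* E ⧸ N) with
      commutes' := fun r => by
        show ψ (algebraMap R S r) = Ideal.Quotient.mk N (φ r)
        rw [hφ'] }
  obtain ⟨χ', hχ'⟩ := hS E N hN ψ' ⟨k, fun x hx => hk x (Ideal.pow_right_mono h2 k hx)⟩
  refine ⟨χ'.restrictScalars R₀, ?_⟩
  apply AlgHom.ext
  intro s
  exact AlgHom.congr_fun hχ' s

/-- A DVR with maximal ideal `(p)` is `p`-adically formally smooth over `ℤ` (discrete base). -/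
theorem isAdicFormallySmooth_int (Λ : Type) [CommRing Λ] [IsDomain Λ]
    [IsDiscreteValuationRing Λ] (p : ℕ) (hp : p.Prime)
    (hm : maximalIdeal Λ = Ideal.span {(p : Λ)}) :
    CAlgX.IsAdicFormallySmooth ℤ Λ (maximalIdeal Λ) := by
  intro D _ _ J' hJ' u' hk
  obtain ⟨k, hk⟩ := hk
  have hnil : IsNilpotent J' := ⟨2, hJ'⟩
  -- `p^k ∈ J'`
  have hpk : ((p ^ k : ℕ) : D) ∈ J' := by
    have h1 : u' ((p : Λ) ^ k) = 0 := by
      apply hk
      rw [hm]
      exact Ideal.pow_mem_pow (Ideal.mem_span_singleton_self _) k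
    rw [map_pow, map_natCast, ← Nat.cast_pow, ← map_natCast (Ideal.Quotient.mk J')] at h1
    exact Ideal.Quotient.eq_zero_iff_mem.1 h1
  obtain ⟨N, hN, hkN⟩ : ∃ N, 1 ≤ N ∧ 2 * k ≤ N := ⟨max (2 * k) 1, le_max_right _ _, le_max_left _ _⟩
  have hpN : ((p ^ N : ℕ) : D) = 0 := by
    have h2 : ((p ^ k : ℕ) : D) * ((p ^ k : ℕ) : D) ∈ J' ^ 2 := by
      rw [pow_two]
      exact Ideal.mul_mem_mul hpk hpk
    rw [hJ', Ideal.mem_bot, ← Nat.cast_mul, ← pow_add, ← two_mul] at h2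
    obtain ⟨d, hd⟩ : p ^ (2 * k) ∣ p ^ N := pow_dvd_pow p hkN
    rw [hd, Nat.cast_mul, h2, zero_mul]
  letI : Algebra (ZMod (p ^ N)) D := (zmodHom (p ^ N) D hpN).toAlgebra
  have h0 : ((p ^ N : ℕ) : Λ ⧸ Ideal.span {(p : Λ) ^ N}) = 0 := by
    rw [← map_natCast (Ideal.Quotient.mk _)]
    push_cast
    exact Ideal.Quotient.eq_zero_iff_mem.2 (Ideal.mem_span_singleton_self _)
  letI : Algebra (ZMod (p ^ N)) (Λ ⧸ Ideal.span {(p : Λ) ^ N}) :=
    (zmodHom (p ^ N) _ h0).toAlgebra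
  haveI : Algebra.FormallySmooth (ZMod (p ^ N)) (Λ ⧸ Ideal.span {(p : Λ) ^ N}) :=
    formallySmooth_zmod_quotient Λ p hp hm N hN
  have hu0 : ∀ a ∈ Ideal.span {(p : Λ) ^ N}, u'.toRingHom a = 0 := by
    intro a ha
    obtain ⟨c, rfl⟩ := Ideal.mem_span_singleton'.1 ha
    have : ((p : ℕ) : D ⧸ J') ^ N = 0 := by
      rw [← Nat.cast_pow, ← map_natCast (Ideal.Quotient.mk J'), hpN, map_zero]
    rw [map_mul, map_pow, map_natCast, this, mul_zero]
  let g0 : Λ ⧸ Ideal.span {(p : Λ) ^ N} →+* D ⧸ J' := Ideal.Quotient.lift _ u'.toRingHom hu0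
  let g : Λ ⧸ Ideal.span {(p : Λ) ^ N} →ₐ[ZMod (p ^ N)] D ⧸ J' :=
    { g0 with
      commutes' := fun r => by
        have := RingHom.ext_zmod (g0.comp (algebraMap _ _)) (algebraMap (ZMod (p ^ N)) (D ⧸ J'))
        exact congrArg (fun φ => φ r) this }
  let l := Algebra.FormallySmooth.lift J' hnil g
  refine ⟨{ toRingHom := l.toRingHom.comp (Ideal.Quotient.mk _)
            commutes' := fun r => by
              rw [eq_intCast (algebraMap ℤ Λ) r, eq_intCast (algebraMap ℤ D) r]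
              exact map_intCast _ r }, ?_⟩
  ext x
  show Ideal.Quotient.mk J' (l (Ideal.Quotient.mk _ x)) = u' x
  rw [Algebra.FormallySmooth.mk_lift]
  rfl

/-- **S9323**. -/
theorem isAdicFormallySmooth_mvPowerSeries (Λ : Type) [CommRing Λ] [IsLocalRing Λ]
    (hΛ : CAlg.IsCohenRing Λ) (n : ℕ) :
    CAlgX.IsAdicFormallySmooth ℤ (MvPowerSeries (Fin n) Λ)
      (IsLocalRing.maximalIdeal (MvPowerSeries (Fin n) Λ)) := by
  obtain ⟨hdom, hdvr, hcomp, p, hp, hm⟩ := hΛ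
  have h1 := isAdicFormallySmooth_int Λ p hp hm
  have h2 := Groth.Agent.H46.isAdicFormallySmooth_mvPowerSeries Λ Λ n
  refine comp_adic (maximalIdeal Λ) _ _ ?_ ?_ h1 h2
  · rw [Ideal.map_le_iff_le_comap]
    intro a ha
    rw [Ideal.mem_comap, mem_maximalIdeal, mem_nonunits_iff, MvPowerSeries.isUnit_iff_constantCoeff]
    rw [MvPowerSeries.algebraMap_apply, MvPowerSeries.constantCoeff_C]
    exact (mem_maximalIdeal _).1 ha
  · rw [Ideal.span_le]
    rintro _ ⟨i, rfl⟩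
    show MvPowerSeries.X i ∈ maximalIdeal _
    rw [mem_maximalIdeal, mem_nonunits_iff, MvPowerSeries.isUnit_iff_constantCoeff,
      MvPowerSeries.constantCoeff_X]
    exact not_isUnit_zero

end Groth.Agent.H47.CohenPS
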