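import Mathlib
import Groth.Prelude.Def_EGA41
import Groth.Agent.H80.DvrOfPrincipal
import Groth.Agent.H48.GeomNormal

/-!
# S4539: Cohen `ℤ_(p)`-algebras are exactly the Cohen rings (EGA 0_IV 19.8.5)
-/

set_option autoImplicit false
set_option linter.style.haveILetI false
set_option linter.unusedSectionVars false

namespace Groth.Agent.H47.CohenPrime

open IsLocalRing

section Prime

variable (p : ℕ) [hp : (Ideal.span {(p : ℤ)}).IsPrime]

local notation "P" => Localization.AtPrime (Ideal.span {(p : ℤ)})

theorem maximalIdeal_P : maximalIdeal P = Ideal.span {(p : P)} := by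
  rw [← Localization.AtPrime.map_eq_maximalIdeal, Ideal.map_span, Set.image_singleton,
    map_natCast]

theorem intCast_injective : Function.Injective (algebraMap ℤ P) :=
  IsLocalization.injective P (Ideal.span {(p : ℤ)}).primeCompl_le_nonZeroDivisors

theorem natCast_ne_zero (hp0 : p ≠ 0) : (p : P) ≠ 0 := by
  intro h
  have h1 : algebraMap ℤ P (p : ℤ) = algebraMap ℤ P 0 := by
    rw [map_natCast, map_zero]; exact h
  have := intCast_injective p h1
  exact hp0 (by exact_mod_cast this)

theorem prime_of_ne_zero (hp0 : p ≠ 0) : p.Prime := by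
  have h1 : Prime (p : ℤ) := by
    rw [← Ideal.span_singleton_prime (by exact_mod_cast hp0)]
    exact hp
  exact Nat.prime_iff_prime_int.2 h1

/-- The residue field of `ℤ_(p)` is perfect. -/
instance perfectField_residueField : PerfectField (ResidueField P) := by
  by_cases hp0 : p = 0
  · haveI : CharZero (ResidueField P) := by
      refine ⟨fun m n hmn => ?_⟩
      have h1 : residue P ((m : P) - (n : P)) = 0 := by
        rw [map_sub, map_natCast, map_natCast, hmn, sub_self]
      rw [residue_eq_zero_iff, maximalIdeal_P, Ideal.mem_span_singleton] at h1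
      obtain ⟨c, hc⟩ := h1
      have hp0' : (p : P) = 0 := (congrArg (Nat.cast : ℕ → P) hp0).trans Nat.cast_zero
      rw [hp0', zero_mul, sub_eq_zero] at hc
      have h2 : algebraMap ℤ P (m : ℤ) = algebraMap ℤ P (n : ℤ) := by
        rw [map_natCast, map_natCast]; exact hc
      exact_mod_cast intCast_injective p h2
    exact PerfectField.ofCharZero
  · have hpp : p.Prime := prime_of_ne_zero p hp0
    haveI : Fact p.Prime := ⟨hpp⟩
    haveI hmax : (Ideal.span {(p : ℤ)}).IsMaximal :=
      PrincipalIdealRing.isMaximal_of_irreducible
        (Nat.prime_iff_prime_int.1 hpp).irreducible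
    let e1 : ℤ ⧸ Ideal.span {(p : ℤ)} ≃+* P ⧸ maximalIdeal P :=
      IsLocalization.AtPrime.equivQuotMaximalIdeal (Ideal.span {(p : ℤ)}) P
    let e2 : ℤ ⧸ Ideal.span {(p : ℤ)} ≃+* ZMod p := Int.quotientSpanNatEquivZMod p
    haveI : Finite (ResidueField P) := Finite.of_equiv (ZMod p) (e2.symm.trans e1).toEquiv
    exact PerfectField.ofFinite

end Prime

section Main

variable (p : ℕ) [hp : (Ideal.span {(p : ℤ)}).IsPrime]
  {A : Type} [CommRing A] [IsLocalRing A]
  [Algebra (Localization.AtPrime (Ideal.span {(p : ℤ)})) A]

local notation "P" => Localization.AtPrime (Ideal.span {(p : ℤ)})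

theorem algebraMap_injective [IsDomain A] [IsLocalHom (algebraMap P A)]
    (h : (p : A) ≠ 0 ∨ p = 0) : Function.Injective (algebraMap P A) := by
  rw [injective_iff_map_eq_zero]
  intro x hx
  by_contra hx0
  have hq : (RingHom.ker (algebraMap P A)).IsPrime := RingHom.ker_isPrime _
  have hne : RingHom.ker (algebraMap P A) ≠ ⊥ := by
    intro hbot
    have : x ∈ RingHom.ker (algebraMap P A) := hx
    rw [hbot] at this
    exact hx0 this
  have hmaxq : (RingHom.ker (algebraMap P A)).IsMaximal := hq.isMaximal hne
  have hq2 : RingHom.ker (algebraMap P A) = maximalIdeal P := IsLocalRing.eq_maximalIdeal hmaxq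
  have hpmem : (p : P) ∈ RingHom.ker (algebraMap P A) := by
    rw [hq2, maximalIdeal_P]; exact Ideal.mem_span_singleton_self _
  rw [RingHom.mem_ker, map_natCast] at hpmem
  rcases h with h | h
  · exact h hpmem
  · apply hne
    rw [hq2, maximalIdeal_P]
    have : (p : P) = 0 := (congrArg (Nat.cast : ℕ → P) h).trans Nat.cast_zero
    rw [this, Ideal.span_singleton_eq_bot]

theorem flat_of_injective [IsDomain A] (hinj : Function.Injective (algebraMap P A)) :
    Module.Flat P A := by
  rw [IsDedekindDomain.flat_iff_torsion_eq_bot, eq_bot_iff]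
  rintro a ⟨⟨r, hr⟩, h⟩
  have hr0 : r ≠ 0 := nonZeroDivisors.ne_zero hr
  have h1 : algebraMap P A r * a = 0 := by
    rw [← Algebra.smul_def]; exact h
  rcases mul_eq_zero.1 h1 with h2 | h2
  · exact absurd (hinj (h2.trans (map_zero _).symm)) hr0
  · exact h2

theorem main [CharP (ResidueField A) p] [IsLocalHom (algebraMap P A)] :
    EGA41.IsCohenAlgebra P A ↔ EGA41.IsCohenRingEGA A := by
  constructor
  · rintro ⟨hNP, hNA, hcompl, hflat, hmax, hsep⟩
    have hmA : maximalIdeal A = Ideal.span {(p : A)} := by
      rw [← hmax, maximalIdeal_P, Ideal.map_span, Set.image_singleton, map_natCast]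
    by_cases hp0 : p = 0
    · left
      have hpA : (p : A) = 0 := (congrArg (Nat.cast : ℕ → A) hp0).trans Nat.cast_zero
      have hbot : maximalIdeal A = ⊥ := by
        rw [hmA, hpA, Ideal.span_singleton_eq_bot]
      refine ⟨IsLocalRing.isField_iff_maximalIdeal_eq.2 hbot, ?_⟩
      haveI : CharP (ResidueField A) 0 := hp0 ▸ (inferInstance : CharP (ResidueField A) p)
      haveI : CharZero (ResidueField A) := CharP.charP_to_charZero _
      exact RingHom.charZero (residue A)
    · right
      have hpp : p.Prime := prime_of_ne_zero p hp0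
      have hpP : (p : P) ≠ 0 := natCast_ne_zero p hp0
      have hreg : (p : A) ∈ nonZeroDivisors A := by
        have h1 : IsSMulRegular P (p : P) := by
          intro a b hab
          exact mul_left_cancel₀ hpP hab
        have h2 : IsSMulRegular A (algebraMap P A (p : P)) := IsSMulRegular.of_flat h1
        rw [map_natCast] at h2
        rw [mem_nonZeroDivisors_iff_right]
        intro z hz
        apply h2
        simp only [smul_eq_mul, mul_zero]
        rw [mul_comm]
        exact hz
      haveI hdom : IsDomain A := Groth.Agent.H80.DvrOfPrincipal.isDomain (p : A) hmA hreg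
      have hdvr : IsDiscreteValuationRing A :=
        Groth.Agent.H80.DvrOfPrincipal.isDiscreteValuationRing (p : A) hmA hreg hdom
      exact ⟨hdom, hdvr, hcompl, p, hpp, hmA⟩
  · rintro (⟨hF, hchar⟩ | ⟨hdom, hdvr, hcompl, p', hp', hmA'⟩)
    · have hbot : maximalIdeal A = ⊥ := IsLocalRing.isField_iff_maximalIdeal_eq.1 hF
      have hinj : Function.Injective (residue A) := by
        rw [injective_iff_map_eq_zero]
        intro x hx
        rw [residue_eq_zero_iff, hbot] at hx
        exact hx
      haveI : CharZero (ResidueField A) := charZero_of_injective_ringHom hinj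
      have hp0 : p = 0 := CharP.eq (ResidueField A) inferInstance (CharP.ofCharZero _)
      have hpP : (p : P) = 0 := (congrArg (Nat.cast : ℕ → P) hp0).trans Nat.cast_zero
      letI := hF.toField
      haveI : IsDomain A := inferInstance
      have hinjP : Function.Injective (algebraMap P A) := algebraMap_injective p (Or.inr hp0)
      refine ⟨inferInstance, inferInstance, ?_, flat_of_injective p hinjP, ?_,
        Groth.Agent.H48.GeomNormal.isGeometricallyReduced_of_perfectField _ _⟩
      · rw [hbot]; infer_instance
      · rw [hbot, maximalIdeal_P, hpP, Ideal.map_span, Set.image_singleton, map_zero,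
          Ideal.span_singleton_eq_bot]
    · have hpp' : p' = p := by
        have h1 : residue A (p' : A) = 0 := by
          rw [residue_eq_zero_iff, hmA']
          exact Ideal.mem_span_singleton_self _
        rw [map_natCast] at h1
        have h3 : p ∣ p' := (CharP.cast_eq_zero_iff (ResidueField A) p p').1 h1
        rcases (Nat.dvd_prime hp').1 h3 with h4 | h4
        · exact absurd h4 (CharP.char_ne_one (ResidueField A) p)
        · exact h4.symm
      have hmA : maximalIdeal A = Ideal.span {(p : A)} := by rw [hmA', hpp']
      have hpA : (p : A) ≠ 0 := by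
        intro h0
        apply IsDiscreteValuationRing.not_a_field A
        rw [hmA, h0, Ideal.span_singleton_eq_bot]
      have hinjP : Function.Injective (algebraMap P A) := algebraMap_injective p (Or.inl hpA)
      refine ⟨inferInstance, inferInstance, hcompl, flat_of_injective p hinjP, ?_,
        Groth.Agent.H48.GeomNormal.isGeometricallyReduced_of_perfectField _ _⟩
      rw [maximalIdeal_P, Ideal.map_span, Set.image_singleton, map_natCast, hmA]

end Main

end Groth.Agent.H47.CohenPrime
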