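import Mathlib
import Groth.Prelude.Def_EGA41
import Groth.Agent.H47.CohenLift

set_option autoImplicit false
set_option linter.unusedSectionVars false
set_option linter.style.haveILetI false
set_option linter.unusedVariables false
universe u

/-!
# Uniqueness of Cohen rings (EGA 0_IV 19.8.6 (ii))
-/

namespace Groth.Agent.H47.CohenUnique

open IsLocalRing Groth.Agent.H47.CQ Groth.Agent.H47.CohenLift

/-- In a local ring which is a field of characteristic zero, nonzero naturals are nonzero in the
residue field. -/
theorem natCast_residue_ne_zero {R : Type u} [CommRing R] [IsLocalRing R] (hf : IsField R)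
    [CharZero R] (n : ℕ) (hn : n ≠ 0) : (n : ResidueField R) ≠ 0 := by
  intro h
  rw [← map_natCast (residue R), residue_eq_zero_iff] at h
  letI := hf.toField
  have h1 : (n : R) ≠ 0 := Nat.cast_ne_zero.2 hn
  exact (mem_maximalIdeal _).1 h (isUnit_iff_ne_zero.2 h1)

theorem natCast_residue_eq_zero {R : Type u} [CommRing R] [IsLocalRing R] (p : ℕ)
    (hm : maximalIdeal R = Ideal.span {(p : R)}) : (p : ResidueField R) = 0 := by
  rw [← map_natCast (residue R), residue_eq_zero_iff, hm]
  exact Ideal.mem_span_singleton_self _

theorem residue_bijective_of_isField {R : Type u} [CommRing R] [IsLocalRing R] (hf : IsField R) :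
    Function.Bijective (residue R) := by
  letI := hf.toField
  exact ⟨(residue R).injective, residue_surjective⟩

/-- **EGA 0_IV 19.8.6 (ii)** (S2457): Cohen rings with isomorphic residue fields are isomorphic. -/
theorem exists_ringEquiv {W W' : Type u} [CommRing W] [IsLocalRing W] [CommRing W']
    [IsLocalRing W']
    (hW : EGA41.IsCohenRingEGA W) (hW' : EGA41.IsCohenRingEGA W')
    (u : ResidueField W ≃+* ResidueField W') :
    ∃ v : W ≃+* W', ∀ x : W, residue W' (v x) = u (residue W x) := by
  rcases hW with ⟨hfield, hchar⟩ | ⟨hdom, hdvr, hcomp, p, hp, hm⟩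
  · rcases hW' with ⟨hfield', hchar'⟩ | ⟨hdom', hdvr', hcomp', p', hp', hm'⟩
    · let e := RingEquiv.ofBijective (residue W) (residue_bijective_of_isField hfield)
      let e' := RingEquiv.ofBijective (residue W') (residue_bijective_of_isField hfield')
      refine ⟨(e.trans u).trans e'.symm, fun x => ?_⟩
      show e' (e'.symm (u (e x))) = u (residue W x)
      rw [RingEquiv.apply_symm_apply]
      rfl
    · exfalso
      have h1 := natCast_residue_eq_zero p' hm'
      have h2 : u.symm (p' : ResidueField W') = 0 := by rw [h1, map_zero]
      rw [map_natCast] at h2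
      exact natCast_residue_ne_zero hfield p' hp'.ne_zero h2
  · rcases hW' with ⟨hfield', hchar'⟩ | ⟨hdom', hdvr', hcomp', p', hp', hm'⟩
    · exfalso
      have h1 := natCast_residue_eq_zero p hm
      have h2 : u (p : ResidueField W) = 0 := by rw [h1, map_zero]
      rw [map_natCast] at h2
      exact natCast_residue_ne_zero hfield' p hp.ne_zero h2
    · -- both DVRs
      haveI : CharZero W' :=
        charZero_of_maximalIdeal_eq W' p' hm' (IsDiscreteValuationRing.not_a_field W')
      haveI : CharZero W :=
        charZero_of_maximalIdeal_eq W p hm (IsDiscreteValuationRing.not_a_field W)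
      have hpp' : p = p' := by
        by_contra hne
        have hcop : Nat.Coprime p p' := (Nat.coprime_primes hp hp').2 hne
        have h1 : IsCoprime (p : ℤ) (p' : ℤ) := Nat.isCoprime_iff_coprime.2 hcop
        have h2 := h1.map (Int.castRingHom W')
        simp only [eq_intCast, Int.cast_natCast] at h2
        obtain ⟨a, b, hab⟩ := h2
        have hp'm : (p' : W') ∈ maximalIdeal W' := by
          rw [hm']; exact Ideal.mem_span_singleton_self _
        have hpm : (p : W') ∈ maximalIdeal W' := by
          rw [← residue_eq_zero_iff, map_natCast]
          have h1 := natCast_residue_eq_zero p hm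
          have h2 : u (p : ResidueField W) = 0 := by rw [h1, map_zero]
          rwa [map_natCast] at h2
        have : (1 : W') ∈ maximalIdeal W' := by
          rw [← hab]
          exact Ideal.add_mem _ (Ideal.mul_mem_left _ _ hpm) (Ideal.mul_mem_left _ _ hp'm)
        exact (Ideal.ne_top_iff_one _).1 (maximalIdeal.isMaximal W').ne_top this
      subst hpp'
      haveI : IsLocalRing (W' ⧸ maximalIdeal W') := inferInstanceAs (IsLocalRing (ResidueField W'))
      let u₁ : W →+* W' ⧸ maximalIdeal W' := (u : ResidueField W →+* ResidueField W').comp (residue W)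
      haveI : IsLocalHom u₁ := by
        constructor
        intro x hx
        have h1 : IsUnit (residue W x) := by
          have := hx.map (u.symm : ResidueField W' →+* ResidueField W)
          have h2 : (u.symm : ResidueField W' →+* ResidueField W) (u₁ x) = residue W x :=
            u.symm_apply_apply _
          exact h2 ▸ this
        exact isUnit_of_map_unit (residue W) x h1
      obtain ⟨v, hvloc, hv⟩ := exists_lift_cohen (W := W) (C := W')
        (Or.inr ⟨hdom, hdvr, hcomp, p, hp, hm⟩) (maximalIdeal W')
        (maximalIdeal.isMaximal W').ne_top u₁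
      have hv' : ∀ x, residue W' (v x) = u (residue W x) := fun x =>
        congrArg (fun φ => φ x) hv
      have hvp : v (p : W) = (p : W') := map_natCast v p
      have hinj : Function.Injective v := by
        rw [injective_iff_map_eq_zero]
        intro x hx
        by_contra hx0
        obtain ⟨n, w, hw⟩ := IsDiscreteValuationRing.eq_unit_mul_pow_irreducible hx0
          (IsDiscreteValuationRing.irreducible_of_span_eq_maximalIdeal (p : W)
            (Nat.cast_ne_zero.2 hp.ne_zero) hm)
        rw [hw, map_mul, map_pow, hvp] at hx
        have hwu : IsUnit (v (w : W)) := w.isUnit.map v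
        have h1 : ((p : W') ^ n) = 0 := (hwu.mul_right_eq_zero).1 hx
        have h2 : (p : W') = 0 := eq_zero_of_pow_eq_zero h1
        exact hp.ne_zero (Nat.cast_eq_zero.1 h2)
      have hsurj : Function.Surjective v := by
        haveI : IsHausdorff ((maximalIdeal W).map v) W' := by
          have : (maximalIdeal W).map v = maximalIdeal W' := by
            rw [hm, Ideal.map_span, Set.image_singleton, hvp, hm']
          rw [this]
          infer_instance
        apply surjective_of_mk_map_comp_surjective (I := maximalIdeal W) v
        have : (maximalIdeal W).map v = maximalIdeal W' := by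
          rw [hm, Ideal.map_span, Set.image_singleton, hvp, hm']
        intro y
        obtain ⟨y', rfl⟩ := Ideal.Quotient.mk_surjective y
        obtain ⟨x, hx⟩ := residue_surjective (u.symm (residue W' y'))
        refine ⟨x, ?_⟩
        show Ideal.Quotient.mk _ (v x) = Ideal.Quotient.mk _ y'
        rw [Ideal.Quotient.eq, this, ← residue_eq_zero_iff, map_sub, hv' x, hx,
          RingEquiv.apply_symm_apply, sub_self]
      exact ⟨RingEquiv.ofBijective v ⟨hinj, hsurj⟩, hv'⟩

end Groth.Agent.H47.CohenUnique
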