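import Mathlib
import Groth.Agent.H47.ColimBC

/-!
# Descent of properties of `B₀ → C₀` through weakly presented directed colimits
-/

set_option autoImplicit false
universe u

namespace Groth.Agent.H47.ColimKL

open TensorProduct

section Gens

variable {B₀ : Type u} [CommRing B₀] {C₀ : Type u} [CommRing C₀] [Algebra B₀ C₀]
  (R : Type u) [CommRing R] [Algebra B₀ R]

/-- If the images `1 ⊗ c` of a generating set of `C₀` lie in the image of `R`, then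
`R → R ⊗ C₀` is surjective. -/
lemma surjective_algebraMap_of_gens (s : Set C₀) (hs : Algebra.adjoin B₀ s = ⊤)
    (h : ∀ c ∈ s, ∃ r : R, r ⊗ₜ[B₀] (1 : C₀) = (1 : R) ⊗ₜ[B₀] c) :
    Function.Surjective (algebraMap R (R ⊗[B₀] C₀)) := by
  let W : Subalgebra B₀ (R ⊗[B₀] C₀) := (Algebra.ofId R (R ⊗[B₀] C₀)).range.restrictScalars B₀
  have hW : ∀ x, x ∈ W ↔ ∃ r : R, r ⊗ₜ[B₀] (1 : C₀) = x := fun x => Iff.rfl
  let V : Subalgebra B₀ C₀ := W.comap (Algebra.TensorProduct.includeRight : C₀ →ₐ[B₀] R ⊗[B₀] C₀)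
  have hV : V = ⊤ := by
    rw [eq_top_iff, ← hs]
    exact Algebra.adjoin_le (fun c hc => (hW _).mpr (h c hc))
  have h1 : ∀ c : C₀, (1 : R) ⊗ₜ[B₀] c ∈ W := fun c => by
    have : c ∈ V := hV ▸ Algebra.mem_top
    exact this
  intro x
  suffices x ∈ W from (hW x).mp this
  induction x using TensorProduct.induction_on with
  | zero => exact W.zero_mem
  | tmul r c =>
    have : r ⊗ₜ[B₀] c = (r ⊗ₜ[B₀] (1 : C₀)) * ((1 : R) ⊗ₜ[B₀] c) := by
      rw [Algebra.TensorProduct.tmul_mul_tmul, mul_one, one_mul]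
    rw [this]
    exact W.mul_mem ((hW _).mpr ⟨r, rfl⟩) (h1 c)
  | add x y hx hy => exact W.add_mem hx hy

end Gens

section

variable {ι : Type u} [Preorder ι] [IsDirected ι (· ≤ ·)] [Nonempty ι]
  {A₀ : Type u} [CommRing A₀] {G : ι → Type u} [∀ i, CommRing (G i)] [∀ i, Algebra A₀ (G i)]
  {A : Type u} [CommRing A] [Algebra A₀ A] (S : Sys A₀ G A)
  (B₀ : Type u) [CommRing B₀] [Algebra A₀ B₀] (C₀ : Type u) [CommRing C₀] [Algebra A₀ C₀]
  [Algebra B₀ C₀] [IsScalarTower A₀ B₀ C₀]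

include S in
/-- Surjectivity of the base change descends to a finite stage. -/
theorem surjective_descends [Algebra.FiniteType B₀ C₀]
    (h : Function.Surjective (algebraMap (B₀ ⊗[A₀] A) ((B₀ ⊗[A₀] A) ⊗[B₀] C₀))) :
    ∃ i, Function.Surjective (algebraMap (B₀ ⊗[A₀] G i) ((B₀ ⊗[A₀] G i) ⊗[B₀] C₀)) := by
  classical
  obtain ⟨s, hs⟩ := (Algebra.FiniteType.out : (⊤ : Subalgebra B₀ C₀).FG)
  have hA : ∀ c : s, ∃ r : B₀ ⊗[A₀] A, r ⊗ₜ[B₀] (1 : C₀) = (1 : B₀ ⊗[A₀] A) ⊗ₜ[B₀] (c : C₀) :=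
    fun c => h _
  choose rA hrA using hA
  obtain ⟨i, r, hr⟩ := exists_rep_rho S B₀ rA
  let T : Finset ((B₀ ⊗[A₀] G i) ⊗[B₀] C₀) :=
    Finset.univ.image (fun c : s => (1 : B₀ ⊗[A₀] G i) ⊗ₜ[B₀] (c : C₀) - r c ⊗ₜ[B₀] (1 : C₀))
  obtain ⟨j, θ, hθ, hk⟩ := exists_reach_kill_tau S B₀ C₀ i T (by
    intro u hu
    obtain ⟨c, _, rfl⟩ := Finset.mem_image.mp hu
    rw [map_sub, tau_tmul, tau_tmul, map_one, hr, hrA, sub_self])
  refine ⟨j, surjective_algebraMap_of_gens (B₀ ⊗[A₀] G j) (s : Set C₀) hs (fun c hc => ?_)⟩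
  refine ⟨rho B₀ θ (r ⟨c, hc⟩), ?_⟩
  have := hk _ (Finset.mem_image_of_mem _ (Finset.mem_univ (⟨c, hc⟩ : s)))
  rw [map_sub, tau_tmul, tau_tmul, map_one, sub_eq_zero] at this
  exact this.symm

end

end Groth.Agent.H47.ColimKL
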