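import Mathlib
import Groth.Agent.H47.ColimBC

/-!
# Weak directed colimits: the ring-valued functors `G ↦ (B₀ ⊗ G) ⊗_{B₀} N` for a `B₀`-algebra `N`
-/

set_option autoImplicit false
set_option linter.unusedSectionVars false
set_option linter.style.haveILetI false
set_option linter.unusedVariables false
universe u v

namespace Groth.Agent.H47.ColimKL

open TensorProduct

section

variable {A₀ : Type u} [CommRing A₀] (B₀ : Type u) [CommRing B₀] [Algebra A₀ B₀]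
variable (N : Type v) [CommRing N] [Algebra B₀ N] [Algebra A₀ N] [IsScalarTower A₀ B₀ N]

/-- The ring map `(B₀ ⊗ G) ⊗_{B₀} N → (B₀ ⊗ G') ⊗_{B₀} N` induced by `θ : G → G'`. -/
noncomputable abbrev sigma {G G' : Type u} [CommRing G] [Algebra A₀ G] [CommRing G'] [Algebra A₀ G']
    (θ : G →ₐ[A₀] G') : (B₀ ⊗[A₀] G) ⊗[B₀] N →ₐ[B₀] (B₀ ⊗[A₀] G') ⊗[B₀] N :=
  Algebra.TensorProduct.map (rho B₀ θ) (AlgHom.id B₀ N)

lemma sigma_tmul {G G' : Type u} [CommRing G] [Algebra A₀ G] [CommRing G'] [Algebra A₀ G']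
    (θ : G →ₐ[A₀] G') (r : B₀ ⊗[A₀] G) (n : N) : sigma B₀ N θ (r ⊗ₜ n) = rho B₀ θ r ⊗ₜ n := rfl

lemma sigma_apply {G G' : Type u} [CommRing G] [Algebra A₀ G] [CommRing G'] [Algebra A₀ G']
    (θ : G →ₐ[A₀] G') (x : (B₀ ⊗[A₀] G) ⊗[B₀] N) : sigma B₀ N θ x = tau B₀ N θ x := by
  induction x using TensorProduct.induction_on with
  | zero => simp
  | tmul r n => rfl
  | add x y hx hy => rw [map_add, map_add, hx, hy]

/-- compatibility of `sigma` with the algebra maps. -/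
lemma sigma_algebraMap {G G' : Type u} [CommRing G] [Algebra A₀ G] [CommRing G'] [Algebra A₀ G']
    (θ : G →ₐ[A₀] G') :
    (algebraMap (B₀ ⊗[A₀] G') ((B₀ ⊗[A₀] G') ⊗[B₀] N)).comp (rho B₀ θ).toRingHom =
      (sigma B₀ N θ).toRingHom.comp (algebraMap (B₀ ⊗[A₀] G) ((B₀ ⊗[A₀] G) ⊗[B₀] N)) :=
  RingHom.ext fun _ => rfl

variable {N} in
/-- The map `R ⊗ N → R ⊗ N'` induced by `φ : N → N'`. -/
noncomputable abbrev mapN (R : Type u) [CommRing R] [Algebra B₀ R] {N' : Type v} [CommRing N']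
    [Algebra B₀ N'] (φ : N →ₐ[B₀] N') : R ⊗[B₀] N →ₐ[R] R ⊗[B₀] N' :=
  Algebra.TensorProduct.map (AlgHom.id R R) φ

variable {N} in
lemma mapN_sigma {G G' : Type u} [CommRing G] [Algebra A₀ G] [CommRing G'] [Algebra A₀ G']
    (θ : G →ₐ[A₀] G') {N' : Type v} [CommRing N'] [Algebra B₀ N'] [Algebra A₀ N']
    [IsScalarTower A₀ B₀ N'] (φ : N →ₐ[B₀] N') (x : (B₀ ⊗[A₀] G) ⊗[B₀] N) :
    mapN B₀ (B₀ ⊗[A₀] G') φ (sigma B₀ N θ x) = sigma B₀ N' θ (mapN B₀ (B₀ ⊗[A₀] G) φ x) := by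
  induction x using TensorProduct.induction_on with
  | zero => simp
  | tmul r n => rfl
  | add x y hx hy => rw [map_add, map_add, map_add, map_add, hx, hy]

/-- Base change along `rho θ` of the stage-`G` algebra is the stage-`G'` algebra. -/
lemma exists_bcEquiv {G G' : Type u} [CommRing G] [Algebra A₀ G] [CommRing G'] [Algebra A₀ G']
    (θ : G →ₐ[A₀] G') :
    letI : Algebra (B₀ ⊗[A₀] G) (B₀ ⊗[A₀] G') := (rho B₀ θ).toRingHom.toAlgebra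
    Nonempty ((B₀ ⊗[A₀] G') ⊗[B₀ ⊗[A₀] G] ((B₀ ⊗[A₀] G) ⊗[B₀] N) ≃ₐ[B₀ ⊗[A₀] G']
      (B₀ ⊗[A₀] G') ⊗[B₀] N) := by
  letI : Algebra (B₀ ⊗[A₀] G) (B₀ ⊗[A₀] G') := (rho B₀ θ).toRingHom.toAlgebra
  haveI : IsScalarTower B₀ (B₀ ⊗[A₀] G) (B₀ ⊗[A₀] G') :=
    IsScalarTower.of_algebraMap_eq (fun b => ((rho B₀ θ).commutes b).symm)
  exact ⟨Algebra.TensorProduct.cancelBaseChange B₀ (B₀ ⊗[A₀] G) (B₀ ⊗[A₀] G') (B₀ ⊗[A₀] G') N⟩

end

section Gens

variable {B₀ : Type u} [CommRing B₀] {C₀ : Type u} [CommRing C₀] [Algebra B₀ C₀]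
  (R : Type u) [CommRing R] [Algebra B₀ R]

/-- An `R`-subalgebra of `R ⊗ C₀` containing `1 ⊗ c` for `c` in a generating set is everything. -/
lemma subalgebra_eq_top_of_gens (s : Set C₀) (hs : Algebra.adjoin B₀ s = ⊤)
    (W : Subalgebra R (R ⊗[B₀] C₀)) (h : ∀ c ∈ s, (1 : R) ⊗ₜ[B₀] c ∈ W) : W = ⊤ := by
  let V : Subalgebra B₀ C₀ :=
    (W.restrictScalars B₀).comap (Algebra.TensorProduct.includeRight : C₀ →ₐ[B₀] R ⊗[B₀] C₀)
  have hV : V = ⊤ := by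
    rw [eq_top_iff, ← hs]
    exact Algebra.adjoin_le (fun c hc => h c hc)
  have h1 : ∀ c : C₀, (1 : R) ⊗ₜ[B₀] c ∈ W := fun c => by
    have : c ∈ V := hV ▸ Algebra.mem_top
    exact this
  rw [eq_top_iff]
  intro x hx
  clear hx
  induction x using TensorProduct.induction_on with
  | zero => exact W.zero_mem
  | tmul r c =>
    have : r ⊗ₜ[B₀] c = r • ((1 : R) ⊗ₜ[B₀] c) := by
      rw [TensorProduct.smul_tmul', smul_eq_mul, mul_one]
    rw [this]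
    exact W.smul_mem (h1 c) r
  | add x y hx hy => exact W.add_mem hx hy

/-- The elements `1 ⊗ c`, `c ∈ s`, generate `R ⊗ C₀` as an `R`-algebra. -/
lemma adjoin_one_tmul_eq_top (s : Set C₀) (hs : Algebra.adjoin B₀ s = ⊤) :
    Algebra.adjoin R ((fun c : C₀ => (1 : R) ⊗ₜ[B₀] c) '' s) = ⊤ :=
  subalgebra_eq_top_of_gens R s hs _
    (fun c hc => Algebra.subset_adjoin (Set.mem_image_of_mem _ hc))

end Gens

section

variable {ι : Type u} [Preorder ι]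
  {A₀ : Type u} [CommRing A₀] {G : ι → Type u} [∀ i, CommRing (G i)] [∀ i, Algebra A₀ (G i)]
  {A : Type u} [CommRing A] [Algebra A₀ A] (S : Sys A₀ G A)
  (B₀ : Type u) [CommRing B₀] [Algebra A₀ B₀]
  (N : Type v) [CommRing N] [Algebra B₀ N] [Algebra A₀ N] [IsScalarTower A₀ B₀ N]

lemma sigma_reach {i j : ι} {θ : G i →ₐ[A₀] G j} (h : Reach S i j θ)
    (x : (B₀ ⊗[A₀] G i) ⊗[B₀] N) :
    sigma B₀ N (S.g j) (sigma B₀ N θ x) = sigma B₀ N (S.g i) x := by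
  rw [sigma_apply, sigma_apply, sigma_apply, tau_reach S B₀ N h]

variable [IsDirected ι (· ≤ ·)] [Nonempty ι]

/-- Finitely many elements of `(B₀ ⊗ A) ⊗ N` come from a common stage. -/
theorem exists_rep_sigma {κ : Type*} [Finite κ] (w : κ → (B₀ ⊗[A₀] A) ⊗[B₀] N) :
    ∃ (i : ι) (w' : κ → (B₀ ⊗[A₀] G i) ⊗[B₀] N), ∀ k, sigma B₀ N (S.g i) (w' k) = w k := by
  obtain ⟨i, w', hw'⟩ := exists_rep_tau S B₀ N w
  exact ⟨i, w', fun k => by rw [sigma_apply, hw']⟩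

/-- Finitely many elements of `(B₀ ⊗ G i) ⊗ N` dying in `(B₀ ⊗ A) ⊗ N` die at a later stage. -/
theorem exists_reach_kill_sigma (i : ι) (T : Finset ((B₀ ⊗[A₀] G i) ⊗[B₀] N))
    (hT : ∀ u ∈ T, sigma B₀ N (S.g i) u = 0) :
    ∃ (j : ι) (θ : G i →ₐ[A₀] G j), Reach S i j θ ∧ ∀ u ∈ T, sigma B₀ N θ u = 0 := by
  obtain ⟨j, θ, hθ, hk⟩ := exists_reach_kill_tau S B₀ N i T
    (fun u hu => by rw [← sigma_apply]; exact hT u hu)
  exact ⟨j, θ, hθ, fun u hu => by rw [sigma_apply]; exact hk u hu⟩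

end

end Groth.Agent.H47.ColimKL
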