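import Mathlib
import Groth.Agent.H47.ColimRing
import Groth.Agent.H47.ColimApps

/-!
# Descent of finiteness, bijectivity and unramifiedness through weakly presented directed colimits
-/

set_option autoImplicit false
set_option linter.unusedSectionVars false
set_option linter.style.haveILetI false
set_option linter.unusedVariables false
universe u

namespace Groth.Agent.H47.ColimKL

open TensorProduct

section Transport

variable {A₀ : Type u} [CommRing A₀] (B₀ : Type u) [CommRing B₀] [Algebra A₀ B₀]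
  (C₀ : Type u) [CommRing C₀] [Algebra A₀ C₀] [Algebra B₀ C₀] [IsScalarTower A₀ B₀ C₀]
  {G G' : Type u} [CommRing G] [Algebra A₀ G] [CommRing G'] [Algebra A₀ G']

/-- Surjectivity of `R_G → R_G ⊗ C₀` passes to `G'` along any `θ : G → G'`. -/
lemma surjective_transport (θ : G →ₐ[A₀] G')
    (h : Function.Surjective (algebraMap (B₀ ⊗[A₀] G) ((B₀ ⊗[A₀] G) ⊗[B₀] C₀))) :
    Function.Surjective (algebraMap (B₀ ⊗[A₀] G') ((B₀ ⊗[A₀] G') ⊗[B₀] C₀)) := by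
  intro x
  induction x using TensorProduct.induction_on with
  | zero => exact ⟨0, map_zero _⟩
  | tmul r' c =>
    obtain ⟨r, hr⟩ := h ((1 : B₀ ⊗[A₀] G) ⊗ₜ[B₀] c)
    refine ⟨r' * rho B₀ θ r, ?_⟩
    have h1 : sigma B₀ C₀ θ (algebraMap (B₀ ⊗[A₀] G) ((B₀ ⊗[A₀] G) ⊗[B₀] C₀) r) =
        (1 : B₀ ⊗[A₀] G') ⊗ₜ[B₀] c := by
      rw [hr, sigma_tmul, map_one]
    have h2 : sigma B₀ C₀ θ (algebraMap (B₀ ⊗[A₀] G) ((B₀ ⊗[A₀] G) ⊗[B₀] C₀) r) =
        algebraMap (B₀ ⊗[A₀] G') ((B₀ ⊗[A₀] G') ⊗[B₀] C₀) (rho B₀ θ r) := rfl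
    rw [map_mul, ← h2, h1, Algebra.TensorProduct.algebraMap_apply,
      Algebra.TensorProduct.tmul_mul_tmul, mul_one, one_mul]
    rfl
  | add x y hx hy =>
    obtain ⟨a, rfl⟩ := hx
    obtain ⟨b, rfl⟩ := hy
    exact ⟨a + b, map_add _ _ _⟩

/-- A `B₀`-algebra map `C₀ → R` gives injectivity of `R → R ⊗ C₀`. -/
lemma injective_of_algHom (R : Type u) [CommRing R] [Algebra B₀ R] (ψ : C₀ →ₐ[B₀] R) :
    Function.Injective (algebraMap R (R ⊗[B₀] C₀)) := by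
  let retr : R ⊗[B₀] C₀ →ₐ[R] R :=
    Algebra.TensorProduct.lift (AlgHom.id R R) ψ (fun _ _ => Commute.all _ _)
  have : Function.LeftInverse retr (algebraMap R (R ⊗[B₀] C₀)) := fun r => by
    rw [AlgHom.commutes]
    rfl
  exact this.injective

end Transport

section

variable {ι : Type u} [Preorder ι] [IsDirected ι (· ≤ ·)] [Nonempty ι]
  {A₀ : Type u} [CommRing A₀] {G : ι → Type u} [∀ i, CommRing (G i)] [∀ i, Algebra A₀ (G i)]
  {A : Type u} [CommRing A] [Algebra A₀ A] (S : Sys A₀ G A)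
  (B₀ : Type u) [CommRing B₀] [Algebra A₀ B₀] (C₀ : Type u) [CommRing C₀] [Algebra A₀ C₀]
  [Algebra B₀ C₀] [IsScalarTower A₀ B₀ C₀]

include S in
/-- Finiteness of the base change descends to a finite stage. -/
theorem finite_descends [Algebra.FiniteType B₀ C₀]
    (h : Module.Finite (B₀ ⊗[A₀] A) ((B₀ ⊗[A₀] A) ⊗[B₀] C₀)) :
    ∃ i, Module.Finite (B₀ ⊗[A₀] G i) ((B₀ ⊗[A₀] G i) ⊗[B₀] C₀) := by
  classical
  obtain ⟨s, hs⟩ := (Algebra.FiniteType.out : (⊤ : Subalgebra B₀ C₀).FG)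
  have hint : ∀ c : s, IsIntegral (B₀ ⊗[A₀] A) ((1 : B₀ ⊗[A₀] A) ⊗ₜ[B₀] (c : C₀)) :=
    fun c => Algebra.IsIntegral.isIntegral _
  choose p hpm hp using hint
  obtain ⟨i, w', hw'⟩ := exists_rep_rho S B₀
    (fun k : (Σ c : s, Fin ((p c).natDegree + 1)) => (p k.1).coeff k.2)
  have hlift : ∀ c : s, p c ∈ Polynomial.lifts (rho B₀ (S.g i)).toRingHom := fun c => by
    rw [Polynomial.lifts_iff_coeff_lifts]
    intro n
    by_cases hn : n < (p c).natDegree + 1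
    · exact ⟨w' ⟨c, ⟨n, hn⟩⟩, hw' ⟨c, ⟨n, hn⟩⟩⟩
    · exact ⟨0, by rw [map_zero, Polynomial.coeff_eq_zero_of_natDegree_lt (by omega)]⟩
  choose q hq using fun c => Polynomial.lifts_and_natDegree_eq_and_monic (hlift c) (hpm c)
  let T : Finset ((B₀ ⊗[A₀] G i) ⊗[B₀] C₀) :=
    Finset.univ.image (fun c : s =>
      Polynomial.aeval ((1 : B₀ ⊗[A₀] G i) ⊗ₜ[B₀] (c : C₀)) (q c))
  obtain ⟨j, θ, hθ, hk⟩ := exists_reach_kill_sigma S B₀ C₀ i T (by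
    intro u hu
    obtain ⟨c, _, rfl⟩ := Finset.mem_image.mp hu
    have := Polynomial.map_aeval_eq_aeval_map (sigma_algebraMap B₀ C₀ (S.g i)) (q c)
      ((1 : B₀ ⊗[A₀] G i) ⊗ₜ[B₀] (c : C₀))
    have h1 : (sigma B₀ C₀ (S.g i)).toRingHom ((1 : B₀ ⊗[A₀] G i) ⊗ₜ[B₀] (c : C₀)) =
        (1 : B₀ ⊗[A₀] A) ⊗ₜ[B₀] (c : C₀) := by
      change sigma B₀ C₀ (S.g i) _ = _
      rw [sigma_tmul, map_one]
    rw [(hq c).1, h1] at this
    refine this.trans ?_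
    rw [Polynomial.aeval_def]
    exact hp c)
  refine ⟨j, ?_⟩
  have hint_j : ∀ c ∈ s, IsIntegral (B₀ ⊗[A₀] G j) ((1 : B₀ ⊗[A₀] G j) ⊗ₜ[B₀] (c : C₀)) := by
    intro c hc
    refine ⟨(q ⟨c, hc⟩).map (rho B₀ θ).toRingHom, (hq _).2.2.map _, ?_⟩
    have := Polynomial.map_aeval_eq_aeval_map (sigma_algebraMap B₀ C₀ θ) (q ⟨c, hc⟩)
      ((1 : B₀ ⊗[A₀] G i) ⊗ₜ[B₀] (c : C₀))
    have h1 : (sigma B₀ C₀ θ).toRingHom ((1 : B₀ ⊗[A₀] G i) ⊗ₜ[B₀] (c : C₀)) =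
        (1 : B₀ ⊗[A₀] G j) ⊗ₜ[B₀] (c : C₀) := by
      change sigma B₀ C₀ θ _ = _
      rw [sigma_tmul, map_one]
    rw [h1] at this
    rw [← Polynomial.aeval_def]
    refine this.symm.trans ?_
    exact hk _ (Finset.mem_image_of_mem _ (Finset.mem_univ (⟨c, hc⟩ : s)))
  have hfg := fg_adjoin_of_finite (R := B₀ ⊗[A₀] G j)
    ((s.finite_toSet).image (fun c : C₀ => (1 : B₀ ⊗[A₀] G j) ⊗ₜ[B₀] c)) (by
      rintro _ ⟨c, hc, rfl⟩
      exact hint_j c hc)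
  rw [adjoin_one_tmul_eq_top _ (s : Set C₀) hs, Algebra.top_toSubmodule] at hfg
  exact ⟨hfg⟩

include S in
/-- A `B₀`-algebra map from a finitely presented algebra to `B₀ ⊗ A` comes from a stage. -/
theorem exists_algHom_stage [Algebra.FinitePresentation B₀ C₀] (ψ : C₀ →ₐ[B₀] B₀ ⊗[A₀] A) :
    ∃ i, Nonempty (C₀ →ₐ[B₀] B₀ ⊗[A₀] G i) := by
  classical
  obtain ⟨n, f₀, hf₀, hfg⟩ := Algebra.FinitePresentation.out (R := B₀) (A := C₀)
  obtain ⟨T, hT⟩ := hfg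
  obtain ⟨i, r', hr'⟩ := exists_rep_rho S B₀ (fun k : Fin n => ψ (f₀ (MvPolynomial.X k)))
  have hcomp : (rho B₀ (S.g i)).comp (MvPolynomial.aeval r') = ψ.comp f₀ := by
    refine MvPolynomial.algHom_ext fun k => ?_
    simp only [AlgHom.comp_apply, MvPolynomial.aeval_X]
    exact hr' k
  obtain ⟨j, θ, hθ, hk⟩ := exists_reach_kill_rho S B₀ i (T.image (MvPolynomial.aeval r')) (by
    intro u hu
    obtain ⟨F, hF, rfl⟩ := Finset.mem_image.mp hu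
    have := AlgHom.congr_fun hcomp F
    simp only [AlgHom.comp_apply] at this
    rw [this]
    have hFk : F ∈ RingHom.ker f₀.toRingHom := hT ▸ Ideal.subset_span hF
    have : f₀ F = 0 := hFk
    rw [this, map_zero])
  refine ⟨j, ⟨AlgHom.liftOfSurjective f₀ hf₀ ((rho B₀ θ).comp (MvPolynomial.aeval r')) ?_⟩⟩
  rw [← hT, Ideal.span_le]
  intro F hF
  exact hk _ (Finset.mem_image_of_mem _ hF)

include S in
/-- Bijectivity of the base change descends to a finite stage. -/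
theorem bijective_descends [Algebra.FinitePresentation B₀ C₀]
    (h : Function.Bijective (algebraMap (B₀ ⊗[A₀] A) ((B₀ ⊗[A₀] A) ⊗[B₀] C₀))) :
    ∃ i, Function.Bijective (algebraMap (B₀ ⊗[A₀] G i) ((B₀ ⊗[A₀] G i) ⊗[B₀] C₀)) := by
  obtain ⟨i₁, hsurj⟩ := surjective_descends S B₀ C₀ h.2
  let e : (B₀ ⊗[A₀] A) ≃ₐ[B₀ ⊗[A₀] A] ((B₀ ⊗[A₀] A) ⊗[B₀] C₀) :=
    AlgEquiv.ofBijective (Algebra.ofId _ _) h
  let ψ : C₀ →ₐ[B₀] B₀ ⊗[A₀] A :=
    (e.symm.toAlgHom.restrictScalars B₀).comp Algebra.TensorProduct.includeRight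
  obtain ⟨i₂, ⟨ψ₂⟩⟩ := exists_algHom_stage S B₀ C₀ ψ
  obtain ⟨k, hk₁, hk₂⟩ := exists_ge_ge i₁ i₂
  refine ⟨k, ?_, surjective_transport B₀ C₀ (S.f i₁ k hk₁) hsurj⟩
  exact injective_of_algHom B₀ C₀ _ ((rho B₀ (S.f i₂ k hk₂)).comp ψ₂)

end

end Groth.Agent.H47.ColimKL
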