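import Mathlib
import Groth.Agent.H47.ColimRing

/-!
# Descent of unramifiedness through weakly presented directed colimits
-/

set_option autoImplicit false
set_option linter.unusedSectionVars false
set_option linter.style.haveILetI false
set_option linter.unusedVariables false
universe u

namespace Groth.Agent.H47.ColimKL

open TensorProduct

section Transport

variable {A₀ : Type u} [CommRing A₀] (B₀ : Type u) [CommRing B₀] [Algebra A₀ B₀]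
  (C₀ : Type u) [CommRing C₀] [Algebra A₀ C₀] [Algebra B₀ C₀] [IsScalarTower A₀ B₀ C₀]
  {G G' : Type u} [CommRing G] [Algebra A₀ G] [CommRing G'] [Algebra A₀ G']

lemma unramified_transport (θ : G →ₐ[A₀] G')
    (h : Algebra.Unramified (B₀ ⊗[A₀] G) ((B₀ ⊗[A₀] G) ⊗[B₀] C₀)) :
    Algebra.Unramified (B₀ ⊗[A₀] G') ((B₀ ⊗[A₀] G') ⊗[B₀] C₀) := by
  letI : Algebra (B₀ ⊗[A₀] G) (B₀ ⊗[A₀] G') := (rho B₀ θ).toRingHom.toAlgebra
  obtain ⟨e⟩ := exists_bcEquiv B₀ C₀ θ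
  exact Algebra.Unramified.of_equiv
    (A := (B₀ ⊗[A₀] G') ⊗[B₀ ⊗[A₀] G] ((B₀ ⊗[A₀] G) ⊗[B₀] C₀)) e

lemma smooth_transport (θ : G →ₐ[A₀] G')
    (h : Algebra.Smooth (B₀ ⊗[A₀] G) ((B₀ ⊗[A₀] G) ⊗[B₀] C₀)) :
    Algebra.Smooth (B₀ ⊗[A₀] G') ((B₀ ⊗[A₀] G') ⊗[B₀] C₀) := by
  letI : Algebra (B₀ ⊗[A₀] G) (B₀ ⊗[A₀] G') := (rho B₀ θ).toRingHom.toAlgebra
  obtain ⟨e⟩ := exists_bcEquiv B₀ C₀ θ
  exact Algebra.Smooth.of_equiv
    (A := (B₀ ⊗[A₀] G') ⊗[B₀ ⊗[A₀] G] ((B₀ ⊗[A₀] G) ⊗[B₀] C₀)) e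

end Transport

section

variable {ι : Type u} [Preorder ι] [IsDirected ι (· ≤ ·)] [Nonempty ι]
  {A₀ : Type u} [CommRing A₀] {G : ι → Type u} [∀ i, CommRing (G i)] [∀ i, Algebra A₀ (G i)]
  {A : Type u} [CommRing A] [Algebra A₀ A] (S : Sys A₀ G A)
  (B₀ : Type u) [CommRing B₀] [Algebra A₀ B₀] (C₀ : Type u) [CommRing C₀] [Algebra A₀ C₀]
  [Algebra B₀ C₀] [IsScalarTower A₀ B₀ C₀]

/-- If `1 ⊗ ω = 0` for `ω` in a `C₀`-generating set of `N`, then `R ⊗_{B₀} N = 0`. -/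
lemma subsingleton_of_gens (R : Type u) [CommRing R] [Algebra B₀ R]
    (N : Type u) [AddCommGroup N] [Module B₀ N] [Module C₀ N] [IsScalarTower B₀ C₀ N]
    (W : Set N) (hW : Submodule.span C₀ W = ⊤)
    (h : ∀ ω ∈ W, (1 : R) ⊗ₜ[B₀] ω = 0) : Subsingleton (R ⊗[B₀] N) := by
  have key : ∀ ω : N, ∀ r : R, r ⊗ₜ[B₀] ω = 0 := by
    intro ω
    have hω : ω ∈ Submodule.span C₀ W := hW ▸ Submodule.mem_top
    induction hω using Submodule.span_induction with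
    | mem ω hω =>
      intro r
      have : r ⊗ₜ[B₀] ω = r • ((1 : R) ⊗ₜ[B₀] ω) := by
        rw [TensorProduct.smul_tmul', smul_eq_mul, mul_one]
      rw [this, h ω hω, smul_zero]
    | zero => intro r; exact TensorProduct.tmul_zero _ _
    | add x y _ _ hx hy => intro r; rw [TensorProduct.tmul_add, hx, hy, add_zero]
    | smul c x _ hx =>
      intro r
      have := congrArg (LinearMap.lTensor R (Algebra.lsmul B₀ B₀ N c : N →ₗ[B₀] N)) (hx r)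
      rw [LinearMap.lTensor_tmul, map_zero] at this
      exact this
  refine ⟨fun x y => ?_⟩
  have hz : ∀ z : R ⊗[B₀] N, z = 0 := fun z => by
    induction z using TensorProduct.induction_on with
    | zero => rfl
    | tmul r ω => exact key ω r
    | add x y hx hy => rw [hx, hy, add_zero]
  rw [hz x, hz y]

attribute [local instance] Algebra.TensorProduct.rightAlgebra in
include S in
/-- Unramifiedness of the base change descends to a finite stage. -/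
theorem unramified_descends [Algebra.FiniteType B₀ C₀]
    (h : Algebra.Unramified (B₀ ⊗[A₀] A) ((B₀ ⊗[A₀] A) ⊗[B₀] C₀)) :
    ∃ i, Algebra.Unramified (B₀ ⊗[A₀] G i) ((B₀ ⊗[A₀] G i) ⊗[B₀] C₀) := by
  classical
  have hsubA : Subsingleton ((B₀ ⊗[A₀] A) ⊗[B₀] Ω[C₀⁄B₀]) :=
    (KaehlerDifferential.tensorKaehlerEquivBase B₀ (B₀ ⊗[A₀] A) C₀
      ((B₀ ⊗[A₀] A) ⊗[B₀] C₀)).toEquiv.subsingleton
  obtain ⟨W, hW⟩ := (Module.Finite.fg_top : (⊤ : Submodule C₀ Ω[C₀⁄B₀]).FG)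
  let i : ι := Classical.arbitrary ι
  obtain ⟨j, θ, hθ, hk⟩ := exists_reach_kill_tau S B₀ Ω[C₀⁄B₀] i
    (W.image (fun ω => (1 : B₀ ⊗[A₀] G i) ⊗ₜ[B₀] ω)) (fun u hu => Subsingleton.elim _ _)
  have hsubj : Subsingleton ((B₀ ⊗[A₀] G j) ⊗[B₀] Ω[C₀⁄B₀]) :=
    subsingleton_of_gens B₀ C₀ (B₀ ⊗[A₀] G j) Ω[C₀⁄B₀] (W : Set Ω[C₀⁄B₀]) hW (fun ω hω => by
      have := hk _ (Finset.mem_image_of_mem _ hω)
      rwa [tau_tmul, map_one] at this)
  refine ⟨j, ⟨⟨?_⟩, inferInstance⟩⟩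
  exact (KaehlerDifferential.tensorKaehlerEquivBase B₀ (B₀ ⊗[A₀] G j) C₀
      ((B₀ ⊗[A₀] G j) ⊗[B₀] C₀)).symm.toEquiv.subsingleton

end

end Groth.Agent.H47.ColimKL
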