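import Mathlib
import Groth.Agent.H47.ColimRing
import Groth.Agent.H47.ColimUnram

/-!
# Descent of smoothness and étaleness through weakly presented directed colimits
-/

set_option autoImplicit false
set_option linter.unusedSectionVars false
set_option linter.style.haveILetI false
set_option linter.unusedVariables false
universe u

namespace Groth.Agent.H47.ColimKL

open TensorProduct

section Criterion

variable {B₀ : Type u} [CommRing B₀] {C₀ : Type u} [CommRing C₀] [Algebra B₀ C₀]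
  {σ : Type} (f₀ : MvPolynomial σ B₀ →ₐ[B₀] C₀)
  (R : Type u) [CommRing R] [Algebra B₀ R]

/-- The first-order thickening `P₀ / K₀²` of the presentation. -/
abbrev E0 : Type u := MvPolynomial σ B₀ ⧸ (RingHom.ker f₀.toRingHom) ^ 2

/-- The quotient map `P₀ → P₀ / K₀²`. -/
noncomputable abbrev mk0 : MvPolynomial σ B₀ →ₐ[B₀] E0 f₀ :=
  Ideal.Quotient.mkₐ B₀ ((RingHom.ker f₀.toRingHom) ^ 2)

lemma mapN_eq {N N' : Type u} [CommRing N] [Algebra B₀ N] [CommRing N'] [Algebra B₀ N']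
    (φ : N →ₐ[B₀] N') (x : R ⊗[B₀] N) :
    mapN B₀ R φ x = Algebra.TensorProduct.map (AlgHom.id B₀ R) φ x := by
  induction x using TensorProduct.induction_on with
  | zero => simp
  | tmul r n => rfl
  | add x y hx hy => rw [map_add, map_add, hx, hy]

lemma ker_mapN {N N' : Type u} [CommRing N] [Algebra B₀ N] [CommRing N'] [Algebra B₀ N']
    (φ : N →ₐ[B₀] N') (hφ : Function.Surjective φ) :
    RingHom.ker (mapN B₀ R φ).toRingHom =
      (RingHom.ker φ.toRingHom).map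
        (Algebra.TensorProduct.includeRight : N →ₐ[B₀] R ⊗[B₀] N) := by
  have h1 : RingHom.ker (Algebra.TensorProduct.map (AlgHom.id B₀ R) φ) =
      (RingHom.ker φ.toRingHom).map
        (Algebra.TensorProduct.includeRight : N →ₐ[B₀] R ⊗[B₀] N) :=
    Algebra.TensorProduct.lTensor_ker (A := R) φ hφ
  rw [← h1]
  ext x
  simp only [RingHom.mem_ker]
  change mapN B₀ R φ x = 0 ↔ Algebra.TensorProduct.map (AlgHom.id B₀ R) φ x = 0
  rw [mapN_eq]

lemma ker_mapN_mk0 (hf₀ : Function.Surjective f₀) :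
    RingHom.ker (mapN B₀ R (mk0 f₀)).toRingHom = (RingHom.ker (mapN B₀ R f₀).toRingHom) ^ 2 := by
  rw [ker_mapN R f₀ hf₀, ker_mapN R (mk0 f₀) Ideal.Quotient.mk_surjective, ← Ideal.map_pow]
  congr 1
  exact Ideal.Quotient.mkₐ_ker B₀ _

/-- Criterion: explicit first-order section data gives formal smoothness of `R ⊗ C₀`. -/
theorem formallySmooth_of_data (hf₀ : Function.Surjective f₀)
    (h : σ → R ⊗[B₀] MvPolynomial σ B₀)
    (ha : ∀ k, mapN B₀ R f₀ (h k) = (1 : R) ⊗ₜ[B₀] f₀ (MvPolynomial.X k))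
    (hb : ∀ F ∈ RingHom.ker f₀.toRingHom,
      mapN B₀ R (mk0 f₀) (MvPolynomial.aeval h F) = 0) :
    Algebra.FormallySmooth R (R ⊗[B₀] C₀) := by
  classical
  have hsurj : Function.Surjective (mapN B₀ R f₀) :=
    Algebra.TensorProduct.map_surjective (AlgHom.id R R) f₀ Function.surjective_id hf₀
  -- the evaluation map into the thickening
  let φ : R ⊗[B₀] MvPolynomial σ B₀ →ₐ[R]
      (R ⊗[B₀] MvPolynomial σ B₀) ⧸ (RingHom.ker (mapN B₀ R f₀).toRingHom) ^ 2 :=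
    Algebra.TensorProduct.lift (Algebra.ofId R _)
      ((Ideal.Quotient.mkₐ B₀ _).comp (MvPolynomial.aeval h)) (fun _ _ => Commute.all _ _)
  have hφ : ∀ F : MvPolynomial σ B₀, φ ((1 : R) ⊗ₜ[B₀] F) =
      Ideal.Quotient.mk _ (MvPolynomial.aeval h F) := fun F => by
    simp only [φ, Algebra.TensorProduct.lift_tmul, map_one, one_mul]
    rfl
  have hker : RingHom.ker (mapN B₀ R f₀).toRingHom ≤ RingHom.ker φ.toRingHom := by
    refine le_trans (le_of_eq (ker_mapN R f₀ hf₀)) ?_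
    rw [Ideal.map_le_iff_le_comap]
    intro F hF
    rw [Ideal.mem_comap, RingHom.mem_ker]
    change φ ((1 : R) ⊗ₜ[B₀] F) = 0
    rw [hφ, Ideal.Quotient.eq_zero_iff_mem, ← ker_mapN_mk0 f₀ R hf₀, RingHom.mem_ker]
    exact hb F hF
  let g := AlgHom.liftOfSurjective (mapN B₀ R f₀) hsurj φ hker
  refine Algebra.FormallySmooth.of_split (mapN B₀ R f₀) g ?_
  rw [← AlgHom.cancel_right hsurj, AlgHom.comp_assoc, AlgHom.liftOfSurjective_comp,
    AlgHom.id_comp]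
  apply Algebra.TensorProduct.ext
  · exact AlgHom.ext fun r => by
      simp only [AlgHom.comp_apply]
      change (mapN B₀ R f₀).kerSquareLift (φ (algebraMap R _ r)) = mapN B₀ R f₀ (algebraMap R _ r)
      rw [AlgHom.commutes, AlgHom.commutes, AlgHom.commutes]
  · refine MvPolynomial.algHom_ext fun k => ?_
    simp only [AlgHom.comp_apply, AlgHom.restrictScalars_apply,
      Algebra.TensorProduct.includeRight_apply]
    rw [hφ, MvPolynomial.aeval_X]
    change mapN B₀ R f₀ (h k) = _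
    rw [ha]
    rfl

/-- Conversely, formal smoothness of `R ⊗ C₀` gives first-order section data. -/
theorem exists_data_of_formallySmooth (hf₀ : Function.Surjective f₀)
    [Algebra.FormallySmooth R (R ⊗[B₀] C₀)] :
    ∃ h : σ → R ⊗[B₀] MvPolynomial σ B₀,
      (∀ k, mapN B₀ R f₀ (h k) = (1 : R) ⊗ₜ[B₀] f₀ (MvPolynomial.X k)) ∧
      (∀ F ∈ RingHom.ker f₀.toRingHom,
        mapN B₀ R (mk0 f₀) (MvPolynomial.aeval h F) = 0) := by
  classical
  have hsurj : Function.Surjective (mapN B₀ R f₀) :=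
    Algebra.TensorProduct.map_surjective (AlgHom.id R R) f₀ Function.surjective_id hf₀
  obtain ⟨g, hg⟩ := (Algebra.FormallySmooth.iff_split_surjection (mapN B₀ R f₀) hsurj).mp
    inferInstance
  have hmk : ∀ k, ∃ t : R ⊗[B₀] MvPolynomial σ B₀,
      Ideal.Quotient.mk ((RingHom.ker (mapN B₀ R f₀).toRingHom) ^ 2) t =
        g ((1 : R) ⊗ₜ[B₀] f₀ (MvPolynomial.X k)) := fun k => Ideal.Quotient.mk_surjective _
  choose h hh using hmk
  refine ⟨h, fun k => ?_, fun F hF => ?_⟩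
  · have := AlgHom.congr_fun hg ((1 : R) ⊗ₜ[B₀] f₀ (MvPolynomial.X k))
    rw [AlgHom.comp_apply, ← hh k] at this
    exact this
  · have h1 : ((Ideal.Quotient.mkₐ B₀ ((RingHom.ker (mapN B₀ R f₀).toRingHom) ^ 2)).comp
        (MvPolynomial.aeval h)) =
        ((g.restrictScalars B₀).comp Algebra.TensorProduct.includeRight).comp f₀ := by
      refine MvPolynomial.algHom_ext fun k => ?_
      simp only [AlgHom.comp_apply, MvPolynomial.aeval_X, AlgHom.restrictScalars_apply,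
        Algebra.TensorProduct.includeRight_apply]
      exact hh k
    have h2 := AlgHom.congr_fun h1 F
    have hF0 : f₀ F = 0 := hF
    simp only [AlgHom.comp_apply, hF0, map_zero] at h2
    have h3 : MvPolynomial.aeval h F ∈ (RingHom.ker (mapN B₀ R f₀).toRingHom) ^ 2 :=
      Ideal.Quotient.eq_zero_iff_mem.mp h2
    rw [← ker_mapN_mk0 f₀ R hf₀, RingHom.mem_ker] at h3
    exact h3

end Criterion

section

variable {A₀ : Type u} [CommRing A₀] (B₀ : Type u) [CommRing B₀] [Algebra A₀ B₀]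
variable (N : Type u) [CommRing N] [Algebra B₀ N] [Algebra A₀ N] [IsScalarTower A₀ B₀ N]

lemma sigma_comp {G G' G'' : Type u} [CommRing G] [Algebra A₀ G] [CommRing G'] [Algebra A₀ G']
    [CommRing G''] [Algebra A₀ G''] (θ : G →ₐ[A₀] G') (θ' : G' →ₐ[A₀] G'')
    (x : (B₀ ⊗[A₀] G) ⊗[B₀] N) :
    sigma B₀ N (θ'.comp θ) x = sigma B₀ N θ' (sigma B₀ N θ x) := by
  rw [sigma_apply, sigma_apply, sigma_apply, tau_comp]

end

section

variable {ι : Type u} [Preorder ι] [IsDirected ι (· ≤ ·)] [Nonempty ι]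
  {A₀ : Type u} [CommRing A₀] {G : ι → Type u} [∀ i, CommRing (G i)] [∀ i, Algebra A₀ (G i)]
  {A : Type u} [CommRing A] [Algebra A₀ A] (S : Sys A₀ G A)
  (B₀ : Type u) [CommRing B₀] [Algebra A₀ B₀]

/-- Simultaneous killing in two different functors. -/
theorem exists_reach_kill_sigma₂
    (N₁ : Type u) [CommRing N₁] [Algebra B₀ N₁] [Algebra A₀ N₁] [IsScalarTower A₀ B₀ N₁]
    (N₂ : Type u) [CommRing N₂] [Algebra B₀ N₂] [Algebra A₀ N₂] [IsScalarTower A₀ B₀ N₂]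
    (i : ι) (T₁ : Finset ((B₀ ⊗[A₀] G i) ⊗[B₀] N₁)) (T₂ : Finset ((B₀ ⊗[A₀] G i) ⊗[B₀] N₂))
    (h₁ : ∀ u ∈ T₁, sigma B₀ N₁ (S.g i) u = 0) (h₂ : ∀ u ∈ T₂, sigma B₀ N₂ (S.g i) u = 0) :
    ∃ (j : ι) (θ : G i →ₐ[A₀] G j), Reach S i j θ ∧ (∀ u ∈ T₁, sigma B₀ N₁ θ u = 0) ∧
      (∀ u ∈ T₂, sigma B₀ N₂ θ u = 0) := by
  classical
  obtain ⟨j₁, θ₁, hθ₁, hk₁⟩ := exists_reach_kill_sigma S B₀ N₁ i T₁ h₁
  obtain ⟨j₂, θ₂, hθ₂, hk₂⟩ := exists_reach_kill_sigma S B₀ N₂ j₁ (T₂.image (sigma B₀ N₂ θ₁)) (by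
    intro u hu
    obtain ⟨x, hx, rfl⟩ := Finset.mem_image.mp hu
    rw [sigma_reach S B₀ N₂ hθ₁]
    exact h₂ x hx)
  refine ⟨j₂, θ₂.comp θ₁, hθ₁.trans S hθ₂, fun u hu => ?_, fun u hu => ?_⟩
  · rw [sigma_comp, hk₁ u hu, map_zero]
  · rw [sigma_comp]
    exact hk₂ _ (Finset.mem_image_of_mem _ hu)

variable (C₀ : Type u) [CommRing C₀] [Algebra A₀ C₀] [Algebra B₀ C₀] [IsScalarTower A₀ B₀ C₀]

include S in
/-- Smoothness of the base change descends to a finite stage. -/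
theorem smooth_descends [Algebra.FinitePresentation B₀ C₀]
    (h : Algebra.Smooth (B₀ ⊗[A₀] A) ((B₀ ⊗[A₀] A) ⊗[B₀] C₀)) :
    ∃ i, Algebra.Smooth (B₀ ⊗[A₀] G i) ((B₀ ⊗[A₀] G i) ⊗[B₀] C₀) := by
  classical
  obtain ⟨n, f₀, hf₀, hfg⟩ := Algebra.FinitePresentation.out (R := B₀) (A := C₀)
  obtain ⟨T, hT⟩ := hfg
  obtain ⟨hA, haA, hbA⟩ := exists_data_of_formallySmooth f₀ (B₀ ⊗[A₀] A) hf₀
  obtain ⟨i, h', hh'⟩ := exists_rep_sigma S B₀ (MvPolynomial (Fin n) B₀) hA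
  -- the two families of relations
  let T₁ : Finset ((B₀ ⊗[A₀] G i) ⊗[B₀] C₀) := Finset.univ.image (fun k : Fin n =>
    mapN B₀ (B₀ ⊗[A₀] G i) f₀ (h' k) - (1 : B₀ ⊗[A₀] G i) ⊗ₜ[B₀] f₀ (MvPolynomial.X k))
  let T₂ : Finset ((B₀ ⊗[A₀] G i) ⊗[B₀] E0 f₀) := T.image (fun F =>
    mapN B₀ (B₀ ⊗[A₀] G i) (mk0 f₀) (MvPolynomial.aeval h' F))
  have haeval : ∀ {j : ι} (θ : G i →ₐ[A₀] G j) (F : MvPolynomial (Fin n) B₀),
      sigma B₀ (MvPolynomial (Fin n) B₀) θ (MvPolynomial.aeval h' F) =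
        MvPolynomial.aeval (fun k => sigma B₀ (MvPolynomial (Fin n) B₀) θ (h' k)) F :=
    fun θ F => MvPolynomial.comp_aeval_apply _ _ F
  have haevalA : ∀ (F : MvPolynomial (Fin n) B₀),
      sigma B₀ (MvPolynomial (Fin n) B₀) (S.g i) (MvPolynomial.aeval h' F) =
        MvPolynomial.aeval hA F := fun F => by
    rw [MvPolynomial.comp_aeval_apply]
    congr 2
    funext k
    exact hh' k
  obtain ⟨j, θ, hθ, hk₁, hk₂⟩ := exists_reach_kill_sigma₂ S B₀ C₀ (E0 f₀) i T₁ T₂ (by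
    intro u hu
    obtain ⟨k, _, rfl⟩ := Finset.mem_image.mp hu
    rw [map_sub, ← mapN_sigma, hh', haA, sigma_tmul, map_one, sub_self]) (by
    intro u hu
    obtain ⟨F, hF, rfl⟩ := Finset.mem_image.mp hu
    rw [← mapN_sigma, haevalA]
    exact hbA F (hT ▸ Ideal.subset_span hF))
  refine ⟨j, ⟨?_, inferInstance⟩⟩
  refine formallySmooth_of_data f₀ (B₀ ⊗[A₀] G j) hf₀
    (fun k => sigma B₀ (MvPolynomial (Fin n) B₀) θ (h' k)) (fun k => ?_) ?_
  · have := hk₁ _ (Finset.mem_image_of_mem _ (Finset.mem_univ k))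
    rw [map_sub, ← mapN_sigma, sigma_tmul, map_one, sub_eq_zero] at this
    exact this
  · -- the relation holds on the ideal generated by `T`
    have hle : RingHom.ker f₀.toRingHom ≤ RingHom.ker
        (((mapN B₀ (B₀ ⊗[A₀] G j) (mk0 f₀)).restrictScalars B₀).comp
          (MvPolynomial.aeval (fun k => sigma B₀ (MvPolynomial (Fin n) B₀) θ (h' k)))).toRingHom := by
      refine le_trans (le_of_eq hT.symm) ?_
      rw [Ideal.span_le]
      intro F hF
      rw [SetLike.mem_coe, RingHom.mem_ker]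
      change mapN B₀ (B₀ ⊗[A₀] G j) (mk0 f₀) (MvPolynomial.aeval _ F) = 0
      rw [← haeval, mapN_sigma]
      exact hk₂ _ (Finset.mem_image_of_mem _ hF)
    intro F hF
    exact hle hF

include S in
/-- Étaleness of the base change descends to a finite stage. -/
theorem etale_descends [Algebra.FinitePresentation B₀ C₀]
    (h : Algebra.Etale (B₀ ⊗[A₀] A) ((B₀ ⊗[A₀] A) ⊗[B₀] C₀)) :
    ∃ i, Algebra.Etale (B₀ ⊗[A₀] G i) ((B₀ ⊗[A₀] G i) ⊗[B₀] C₀) := by
  obtain ⟨hu, hs⟩ := Algebra.Etale.iff_formallyUnramified_and_smooth.mp h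
  obtain ⟨i₁, h₁⟩ := smooth_descends S B₀ C₀ hs
  obtain ⟨i₂, h₂⟩ := unramified_descends S B₀ C₀ ⟨hu, inferInstance⟩
  obtain ⟨k, hk₁, hk₂⟩ := exists_ge_ge i₁ i₂
  have hs' := smooth_transport B₀ C₀ (S.f i₁ k hk₁) h₁
  have hu' := unramified_transport B₀ C₀ (S.f i₂ k hk₂) h₂
  exact ⟨k, Algebra.Etale.iff_formallyUnramified_and_smooth.mpr ⟨hu'.1, hs'⟩⟩

end

end Groth.Agent.H47.ColimKL
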