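import Mathlib
import Groth.Agent.H47.SepFS

/-!
# `dim κ ⊗ Ω_{S/k} = dim m/m²` at closed points over an algebraically closed field
-/

set_option autoImplicit false
universe u

namespace Groth.Agent.H47

open TensorProduct KaehlerDifferential

theorem finrank_kaehler_fiber_eq_finrank_cotangent (k : Type u) [Field k]
    [IsAlgClosed k] (S : Type u) [CommRing S] [Algebra k S] [Algebra.FiniteType k S]
    (m : Ideal S) [m.IsMaximal] :
    Module.finrank (S ⧸ m) ((S ⧸ m) ⊗[S] Ω[S⁄k]) = Module.finrank (S ⧸ m) m.Cotangent := by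
  have hsurjS : Function.Surjective (algebraMap S (S ⧸ m)) := Ideal.Quotient.mk_surjective
  have hbij : Function.Bijective (algebraMap k (S ⧸ m)) := by
    letI : Field (S ⧸ m) := Ideal.Quotient.field m
    haveI : Algebra.FiniteType k (S ⧸ m) :=
      Algebra.FiniteType.of_surjective (IsScalarTower.toAlgHom k S (S ⧸ m)) hsurjS
    haveI : Module.Finite k (S ⧸ m) := finite_of_finite_type_of_isJacobsonRing k (S ⧸ m)
    exact IsAlgClosed.algebraMap_bijective_of_isIntegral
  haveI : Algebra.FormallySmooth k (S ⧸ m) :=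
    Algebra.FormallySmooth.of_equiv (AlgEquiv.ofBijective (Algebra.ofId k (S ⧸ m)) hbij)
  have hinj := kerCotangentToTensor_injective_of_formallySmooth k S (S ⧸ m) hsurjS
  have hsurj : Function.Surjective (kerCotangentToTensor k S (S ⧸ m)) := by
    haveI : Subsingleton Ω[S ⧸ m⁄k] := KaehlerDifferential.subsingleton_of_surjective k (S ⧸ m) hbij.2
    intro x
    exact (exact_kerCotangentToTensor_mapBaseChange k S (S ⧸ m) hsurjS x).mp (Subsingleton.elim _ _)
  let e₁ : (RingHom.ker (algebraMap S (S ⧸ m))).Cotangent ≃ₗ[S] (S ⧸ m) ⊗[S] Ω[S⁄k] :=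
    LinearEquiv.ofBijective _ ⟨hinj, hsurj⟩
  let e₀ : m.Cotangent ≃ₗ[S] (RingHom.ker (algebraMap S (S ⧸ m))).Cotangent :=
    Ideal.Cotangent.equivOfEq _ _ (Ideal.mk_ker).symm
  let e : m.Cotangent ≃ₗ[S ⧸ m] (S ⧸ m) ⊗[S] Ω[S⁄k] :=
    (e₀.trans e₁).extendScalarsOfSurjective hsurjS
  exact e.finrank_eq.symm

end Groth.Agent.H47
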