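import Mathlib
import Groth.Prelude.Def_Omega3

/-!
# Universal first order thickening of a formally unramified algebra

For a formally unramified `R`-algebra `S` presented as a quotient of a polynomial ring `P` with
kernel `J`, the map `d : J/J² → S ⊗_P Ω_{P/R}` is surjective; a choice of preimages of the basis
`dX_i` gives a `P`-linear `τ : Ω_{P/R} → J/J²` with `d (τ ω) = 1 ⊗ ω`, and
`J' = {x ∈ J | x mod J² = τ (dx)}` is an ideal with `J² ≤ J' ≤ J` such that `P/J' → S` is the
universal first order thickening.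
-/

set_option autoImplicit false
universe u

namespace Groth.Agent.H47

open TensorProduct KaehlerDifferential

/-- If `P → S` is surjective with kernel `J`, then `1 ⊗ m = 0` in `S ⊗_P M` forces `m ∈ J M`. -/
lemma mem_smul_top_of_one_tmul_eq_zero {P S : Type*} [CommRing P] [CommRing S] [Algebra P S]
    (hs : Function.Surjective (algebraMap P S)) {M : Type*} [AddCommGroup M] [Module P M] (m : M)
    (h : (1 : S) ⊗ₜ[P] m = 0) :
    m ∈ (RingHom.ker (algebraMap P S) • ⊤ : Submodule P M) := by
  let e : (P ⧸ RingHom.ker (algebraMap P S)) ≃ₐ[P] S :=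
    Ideal.quotientKerAlgEquivOfSurjective (f := Algebra.ofId P S) hs
  have h1 : (1 : P ⧸ RingHom.ker (algebraMap P S)) ⊗ₜ[P] m = 0 := by
    have := congrArg (LinearMap.rTensor M e.symm.toLinearMap) h
    simpa using this
  have h2 := congrArg (TensorProduct.quotTensorEquivQuotSMul M (RingHom.ker (algebraMap P S))) h1
  rw [map_zero, TensorProduct.quotTensorEquivQuotSMul_mk_one_tmul] at h2
  exact (Submodule.Quotient.mk_eq_zero _).mp h2

section

variable {R S : Type u} [CommRing R] [CommRing S] [Algebra R S]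
variable {σ : Type u} [Algebra (MvPolynomial σ R) S] [IsScalarTower R (MvPolynomial σ R) S]


variable (τ : Ω[(MvPolynomial σ R)⁄R] →ₗ[(MvPolynomial σ R)] (RingHom.ker (algebraMap (MvPolynomial σ R) S)).Cotangent)

lemma tau_eq_zero_of_mem_smul_top (ω : Ω[(MvPolynomial σ R)⁄R]) (h : ω ∈ (RingHom.ker (algebraMap (MvPolynomial σ R) S) • ⊤ : Submodule (MvPolynomial σ R) Ω[(MvPolynomial σ R)⁄R])) :
    τ ω = 0 := by
  refine Submodule.smul_induction_on h (fun j hj n _ => ?_) (fun x y hx hy => ?_)
  · rw [map_smul]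
    exact Ideal.Cotangent.smul_eq_zero_of_mem hj _
  · rw [map_add, hx, hy, add_zero]

/-- The ideal `J' = {x ∈ J | x mod J² = τ (dx)}`. -/
def thickIdeal : Ideal (MvPolynomial σ R) where
  carrier := {x | ∃ h : x ∈ RingHom.ker (algebraMap (MvPolynomial σ R) S), (RingHom.ker (algebraMap (MvPolynomial σ R) S)).toCotangent ⟨x, h⟩ = τ (D R (MvPolynomial σ R) x)}
  zero_mem' := ⟨Ideal.zero_mem _, by
    rw [map_zero, map_zero]
    exact map_zero (RingHom.ker (algebraMap (MvPolynomial σ R) S)).toCotangent⟩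
  add_mem' := by
    rintro x y ⟨hx, hx'⟩ ⟨hy, hy'⟩
    refine ⟨Ideal.add_mem _ hx hy, ?_⟩
    rw [map_add, map_add, ← hx', ← hy', ← map_add]
    rfl
  smul_mem' := by
    rintro p x ⟨hx, hx'⟩
    refine ⟨Ideal.mul_mem_left _ p hx, ?_⟩
    have h1 : (RingHom.ker (algebraMap (MvPolynomial σ R) S)).toCotangent
        ⟨p • x, Ideal.mul_mem_left _ p hx⟩ =
        p • (RingHom.ker (algebraMap (MvPolynomial σ R) S)).toCotangent ⟨x, hx⟩ := by
      rw [← map_smul]; rfl
    have h2 : τ (D R (MvPolynomial σ R) (p • x)) = p • τ (D R (MvPolynomial σ R) x) := by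
      rw [smul_eq_mul, Derivation.leibniz, map_add, map_smul, map_smul,
        Ideal.Cotangent.smul_eq_zero_of_mem hx, add_zero]
    rw [h1, h2, hx']

lemma thickIdeal_le : thickIdeal τ ≤ RingHom.ker (algebraMap (MvPolynomial σ R) S) := fun _ hx => hx.1

lemma mem_thickIdeal {x : (MvPolynomial σ R)} :
    x ∈ thickIdeal τ ↔ ∃ h : x ∈ RingHom.ker (algebraMap (MvPolynomial σ R) S), (RingHom.ker (algebraMap (MvPolynomial σ R) S)).toCotangent ⟨x, h⟩ = τ (D R (MvPolynomial σ R) x) := Iff.rfl

lemma sq_le_thickIdeal : RingHom.ker (algebraMap (MvPolynomial σ R) S) ^ 2 ≤ thickIdeal τ := by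
  rw [pow_two, Ideal.mul_le]
  intro x hx y hy
  refine ⟨Ideal.mul_mem_left _ x hy, ?_⟩
  rw [Derivation.leibniz, map_add, map_smul, map_smul, Ideal.Cotangent.smul_eq_zero_of_mem hx,
    Ideal.Cotangent.smul_eq_zero_of_mem hy, add_zero, Ideal.toCotangent_eq_zero, pow_two]
  exact Ideal.mul_mem_mul hx hy


variable (hτ : ∀ ω, kerCotangentToTensor R (MvPolynomial σ R) S (τ ω) = (1 : S) ⊗ₜ ω)
variable (hs : Function.Surjective (algebraMap (MvPolynomial σ R) S))

include hτ hs in
lemma exists_mem_thickIdeal_D_sub (p : MvPolynomial σ R) :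
    ∃ δ ∈ thickIdeal τ, D R (MvPolynomial σ R) p - D R (MvPolynomial σ R) δ ∈
      (RingHom.ker (algebraMap (MvPolynomial σ R) S) • ⊤ :
        Submodule (MvPolynomial σ R) Ω[MvPolynomial σ R⁄R]) := by
  obtain ⟨δ, hδ⟩ := Ideal.toCotangent_surjective _ (τ (D R (MvPolynomial σ R) p))
  have h1 : (1 : S) ⊗ₜ[MvPolynomial σ R]
      (D R (MvPolynomial σ R) p - D R (MvPolynomial σ R) δ.1) = 0 := by
    rw [tmul_sub, ← hτ, ← hδ, kerCotangentToTensor_toCotangent, sub_self]
  have h2 := mem_smul_top_of_one_tmul_eq_zero hs _ h1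
  refine ⟨δ.1, ⟨δ.2, ?_⟩, h2⟩
  have h3 := tau_eq_zero_of_mem_smul_top τ _ h2
  rw [map_sub, sub_eq_zero] at h3
  rw [← h3, ← hδ]

/-- The projection `P/J' → S`. -/
noncomputable def thickProj : (MvPolynomial σ R ⧸ thickIdeal τ) →ₐ[R] S :=
  Ideal.Quotient.liftₐ (thickIdeal τ) (IsScalarTower.toAlgHom R (MvPolynomial σ R) S)
    (fun _ hx => thickIdeal_le τ hx)

lemma thickProj_mk (p : MvPolynomial σ R) :
    thickProj τ (Ideal.Quotient.mk _ p) = algebraMap (MvPolynomial σ R) S p := rfl

include hτ hs in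
theorem isUnivThickeningRing_thickProj :
    OmegaSh.IsUnivThickeningRing R S (MvPolynomial σ R ⧸ thickIdeal τ) (thickProj τ) := by
  refine ⟨?_, ?_, ?_⟩
  · intro s
    obtain ⟨p, rfl⟩ := hs s
    exact ⟨Ideal.Quotient.mk _ p, rfl⟩
  · rw [eq_bot_iff]
    have h1 : RingHom.ker (thickProj τ).toRingHom ≤
        (RingHom.ker (algebraMap (MvPolynomial σ R) S)).map (Ideal.Quotient.mk (thickIdeal τ)) := by
      intro y hy
      obtain ⟨p, rfl⟩ := Ideal.Quotient.mk_surjective y
      exact Ideal.mem_map_of_mem _ hy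
    refine (Ideal.pow_right_mono h1 2).trans ?_
    rw [← Ideal.map_pow]
    exact (Ideal.map_mono (sq_le_thickIdeal τ)).trans (le_of_eq (Ideal.map_quotient_self _))
  · intro A _ _ I hI a
    classical
    let φ : MvPolynomial σ R →ₐ[R] A := MvPolynomial.aeval (fun i =>
      (Ideal.Quotient.mk_surjective (a (algebraMap (MvPolynomial σ R) S (MvPolynomial.X i)))).choose)
    have hφ : ∀ p, Ideal.Quotient.mk I (φ p) = a (algebraMap (MvPolynomial σ R) S p) := by
      have : (Ideal.Quotient.mkₐ R I).comp φ =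
          a.comp (IsScalarTower.toAlgHom R (MvPolynomial σ R) S) := by
        refine MvPolynomial.algHom_ext (fun i => ?_)
        simp only [AlgHom.comp_apply, Ideal.Quotient.mkₐ_eq_mk, φ, MvPolynomial.aeval_X,
          IsScalarTower.coe_toAlgHom']
        exact (Ideal.Quotient.mk_surjective
          (a (algebraMap (MvPolynomial σ R) S (MvPolynomial.X i)))).choose_spec
      intro p
      exact congrArg (fun f => f p) this
    let _ : Algebra (MvPolynomial σ R) A := φ.toRingHom.toAlgebra
    have : IsScalarTower R (MvPolynomial σ R) A :=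
      IsScalarTower.of_algebraMap_eq (fun r => (φ.commutes r).symm)
    have hφJ : ∀ x ∈ RingHom.ker (algebraMap (MvPolynomial σ R) S), φ x ∈ I := fun x hx => by
      rw [← Ideal.Quotient.eq_zero_iff_mem, hφ, RingHom.mem_ker.mp hx, map_zero]
    have hII : ∀ x ∈ I, ∀ y ∈ I, x * y = 0 := fun x hx y hy => by
      rw [← Ideal.mem_bot, ← hI, pow_two]
      exact Ideal.mul_mem_mul hx hy
    have halg : ∀ p : MvPolynomial σ R, algebraMap (MvPolynomial σ R) A p = φ p := fun _ => rfl
    -- `J` acts trivially on `I`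
    have hJI : ∀ j ∈ RingHom.ker (algebraMap (MvPolynomial σ R) S), ∀ m : I, j • m = 0 := by
      intro j hj m
      apply Subtype.ext
      change j • (m : A) = 0
      rw [Algebra.smul_def, halg]
      exact hII _ (hφJ j hj) _ m.2
    let φJ : RingHom.ker (algebraMap (MvPolynomial σ R) S) →ₗ[MvPolynomial σ R] I :=
      { toFun := fun x => ⟨φ x, hφJ x x.2⟩
        map_add' := fun x y => Subtype.ext (map_add φ x.1 y.1)
        map_smul' := fun p x => Subtype.ext (by
          change φ (p • x.1) = p • φ x.1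
          rw [smul_eq_mul, map_mul, Algebra.smul_def, halg]) }
    let φb : (RingHom.ker (algebraMap (MvPolynomial σ R) S)).Cotangent →ₗ[MvPolynomial σ R] I :=
      Ideal.Cotangent.lift φJ (fun x y => Subtype.ext (by
        change φ (x.1 * y.1) = 0
        rw [map_mul]
        exact hII _ (hφJ _ x.2) _ (hφJ _ y.2)))
    let Dφ : Derivation R (MvPolynomial σ R) I :=
      -((φb ∘ₗ τ).compDer (D R (MvPolynomial σ R)))
    have hDφ : ∀ x ∈ thickIdeal τ, ((Dφ x : I) : A) = -φ x := by
      rintro x ⟨hx, hx'⟩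
      change ((-(φb (τ (D R (MvPolynomial σ R) x))) : I) : A) = -φ x
      rw [← hx']
      rfl
    let aP : MvPolynomial σ R →ₐ[R] A := liftOfDerivationToSquareZero I hI Dφ
    have haP : ∀ p, aP p = (Dφ p : A) + φ p := fun p => rfl
    have hkill : ∀ x ∈ thickIdeal τ, aP x = 0 := fun x hx => by
      rw [haP, hDφ x hx, neg_add_cancel]
    refine ⟨Ideal.Quotient.liftₐ (thickIdeal τ) aP hkill, ?_, ?_⟩
    · refine Ideal.Quotient.algHom_ext _ (AlgHom.ext fun p => ?_)
      change Ideal.Quotient.mk I (aP p) = a (algebraMap (MvPolynomial σ R) S p)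
      rw [haP, map_add, Ideal.Quotient.eq_zero_iff_mem.mpr (Dφ p).2, zero_add, hφ]
    · intro a'' ha''
      let ψ : MvPolynomial σ R →ₐ[R] A := a''.comp (Ideal.Quotient.mkₐ R (thickIdeal τ))
      have hψ : ∀ p, Ideal.Quotient.mk I (ψ p) = a (algebraMap (MvPolynomial σ R) S p) := fun p =>
        congrArg (fun f => f (Ideal.Quotient.mk (thickIdeal τ) p)) ha''
      have e : (Ideal.Quotient.mkₐ R I).comp ψ =
          IsScalarTower.toAlgHom R (MvPolynomial σ R) (A ⧸ I) := by
        refine AlgHom.ext fun p => ?_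
        change Ideal.Quotient.mk I (ψ p) = Ideal.Quotient.mk I (φ p)
        rw [hψ, hφ]
      let D2 : Derivation R (MvPolynomial σ R) I := derivationToSquareZeroOfLift I hI ψ e
      have hD2 : ∀ p, ((D2 p : I) : A) = ψ p - φ p := fun p => rfl
      have hψkill : ∀ x ∈ thickIdeal τ, ψ x = 0 := fun x hx => by
        change a'' (Ideal.Quotient.mk _ x) = 0
        rw [Ideal.Quotient.eq_zero_iff_mem.mpr hx, map_zero]
      let E : Derivation R (MvPolynomial σ R) I := D2 - Dφ
      have hE : ∀ x ∈ thickIdeal τ, E x = 0 := fun x hx => by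
        apply Subtype.ext
        change ((D2 x : I) : A) - ((Dφ x : I) : A) = 0
        rw [hD2, hψkill x hx, hDφ x hx]
        ring
      have hEJ : ∀ ω ∈ (RingHom.ker (algebraMap (MvPolynomial σ R) S) • ⊤ :
          Submodule (MvPolynomial σ R) Ω[MvPolynomial σ R⁄R]), E.liftKaehlerDifferential ω = 0 := by
        intro ω hω
        refine Submodule.smul_induction_on hω (fun j hj n _ => ?_) (fun x y hx hy => ?_)
        · rw [map_smul]
          exact hJI j hj _
        · rw [map_add, hx, hy, add_zero]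
      have hE0 : E = 0 := by
        refine MvPolynomial.derivation_ext (fun i => ?_)
        obtain ⟨δ, hδ, hδ'⟩ := exists_mem_thickIdeal_D_sub τ hτ hs (MvPolynomial.X i)
        have := hEJ _ hδ'
        rw [map_sub, Derivation.liftKaehlerDifferential_comp_D,
          Derivation.liftKaehlerDifferential_comp_D, hE δ hδ, sub_zero] at this
        rw [this]
        rfl
      have hD : D2 = Dφ := sub_eq_zero.mp hE0
      refine Ideal.Quotient.algHom_ext _ (AlgHom.ext fun p => ?_)
      change ψ p = aP p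
      rw [haP, ← hD, hD2]
      ring

end

/-- A formally unramified algebra has a universal first order thickening. -/
theorem exists_isUnivThickeningRing (R S : Type u) [CommRing R] [CommRing S] [Algebra R S]
    [Algebra.FormallyUnramified R S] :
    ∃ (S' : Type u) (_ : CommRing S') (_ : Algebra R S') (π : S' →ₐ[R] S),
      OmegaSh.IsUnivThickeningRing R S S' π := by
  let _ : Algebra (MvPolynomial S R) S :=
    (MvPolynomial.aeval (R := R) (id : S → S)).toRingHom.toAlgebra
  have : IsScalarTower R (MvPolynomial S R) S :=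
    IsScalarTower.of_algebraMap_eq (fun r => ((MvPolynomial.aeval (R := R) id).commutes r).symm)
  have hs : Function.Surjective (algebraMap (MvPolynomial S R) S) := fun s =>
    ⟨MvPolynomial.X s, by
      change MvPolynomial.aeval (R := R) (id : S → S) (MvPolynomial.X s) = s
      simp⟩
  have hsurj : Function.Surjective (kerCotangentToTensor R (MvPolynomial S R) S) := by
    intro x
    exact (exact_kerCotangentToTensor_mapBaseChange R (MvPolynomial S R) S hs x).mp
      (Subsingleton.elim _ _)
  choose n hn using fun i : S =>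
    hsurj ((1 : S) ⊗ₜ D R (MvPolynomial S R) (MvPolynomial.X i))
  let τ : Ω[MvPolynomial S R⁄R] →ₗ[MvPolynomial S R]
      (RingHom.ker (algebraMap (MvPolynomial S R) S)).Cotangent :=
    (mvPolynomialBasis R S).constr (MvPolynomial S R) n
  have hτ : ∀ ω, kerCotangentToTensor R (MvPolynomial S R) S (τ ω) = (1 : S) ⊗ₜ ω := by
    intro ω
    have : (kerCotangentToTensor R (MvPolynomial S R) S) ∘ₗ τ =
        TensorProduct.mk (MvPolynomial S R) S _ 1 :=
      (mvPolynomialBasis R S).ext (fun i => by
        rw [LinearMap.comp_apply, Module.Basis.constr_basis, hn, TensorProduct.mk_apply,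
          mvPolynomialBasis_apply])
    exact congrArg (fun f => f ω) this
  exact ⟨_, inferInstance, inferInstance, thickProj τ, isUnivThickeningRing_thickProj τ hτ hs⟩

end Groth.Agent.H47
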