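import Mathlib
import Groth.Agent.H47.UnivThick

/-!
# Split exactness of `0 → I/I² → J/J² → C ⊗_B Ω_{B/A} → 0`
for `A → B → C` with `A → C` surjective and `B` formally smooth over `A`.
-/

set_option autoImplicit false
universe u

namespace Groth.Agent.H47

open KaehlerDifferential TensorProduct

theorem cotangent_seq_splitExact (A : Type u) [CommRing A]
    (B : Type u) [CommRing B] [Algebra A B] [Algebra.FormallySmooth A B] (C : Type u) [CommRing C]
    [Algebra B C] [Algebra A C] [IsScalarTower A B C] (hC : Function.Surjective (algebraMap A C)) :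
    Function.Injective (Ideal.mapCotangent (RingHom.ker (algebraMap A C))
        (RingHom.ker (algebraMap B C)) (Algebra.ofId A B)
        (le_of_eq (congrArg RingHom.ker (IsScalarTower.algebraMap_eq A B C)))) ∧
      (∃ r : (RingHom.ker (algebraMap B C)).Cotangent →ₗ[A] (RingHom.ker (algebraMap A C)).Cotangent,
        r ∘ₗ (Ideal.mapCotangent (RingHom.ker (algebraMap A C)) (RingHom.ker (algebraMap B C))
          (Algebra.ofId A B)
          (le_of_eq (congrArg RingHom.ker (IsScalarTower.algebraMap_eq A B C)))) = LinearMap.id) ∧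
      LinearMap.range (Ideal.mapCotangent (RingHom.ker (algebraMap A C))
          (RingHom.ker (algebraMap B C)) (Algebra.ofId A B)
          (le_of_eq (congrArg RingHom.ker (IsScalarTower.algebraMap_eq A B C)))) =
        LinearMap.ker ((KaehlerDifferential.kerCotangentToTensor A B C).restrictScalars A) ∧
      Function.Surjective (KaehlerDifferential.kerCotangentToTensor A B C) := by
  set I : Ideal A := RingHom.ker (algebraMap A C) with hI
  set J : Ideal B := RingHom.ker (algebraMap B C) with hJ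
  have hIJ : I ≤ J.comap (Algebra.ofId A B) :=
    le_of_eq (congrArg RingHom.ker (IsScalarTower.algebraMap_eq A B C))
  set ι : I.Cotangent →ₗ[A] J.Cotangent := Ideal.mapCotangent I J (Algebra.ofId A B) hIJ with hι
  have hιapp : ∀ (a : A) (ha : a ∈ I), ι (I.toCotangent ⟨a, ha⟩) =
      J.toCotangent ⟨algebraMap A B a, hIJ ha⟩ := fun a ha => rfl
  have hBC : Function.Surjective (algebraMap B C) := fun c => by
    obtain ⟨a, rfl⟩ := hC c
    exact ⟨algebraMap A B a, (IsScalarTower.algebraMap_apply A B C a).symm⟩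
  -- the lift `φ : B → A/I²`
  let g : A ⧸ I ^ 2 →ₐ[A] C := Ideal.Quotient.liftₐ (I ^ 2) (Algebra.ofId A C) (fun a ha =>
    (Ideal.pow_le_self two_ne_zero ha : a ∈ I))
  have hg : Function.Surjective g := fun c => by
    obtain ⟨a, rfl⟩ := hC c
    exact ⟨Ideal.Quotient.mk _ a, rfl⟩
  have hkerg : RingHom.ker (g : A ⧸ I ^ 2 →+* C) = I.cotangentIdeal := by
    ext x
    obtain ⟨a, rfl⟩ := Ideal.Quotient.mk_surjective x
    rw [Ideal.mk_mem_cotangentIdeal]
    rfl
  have hnil : IsNilpotent (RingHom.ker (g : A ⧸ I ^ 2 →+* C)) := by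
    refine ⟨2, ?_⟩
    rw [hkerg, Ideal.cotangentIdeal_square]
    rfl
  let φ : B →ₐ[A] A ⧸ I ^ 2 :=
    Algebra.FormallySmooth.liftOfSurjective (IsScalarTower.toAlgHom A B C) g hg hnil
  have hφ : ∀ b, g (φ b) = algebraMap B C b := fun b =>
    Algebra.FormallySmooth.liftOfSurjective_apply _ _ hg hnil b
  have hφJ : ∀ b ∈ J, φ b ∈ I.cotangentIdeal := fun b hb => by
    rw [← hkerg, RingHom.mem_ker]
    exact (hφ b).trans hb
  -- the retraction
  let r₀ : J →ₗ[A] I.cotangentIdeal :=
    { toFun := fun b => ⟨φ b.1, hφJ b.1 b.2⟩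
      map_add' := fun x y => Subtype.ext (map_add φ x.1 y.1)
      map_smul' := fun a x => Subtype.ext (by
        change φ (a • x.1) = a • φ x.1
        exact map_smul φ a x.1) }
  have hII : ∀ x ∈ I.cotangentIdeal, ∀ y ∈ I.cotangentIdeal, x * y = 0 := fun x hx y hy => by
    have := Ideal.mul_mem_mul hx hy
    rwa [← pow_two, I.cotangentIdeal_square, Ideal.mem_bot] at this
  let r : J.Cotangent →ₗ[A] I.Cotangent :=
    Ideal.Cotangent.lift (I.cotangentEquivIdeal.symm.toLinearMap ∘ₗ r₀) (fun x y => by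
      have : r₀ (x * y) = 0 := Subtype.ext (by
        change φ (x.1 * y.1) = 0
        rw [map_mul]
        exact hII _ (hφJ _ x.2) _ (hφJ _ y.2))
      rw [LinearMap.comp_apply, this, map_zero])
  have hr : ∀ (b : B) (hb : b ∈ J),
      (I.cotangentEquivIdeal (r (J.toCotangent ⟨b, hb⟩)) : A ⧸ I ^ 2) = φ b := by
    intro b hb
    change ((I.cotangentEquivIdeal (I.cotangentEquivIdeal.symm (r₀ ⟨b, hb⟩))) : A ⧸ I ^ 2) = φ b
    rw [LinearEquiv.apply_symm_apply]
    rfl
  have hrι : r ∘ₗ ι = LinearMap.id := by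
    refine LinearMap.ext fun x => ?_
    obtain ⟨⟨a, ha⟩, rfl⟩ := I.toCotangent_surjective x
    apply I.cotangentEquivIdeal.injective
    apply Subtype.ext
    rw [LinearMap.comp_apply, hιapp, hr, LinearMap.id_apply, Ideal.cotangentEquivIdeal_apply,
      Ideal.toCotangent_to_quotient_square, φ.commutes]
    rfl
  have hιinj : Function.Injective ι := fun x y h => by
    have := congrArg r h
    rwa [← LinearMap.comp_apply, ← LinearMap.comp_apply, hrι] at this
  -- surjectivity of `d`
  have hdsurj : Function.Surjective (kerCotangentToTensor A B C) := by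
    haveI : Subsingleton Ω[C⁄A] := KaehlerDifferential.subsingleton_of_surjective A C hC
    intro x
    exact (exact_kerCotangentToTensor_mapBaseChange A B C hBC x).mp (Subsingleton.elim _ _)
  refine ⟨hιinj, ⟨r, hrι⟩, ?_, hdsurj⟩
  -- exactness in the middle
  apply le_antisymm
  · rintro _ ⟨x, rfl⟩
    obtain ⟨⟨a, ha⟩, rfl⟩ := I.toCotangent_surjective x
    rw [LinearMap.mem_ker, hιapp]
    change kerCotangentToTensor A B C (J.toCotangent ⟨algebraMap A B a, hIJ ha⟩) = 0
    rw [kerCotangentToTensor_toCotangent, Derivation.map_algebraMap, tmul_zero]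
  · intro x hx
    obtain ⟨⟨b, hb⟩, rfl⟩ := J.toCotangent_surjective x
    rw [LinearMap.mem_ker] at hx
    change kerCotangentToTensor A B C (J.toCotangent ⟨b, hb⟩) = 0 at hx
    rw [kerCotangentToTensor_toCotangent] at hx
    have hDb := mem_smul_top_of_one_tmul_eq_zero hBC _ hx
    -- the two maps `B → B/J²`
    have h2 : I ^ 2 ≤ (J ^ 2).comap (Algebra.ofId A B) :=
      (Ideal.pow_right_mono hIJ 2).trans (Ideal.le_comap_pow _ 2)
    let ιb : A ⧸ I ^ 2 →ₐ[A] B ⧸ J ^ 2 := Ideal.quotientMapₐ (J ^ 2) (Algebra.ofId A B) h2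
    let ψ₂ : B →ₐ[A] B ⧸ J ^ 2 := ιb.comp φ
    let χ : B ⧸ J ^ 2 →ₐ[A] C := Ideal.Quotient.liftₐ (J ^ 2) (IsScalarTower.toAlgHom A B C)
      (fun b hb => (Ideal.pow_le_self two_ne_zero hb : b ∈ J))
    have hkerχ : ∀ y : B ⧸ J ^ 2, χ y = 0 → y ∈ J.cotangentIdeal := by
      intro y hy
      obtain ⟨b, rfl⟩ := Ideal.Quotient.mk_surjective y
      rw [Ideal.mk_mem_cotangentIdeal]
      exact hy
    have hχψ : ∀ b, χ (ψ₂ b) = algebraMap B C b := by
      intro b
      obtain ⟨a, ha⟩ := Ideal.Quotient.mk_surjective (φ b)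
      change χ (ιb (φ b)) = _
      rw [← hφ b, ← ha]
      change algebraMap B C (algebraMap A B a) = algebraMap A C a
      exact (IsScalarTower.algebraMap_apply A B C a).symm
    have e : (Ideal.Quotient.mkₐ A J.cotangentIdeal).comp ψ₂ =
        IsScalarTower.toAlgHom A B ((B ⧸ J ^ 2) ⧸ J.cotangentIdeal) := by
      refine AlgHom.ext fun b => ?_
      change Ideal.Quotient.mk _ (ψ₂ b) = Ideal.Quotient.mk _ (Ideal.Quotient.mk _ b)
      rw [Ideal.Quotient.mk_eq_mk_iff_sub_mem]
      apply hkerχ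
      rw [map_sub, hχψ]
      exact sub_self _
    let δ : Derivation A B J.cotangentIdeal :=
      derivationToSquareZeroOfLift J.cotangentIdeal J.cotangentIdeal_square ψ₂ e
    have hδ : ∀ b, ((δ b : J.cotangentIdeal) : B ⧸ J ^ 2) = ψ₂ b - Ideal.Quotient.mk _ b :=
      fun b => rfl
    have hJJ : ∀ x ∈ J.cotangentIdeal, ∀ y ∈ J.cotangentIdeal, x * y = 0 := fun x hx y hy => by
      have := Ideal.mul_mem_mul hx hy
      rwa [← pow_two, J.cotangentIdeal_square, Ideal.mem_bot] at this
    have hδJ : ∀ ω ∈ (J • ⊤ : Submodule B Ω[B⁄A]), δ.liftKaehlerDifferential ω = 0 := by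
      intro ω hω
      refine Submodule.smul_induction_on hω (fun j hj n _ => ?_) (fun x y hx hy => ?_)
      · rw [map_smul]
        apply Subtype.ext
        change j • ((δ.liftKaehlerDifferential n : J.cotangentIdeal) : B ⧸ J ^ 2) = 0
        rw [Algebra.smul_def]
        exact hJJ _ (Ideal.mk_mem_cotangentIdeal.mpr hj) _ (δ.liftKaehlerDifferential n).2
      · rw [map_add, hx, hy, add_zero]
    have hδb : ψ₂ b = Ideal.Quotient.mk _ b := by
      have := hδJ _ hDb
      rw [Derivation.liftKaehlerDifferential_comp_D] at this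
      have h3 := congrArg (fun z : J.cotangentIdeal => (z : B ⧸ J ^ 2)) this
      change ((δ b : J.cotangentIdeal) : B ⧸ J ^ 2) = 0 at h3
      rwa [hδ, sub_eq_zero] at h3
    -- conclude
    refine ⟨r (J.toCotangent ⟨b, hb⟩), ?_⟩
    obtain ⟨⟨a, ha⟩, hra⟩ := I.toCotangent_surjective (r (J.toCotangent ⟨b, hb⟩))
    have hφa : φ b = Ideal.Quotient.mk _ a := by
      rw [← hr b hb, ← hra, Ideal.cotangentEquivIdeal_apply, Ideal.toCotangent_to_quotient_square]
      rfl
    rw [← hra, hιapp]
    apply J.cotangentToQuotientSquare_injective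
    rw [Ideal.toCotangent_to_quotient_square, Ideal.toCotangent_to_quotient_square]
    change Ideal.Quotient.mk (J ^ 2) (algebraMap A B a) = Ideal.Quotient.mk (J ^ 2) b
    rw [← hδb]
    change _ = ιb (φ b)
    rw [hφa]
    rfl

end Groth.Agent.H47
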