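import Mathlib
import Groth.Prelude.Def_EGA41
import Groth.Prelude.Def_CAlgX
import Groth.Agent.H47.AdicLift
import Groth.Agent.H23.AdicSmooth
import Groth.Agent.H89.ComplFinite
import Groth.Agent.H44.AdicLemmas

/-!
# Extending derivations along an adically formally smooth map (S9258)

`A → B` local, `B` complete Noetherian local, adically formally smooth.  A derivation `D` of `A`
extends to `B`: lift `id : B → B = B[ε]/(ε)` to `B → B[ε]` where `B[ε]` carries the `A`-algebra
structure `a ↦ a + ε D a`.
-/

set_option autoImplicit false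
set_option linter.style.haveILetI false
universe u

namespace Groth.Agent.H47.DerivExt

open IsLocalRing TrivSqZeroExt

section Dual

variable (B : Type u) [CommRing B]

instance isLocalRing_tsze [IsLocalRing B] : IsLocalRing (TrivSqZeroExt B B) := by
  haveI : Nontrivial (TrivSqZeroExt B B) := ⟨⟨0, 1, fun h => by
    have := congrArg TrivSqZeroExt.fst h
    simp at this⟩⟩
  refine IsLocalRing.of_nonunits_add ?_
  intro x y hx hy
  rw [mem_nonunits_iff, isUnit_iff_isUnit_fst] at hx hy ⊢
  rw [fst_add]
  exact IsLocalRing.nonunits_add hx hy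

theorem mem_maximalIdeal_tsze [IsLocalRing B] (x : TrivSqZeroExt B B) :
    x ∈ maximalIdeal (TrivSqZeroExt B B) ↔ x.fst ∈ maximalIdeal B := by
  rw [mem_maximalIdeal, mem_maximalIdeal, mem_nonunits_iff, mem_nonunits_iff,
    isUnit_iff_isUnit_fst]

instance finite_tsze : Module.Finite B (TrivSqZeroExt B B) :=
  inferInstanceAs (Module.Finite B (B × B))

instance isNoetherianRing_tsze [IsNoetherianRing B] : IsNoetherianRing (TrivSqZeroExt B B) :=
  IsNoetherianRing.of_finite B _

theorem mul_eq (x y : TrivSqZeroExt B B) :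
    x * y = inl x.fst * y + inl y.fst * inr x.snd := by
  ext
  · simp
  · simp [add_comm]

instance isAdicComplete_tsze [IsLocalRing B] [IsNoetherianRing B]
    [IsAdicComplete (maximalIdeal B) B] :
    IsAdicComplete (maximalIdeal (TrivSqZeroExt B B)) (TrivSqZeroExt B B) := by
  haveI h1 : IsAdicComplete (maximalIdeal B) (TrivSqZeroExt B B) :=
    Groth.Agent.H89.isAdicComplete_of_finite_noeth _ _
  haveI h2 : IsAdicComplete ((maximalIdeal B).map (algebraMap B (TrivSqZeroExt B B)))
      (TrivSqZeroExt B B) :=
    (IsAdicComplete.map_algebraMap_iff (S := TrivSqZeroExt B B) _ _).mpr h1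
  have hinl : ∀ b ∈ maximalIdeal B,
      (inl b : TrivSqZeroExt B B) ∈ (maximalIdeal B).map (algebraMap B (TrivSqZeroExt B B)) :=
    fun b hb => Ideal.mem_map_of_mem _ hb
  refine Groth.Agent.H44.isAdicComplete_of_pow_le
    ((maximalIdeal B).map (algebraMap B (TrivSqZeroExt B B))) _ ?_ 2 ?_
  · rw [Ideal.map_le_iff_le_comap]
    intro b hb
    rw [Ideal.mem_comap, mem_maximalIdeal_tsze]
    exact hb
  · rw [pow_two, Ideal.mul_le]
    intro x hx y hy
    rw [mem_maximalIdeal_tsze] at hx hy
    rw [mul_eq]
    exact Ideal.add_mem _ (Ideal.mul_mem_right _ _ (hinl _ hx)) (Ideal.mul_mem_right _ _ (hinl _ hy))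

end Dual

section Twist

variable {A : Type u} [CommRing A] (B : Type u) [CommRing B] [Algebra A B] (D : Derivation ℤ A A)

/-- The twisted structure map `a ↦ a + ε D a`. -/
def thetaAux : A →+* TrivSqZeroExt B B where
  toFun a := inl (algebraMap A B a) + inr (algebraMap A B (D a))
  map_one' := by
    rw [map_one, Derivation.map_one_eq_zero, map_zero, inr_zero, add_zero, inl_one]
  map_mul' a b := by
    rw [Derivation.leibniz]
    ext
    · simp only [fst_add, fst_inl, fst_inr, fst_mul, add_zero, map_mul]
    · simp only [snd_add, snd_inl, snd_inr, snd_mul, fst_add, fst_inl, fst_inr, add_zero, zero_add,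
        map_add, map_mul, smul_eq_mul, MulOpposite.smul_eq_mul_unop,
        MulOpposite.unop_op]
      ring
  map_zero' := by
    rw [map_zero, map_zero, map_zero, inr_zero, add_zero, inl_zero]
  map_add' a b := by
    rw [map_add, map_add, map_add, inl_add, inr_add]
    abel

/-- `B[ε]` with the `A`-algebra structure twisted by `D`. -/
def Tw (_D : Derivation ℤ A A) : Type u := TrivSqZeroExt B B

instance : CommRing (Tw B D) := inferInstanceAs (CommRing (TrivSqZeroExt B B))

/-- The twisted structure map, into `Tw`. -/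
def theta : A →+* Tw B D := thetaAux B D

instance : Algebra A (Tw B D) := (theta B D).toAlgebra

theorem algebraMap_tw (a : A) :
    (algebraMap A (Tw B D) a : TrivSqZeroExt B B)
      = inl (algebraMap A B a) + inr (algebraMap A B (D a)) := rfl

instance [IsLocalRing B] : IsLocalRing (Tw B D) := isLocalRing_tsze B

instance [IsNoetherianRing B] : IsNoetherianRing (Tw B D) := isNoetherianRing_tsze B

instance [IsLocalRing B] [IsNoetherianRing B] [IsAdicComplete (maximalIdeal B) B] :
    IsAdicComplete (maximalIdeal (Tw B D)) (Tw B D) := isAdicComplete_tsze B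

end Twist

section Main

/-- **S9258**: derivations extend along an adically formally smooth local map to a complete
Noetherian local ring. -/
theorem exists_derivation_extension (A B : Type u) [CommRing A] [CommRing B]
    [IsLocalRing A] [IsLocalRing B] [IsNoetherianRing A] [IsNoetherianRing B]
    [Algebra A B] [IsLocalHom (algebraMap A B)] [IsAdicComplete (maximalIdeal B) B]
    (hfs : CAlgX.IsAdicFormallySmooth A B (maximalIdeal B)) (D : Derivation ℤ A A) :
    ∃ D' : Derivation ℤ B B, ∀ a : A, D' (algebraMap A B a) = algebraMap A B (D a) := by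
  have hB : EGA41.IsFormallySmoothAdic A ⊥ B (maximalIdeal B) := fun C _ _ J hJ _ u hu =>
    Groth.Agent.H23.adicSmooth_nilpotent_of_sqZero _ hfs C J hJ u hu
  let π : Tw B D →+* B := (TrivSqZeroExt.fstHom B B B).toRingHom
  let ι : B →+* Tw B D := TrivSqZeroExt.inlHom B B
  have hπι : ∀ b, π (ι b) = b := fun b => TrivSqZeroExt.fst_inl B b
  have hπalg : ∀ a : A, π (algebraMap A (Tw B D) a) = algebraMap A B a := by
    intro a
    change TrivSqZeroExt.fst (inl (algebraMap A B a) + inr (algebraMap A B (D a))
      : TrivSqZeroExt B B) = _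
    rw [fst_add, fst_inl, fst_inr, add_zero]
  let J : Ideal (Tw B D) := RingHom.ker π
  have hJ' : J ≠ ⊤ := RingHom.ker_ne_top π
  let u : B →ₐ[A] Tw B D ⧸ J :=
    { toRingHom := (Ideal.Quotient.mk J).comp ι
      commutes' := fun a => by
        change Ideal.Quotient.mk J (ι (algebraMap A B a))
          = Ideal.Quotient.mk J (algebraMap A (Tw B D) a)
        rw [Ideal.Quotient.eq, RingHom.mem_ker, map_sub, hπι, hπalg, sub_self] }
  have hu : (maximalIdeal B).map u.toRingHom ≤ (maximalIdeal (Tw B D)).map (Ideal.Quotient.mk J) := by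
    rw [Ideal.map_le_iff_le_comap]
    intro b hb
    refine Ideal.mem_comap.2 ?_
    exact Ideal.mem_map_of_mem (Ideal.Quotient.mk J)
      ((mem_maximalIdeal_tsze B (inl b)).2 (by rw [fst_inl]; exact hb))
  have hA : (⊥ : Ideal A).map (algebraMap A (Tw B D)) ≤ maximalIdeal (Tw B D) := by
    rw [Ideal.map_bot]; exact bot_le
  obtain ⟨v, -, hv⟩ := AdicLift.exists_lift hB hA hJ' hu
  have hfst : ∀ b, π (v b) = b := by
    intro b
    have h1 : Ideal.Quotient.mk J (v b) = Ideal.Quotient.mk J (ι b) :=
      congrArg (fun g : B →ₐ[A] Tw B D ⧸ J => g b) hv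
    rw [Ideal.Quotient.eq, RingHom.mem_ker, map_sub, hπι, sub_eq_zero] at h1
    exact h1
  let sn : Tw B D → B := fun x => TrivSqZeroExt.snd (x : TrivSqZeroExt B B)
  have hsn_add : ∀ x y : Tw B D, sn (x + y) = sn x + sn y := fun x y => TrivSqZeroExt.snd_add _ _
  have key : ∀ x y : TrivSqZeroExt B B, (x * y).snd = x.fst * y.snd + y.fst * x.snd := by
    intro x y
    rw [snd_mul, smul_eq_mul, MulOpposite.smul_eq_mul_unop, MulOpposite.unop_op, mul_comm x.snd]
  have hsn_mul : ∀ x y : Tw B D, sn (x * y) = π x * sn y + π y * sn x := fun x y => key x y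
  let D₀ : B →+ B :=
    { toFun := fun b => sn (v b)
      map_zero' := by rw [map_zero]; rfl
      map_add' := fun x y => by rw [map_add, hsn_add] }
  let D' : Derivation ℤ B B := Derivation.mk' D₀.toIntLinearMap (fun a b => by
    change sn (v (a * b)) = a • sn (v b) + b • sn (v a)
    rw [map_mul, hsn_mul, hfst, hfst, smul_eq_mul, smul_eq_mul])
  refine ⟨D', fun a => ?_⟩
  change sn (v (algebraMap A B a)) = _
  rw [v.commutes]
  change TrivSqZeroExt.snd (inl (algebraMap A B a) + inr (algebraMap A B (D a))
      : TrivSqZeroExt B B) = _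
  rw [snd_add, snd_inl, snd_inr, zero_add]

end Main

end Groth.Agent.H47.DerivExt
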