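import Mathlib
import Groth.Agent.H14.DiffOpUniq

/-!
# Differential operators and formally unramified base change: uniqueness
-/

set_option autoImplicit false
set_option linter.unusedSectionVars false
universe u
open TensorProduct Diff16

namespace Groth.Agent.H47.DiffEtale

variable (R S S' : Type u) [CommRing R] [CommRing S] [CommRing S'] [Algebra R S] [Algebra R S']
  [Algebra S S'] [IsScalarTower R S S']

/-- the differentials of `S'/R` are generated by the `d s`, `s ∈ S`, when `S'/S` is formally
unramified. -/
theorem span_D_algebraMap_eq_top [Algebra.FormallyUnramified S S'] :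
    Submodule.span S' (Set.range (fun s : S => KaehlerDifferential.D R S' (algebraMap S S' s))) = ⊤ := by
  have hmap : ∀ w : Ω[S⁄R], KaehlerDifferential.map R R S S' w ∈
      Submodule.span S' (Set.range (fun s : S => KaehlerDifferential.D R S' (algebraMap S S' s))) := by
    intro w
    have hw : w ∈ Submodule.span S (Set.range (KaehlerDifferential.D R S)) := by
      rw [KaehlerDifferential.span_range_derivation]; trivial
    induction hw using Submodule.span_induction with
    | mem w hw =>
      obtain ⟨s, rfl⟩ := hw
      rw [KaehlerDifferential.map_D]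
      exact Submodule.subset_span ⟨s, rfl⟩
    | zero => simp
    | add w₁ w₂ _ _ h₁ h₂ => rw [map_add]; exact add_mem h₁ h₂
    | smul s w _ h =>
      rw [LinearMap.map_smul_of_tower]
      rw [← algebraMap_smul S' s]
      exact Submodule.smul_mem _ _ h
  have key : ∀ y : S' ⊗[S] Ω[S⁄R], KaehlerDifferential.mapBaseChange R S S' y ∈
      Submodule.span S' (Set.range (fun s : S => KaehlerDifferential.D R S' (algebraMap S S' s))) := by
    intro y
    induction y using TensorProduct.induction_on with
    | zero => simp
    | add y z hy hz => rw [map_add]; exact add_mem hy hz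
    | tmul b w =>
      rw [KaehlerDifferential.mapBaseChange_tmul]
      exact Submodule.smul_mem _ _ (hmap w)
  rw [eq_top_iff]
  intro x _
  have hx : x ∈ LinearMap.range (KaehlerDifferential.mapBaseChange R S S') := by
    rw [KaehlerDifferential.range_mapBaseChange, LinearMap.mem_ker]
    exact Subsingleton.elim _ _
  obtain ⟨y, rfl⟩ := hx
  exact key y

variable (M : Type u) [AddCommGroup M] [Module S M] [Module R M] [IsScalarTower R S M]
variable (N' : Type u) [AddCommGroup N'] [Module S' N'] [Module R N'] [IsScalarTower R S' N']

/-- a differential operator on `S' ⊗[S] M` (relative to `R → S'`) vanishing on the `1 ⊗ m`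
is zero, when `S'/S` is formally unramified. -/
theorem eq_zero_of_isDiffOpLE [Algebra.FormallyUnramified S S'] (j : ℕ) :
    ∀ (E : S' ⊗[S] M →ₗ[R] N'), IsDiffOpLE R S' (S' ⊗[S] M) N' j E →
      (∀ m : M, E ((1 : S') ⊗ₜ[S] m) = 0) → E = 0 := by
  have base : ∀ (E : S' ⊗[S] M →ₗ[R] N'), IsDiffOpLE R S' (S' ⊗[S] M) N' 0 E →
      (∀ m : M, E ((1 : S') ⊗ₜ[S] m) = 0) → E = 0 := by
    intro E hE h0
    ext x
    induction x using TensorProduct.induction_on with
    | zero => simp
    | add y z hy hz => rw [map_add, hy, hz]; simp
    | tmul a m =>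
      have : a ⊗ₜ[S] m = a • ((1 : S') ⊗ₜ[S] m) := by rw [TensorProduct.smul_tmul', smul_eq_mul, mul_one]
      rw [this, hE a, h0, smul_zero]; rfl
  induction j with
  | zero => exact base
  | succ j ih =>
    intro E hE h0
    have hc : ∀ s : S, Diff16.commutator R S' (S' ⊗[S] M) N' E (algebraMap S S' s) = 0 := by
      intro s
      refine ih _ (hE _) (fun m => ?_)
      rw [Groth.Agent.H14.commutator_apply, h0, smul_zero, sub_zero]
      have : (algebraMap S S' s) • ((1 : S') ⊗ₜ[S] m) = (1 : S') ⊗ₜ[S] (s • m) := by
        rw [TensorProduct.smul_tmul', smul_eq_mul, mul_one, ← TensorProduct.smul_tmul,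
          Algebra.smul_def, mul_one]
      rw [this, h0]
    exact base E (Groth.Agent.H14.isDiffOpLE_zero_of_comm_gen R S' (S' ⊗[S] M) N'
      (fun s : S => algebraMap S S' s) (span_D_algebraMap_eq_top R S S') j E hE hc) h0

end Groth.Agent.H47.DiffEtale
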