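import Mathlib
import Groth.Agent.H47.DiffEtaleUniq

/-!
# Differential operators extend along formally étale maps (S9465)
-/

set_option autoImplicit false
set_option linter.unusedSectionVars false
set_option linter.style.haveILetI false
universe u
open TensorProduct Diff16

namespace Groth.Agent.H47.DiffEtale

section Phi

variable (R S S' : Type u) [CommRing R] [CommRing S] [CommRing S'] [Algebra R S] [Algebra R S']
  [Algebra S S'] [IsScalarTower R S S']
variable (M N : Type u) [AddCommGroup M] [Module S M] [Module R M] [IsScalarTower R S M]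
  [AddCommGroup N] [Module S N] [Module R N] [IsScalarTower R S N]

/-- the pairing `(s ⊗ a, m) ↦ a ⊗ D (s • m)`. -/
noncomputable def Phi (D : M →ₗ[R] N) : S ⊗[R] S' →ₗ[R] M →ₗ[R] S' ⊗[S] N :=
  TensorProduct.lift
    (LinearMap.mk₂ R (fun (s : S) (a : S') =>
        ((TensorProduct.mk S S' N a).restrictScalars R) ∘ₗ D ∘ₗ
          ((LinearMap.lsmul S M s).restrictScalars R))
      (fun s₁ s₂ a => by ext m; simp [TensorProduct.tmul_add])
      (fun r s a => by ext m; simp)
      (fun s a₁ a₂ => by ext m; simp)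
      (fun r s a => by ext m; simp [TensorProduct.smul_tmul']))

@[simp]
theorem Phi_tmul (D : M →ₗ[R] N) (s : S) (a : S') (m : M) :
    Phi R S S' M N D (s ⊗ₜ[R] a) m = a ⊗ₜ[S] D (s • m) := rfl

end Phi


section Abstract

variable (R S S' : Type u) [CommRing R] [CommRing S] [CommRing S'] [Algebra R S] [Algebra R S']
  [Algebra S S'] [IsScalarTower R S S']
variable (M P : Type u) [AddCommGroup M] [Module S M] [Module R M] [IsScalarTower R S M]
  [AddCommGroup P] [Module S' P] [Module R P] [IsScalarTower R S' P]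
variable (Q : Type u) [CommRing Q] [Algebra R Q] [Algebra S Q] [IsScalarTower R S Q]
variable (Ψ : Q →ₗ[R] M →ₗ[R] P) (ℓ : S' →+* Q) (δ : S' →ₐ[S] Q)

/-- the `R`-bilinear map `(a, m) ↦ Ψ (q * δ a) m`. -/
noncomputable def gq (q : Q) : S' →ₗ[R] M →ₗ[R] P :=
  Ψ ∘ₗ (LinearMap.mulLeft R q) ∘ₗ (δ.restrictScalars R).toLinearMap

theorem gq_apply (q : Q) (a : S') (m : M) : gq R S S' M P Q Ψ δ q a m = Ψ (q * δ a) m := rfl

variable (h1 : ∀ (q : Q) (s : S) (m : M), Ψ (q * algebraMap S Q s) m = Ψ q (s • m))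

include h1 in
theorem gq_balanced (q : Q) (s : S) (a : S') (m : M) :
    gq R S S' M P Q Ψ δ q (s • a) m = gq R S S' M P Q Ψ δ q a (s • m) := by
  rw [gq_apply, gq_apply, ← h1, map_smul, Algebra.smul_def]
  congr 2
  ring

/-- the operator `D'_q : a ⊗ m ↦ Ψ (q * δ a) m`. -/
noncomputable def Dq (q : Q) : S' ⊗[S] M →ₗ[R] P where
  toFun := TensorProduct.liftAddHom
    ((LinearMap.toAddMonoidHom').comp (gq R S S' M P Q Ψ δ q).toAddMonoidHom)
    (fun s a m => gq_balanced R S S' M P Q Ψ δ h1 q s a m)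
  map_add' := map_add _
  map_smul' := fun r x => by
    induction x using TensorProduct.induction_on with
    | zero => simp
    | add y z hy hz => rw [smul_add, map_add, hy, hz, map_add, smul_add]
    | tmul a m =>
      rw [TensorProduct.smul_tmul', TensorProduct.liftAddHom_tmul, TensorProduct.liftAddHom_tmul]
      show gq R S S' M P Q Ψ δ q (r • a) m = r • gq R S S' M P Q Ψ δ q a m
      rw [map_smul]; rfl

theorem Dq_tmul (q : Q) (a : S') (m : M) :
    Dq R S S' M P Q Ψ δ h1 q (a ⊗ₜ[S] m) = Ψ (q * δ a) m := rfl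

theorem Dq_eq_zero (q : Q) (hq : q = 0) : Dq R S S' M P Q Ψ δ h1 q = 0 := by
  subst hq
  ext x
  induction x using TensorProduct.induction_on with
  | zero => simp
  | add y z hy hz => rw [map_add, hy, hz]; simp
  | tmul a m => rw [Dq_tmul, zero_mul, map_zero]; rfl

variable (h2 : ∀ (b : S') (q : Q) (m : M), Ψ (ℓ b * q) m = b • Ψ q m)

include h2 in
theorem commutator_Dq (q : Q) (t : S') :
    Diff16.commutator R S' (S' ⊗[S] M) P (Dq R S S' M P Q Ψ δ h1 q) t =
      Dq R S S' M P Q Ψ δ h1 (q * (δ t - ℓ t)) := by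
  ext x
  induction x using TensorProduct.induction_on with
  | zero => simp
  | add y z hy hz => rw [map_add, hy, hz, map_add]
  | tmul a m =>
    rw [Groth.Agent.H14.commutator_apply, TensorProduct.smul_tmul', Dq_tmul, Dq_tmul, Dq_tmul,
      ← h2, smul_eq_mul, map_mul δ t a, ← LinearMap.sub_apply, ← map_sub]
    congr 2
    ring

variable (K : Ideal Q) (hK : ∀ t : S', δ t - ℓ t ∈ K) (k : ℕ) (hKk : K ^ (k + 1) = ⊥)

include h2 hK hKk in
theorem isDiffOpLE_Dq : ∀ (j i : ℕ) (q : Q), i + j = k → q ∈ K ^ i →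
    IsDiffOpLE R S' (S' ⊗[S] M) P j (Dq R S S' M P Q Ψ δ h1 q) := by
  intro j
  induction j with
  | zero =>
    intro i q hi hq t x
    have hmem : q * (δ t - ℓ t) ∈ K ^ (k + 1) := by
      rw [add_zero] at hi
      subst hi
      rw [pow_succ]
      exact Ideal.mul_mem_mul hq (hK t)
    rw [hKk] at hmem
    have hc := commutator_Dq R S S' M P Q Ψ ℓ δ h1 h2 q t
    rw [Dq_eq_zero R S S' M P Q Ψ δ h1 _ hmem] at hc
    have := LinearMap.congr_fun hc x
    rw [Groth.Agent.H14.commutator_apply] at this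
    exact sub_eq_zero.mp this
  | succ j ih =>
    intro i q hi hq t
    rw [commutator_Dq R S S' M P Q Ψ ℓ δ h1 h2 q t]
    refine ih (i + 1) _ (by omega) ?_
    rw [pow_succ]
    exact Ideal.mul_mem_mul hq (hK t)

end Abstract


section QuotLift

variable (R W M P : Type u) [CommRing R] [CommRing W] [Algebra R W]
  [AddCommGroup M] [Module R M] [AddCommGroup P] [Module R P] (I : Ideal W)
  (f : W →ₗ[R] M →ₗ[R] P) (h : ∀ w ∈ I, f w = 0)

include h in
theorem le_ker_of_forall : I.restrictScalars R ≤ LinearMap.ker f := by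
  intro w hw
  rw [LinearMap.mem_ker]
  exact h w hw

/-- descend an `R`-bilinear pairing to the quotient by an ideal on which it vanishes. -/
noncomputable def quotLift : (W ⧸ I) →ₗ[R] M →ₗ[R] P :=
  (Submodule.liftQ (I.restrictScalars R) f (le_ker_of_forall R W M P I f h)) ∘ₗ
    (Submodule.Quotient.restrictScalarsEquiv R I).symm.toLinearMap

theorem quotLift_mk (w : W) : quotLift R W M P I f h (Ideal.Quotient.mk I w) = f w := by
  have : (Ideal.Quotient.mk I w : W ⧸ I) = Submodule.Quotient.mk (p := I) w := rfl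
  rw [quotLift, LinearMap.comp_apply, this]
  erw [Submodule.Quotient.restrictScalarsEquiv_symm_mk]
  rw [Submodule.liftQ_apply]

end QuotLift

section Concrete

variable (R S S' : Type u) [CommRing R] [CommRing S] [CommRing S'] [Algebra R S] [Algebra R S']
  [Algebra S S'] [IsScalarTower R S S']
variable (M N : Type u) [AddCommGroup M] [Module S M] [Module R M] [IsScalarTower R S M]
  [AddCommGroup N] [Module S N] [Module R N] [IsScalarTower R S N]

/-- multiplication `S ⊗[R] S' → S'`, `s ⊗ a ↦ s • a`. -/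
noncomputable def mul' : S ⊗[R] S' →ₐ[S] S' :=
  Algebra.TensorProduct.lift (Algebra.ofId S S') (AlgHom.id R S') (fun _ _ => Commute.all _ _)

theorem mul'_tmul (s : S) (a : S') : mul' R S S' (s ⊗ₜ[R] a) = algebraMap S S' s * a := by
  simp [mul', Algebra.ofId_apply]

/-- the generators `s ⊗ 1 - 1 ⊗ s` of the kernel of `mul'`. -/
noncomputable def gen (s : S) : S ⊗[R] S' := s ⊗ₜ[R] 1 - 1 ⊗ₜ[R] algebraMap S S' s

/-- the kernel of `mul'`. -/
noncomputable def J : Ideal (S ⊗[R] S') := RingHom.ker (mul' R S S')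

theorem gen_mem_J (s : S) : gen R S S' s ∈ J R S S' := by
  rw [J, RingHom.mem_ker, gen, map_sub, mul'_tmul, mul'_tmul]
  simp

theorem sub_mem_span (w : S ⊗[R] S') :
    w - 1 ⊗ₜ[R] (mul' R S S' w) ∈ Ideal.span (Set.range (gen R S S')) := by
  induction w using TensorProduct.induction_on with
  | zero => simp
  | add x y hx hy =>
    have : x + y - 1 ⊗ₜ[R] (mul' R S S' (x + y)) =
        (x - 1 ⊗ₜ[R] (mul' R S S' x)) + (y - 1 ⊗ₜ[R] (mul' R S S' y)) := by
      rw [map_add, TensorProduct.tmul_add]; abel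
    rw [this]
    exact add_mem hx hy
  | tmul s a =>
    have : s ⊗ₜ[R] a - 1 ⊗ₜ[R] (mul' R S S' (s ⊗ₜ[R] a)) = gen R S S' s * (1 ⊗ₜ[R] a) := by
      rw [mul'_tmul, gen, sub_mul, Algebra.TensorProduct.tmul_mul_tmul,
        Algebra.TensorProduct.tmul_mul_tmul, mul_one, one_mul, one_mul]
    rw [this]
    exact Ideal.mul_mem_right _ _ (Ideal.subset_span ⟨s, rfl⟩)

theorem J_eq_span : J R S S' = Ideal.span (Set.range (gen R S S')) := by
  apply le_antisymm
  · intro w hw
    have h := sub_mem_span R S S' w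
    rw [J, RingHom.mem_ker] at hw
    rw [hw, TensorProduct.tmul_zero, sub_zero] at h
    exact h
  · rw [Ideal.span_le]
    rintro _ ⟨s, rfl⟩
    exact gen_mem_J R S S' s

theorem Phi_zero : Phi R S S' M N 0 = 0 := by
  apply TensorProduct.ext'
  intro s a
  ext m
  simp

theorem Phi_mul_left (D : M →ₗ[R] N) (s : S) (w : S ⊗[R] S') (m : M) :
    Phi R S S' M N D (w * (s ⊗ₜ[R] 1)) m = Phi R S S' M N D w (s • m) := by
  induction w using TensorProduct.induction_on with
  | zero => simp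
  | add x y hx hy => rw [add_mul, map_add, LinearMap.add_apply, hx, hy, map_add, LinearMap.add_apply]
  | tmul s₁ a =>
    rw [Algebra.TensorProduct.tmul_mul_tmul, Phi_tmul, Phi_tmul, mul_one, mul_smul]

theorem Phi_mul_right (D : M →ₗ[R] N) (b : S') (w : S ⊗[R] S') (m : M) :
    Phi R S S' M N D ((1 ⊗ₜ[R] b) * w) m = b • Phi R S S' M N D w m := by
  induction w using TensorProduct.induction_on with
  | zero => simp
  | add x y hx hy =>
    rw [mul_add, map_add, LinearMap.add_apply, hx, hy, map_add, LinearMap.add_apply, smul_add]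
  | tmul s₁ a =>
    rw [Algebra.TensorProduct.tmul_mul_tmul, Phi_tmul, Phi_tmul, one_mul, TensorProduct.smul_tmul',
      smul_eq_mul]

theorem Phi_gen_mul (D : M →ₗ[R] N) (s : S) (w : S ⊗[R] S') :
    Phi R S S' M N D (gen R S S' s * w) = Phi R S S' M N (Diff16.commutator R S M N D s) w := by
  induction w using TensorProduct.induction_on with
  | zero => simp
  | add x y hx hy => rw [mul_add, map_add, hx, hy, map_add]
  | tmul s₁ a =>
    ext m
    rw [gen, sub_mul, Algebra.TensorProduct.tmul_mul_tmul, Algebra.TensorProduct.tmul_mul_tmul,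
      map_sub, LinearMap.sub_apply, Phi_tmul, Phi_tmul, Phi_tmul, one_mul, one_mul,
      Groth.Agent.H14.commutator_apply, TensorProduct.tmul_sub, mul_smul, ← Algebra.smul_def,
      TensorProduct.smul_tmul]

theorem Phi_eq_zero_of_mem_mul (D : M →ₗ[R] N) (I' : Ideal (S ⊗[R] S'))
    (hI' : ∀ s : S, ∀ b ∈ I', Phi R S S' M N (Diff16.commutator R S M N D s) b = 0) :
    ∀ a ∈ J R S S', ∀ b ∈ I', Phi R S S' M N D (a * b) = 0 := by
  intro a ha
  rw [J_eq_span] at ha
  induction ha using Submodule.span_induction with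
  | mem a ha =>
    obtain ⟨s, rfl⟩ := ha
    intro b hb
    rw [Phi_gen_mul, hI' s b hb]
  | zero => intro b _; rw [zero_mul, map_zero]
  | add a₁ a₂ _ _ h₁ h₂ => intro b hb; rw [add_mul, map_add, h₁ b hb, h₂ b hb, add_zero]
  | smul c a _ h =>
    intro b hb
    have : c • a * b = a * (c * b) := by rw [smul_eq_mul]; ring
    rw [this]
    exact h _ (Ideal.mul_mem_left _ _ hb)

theorem Phi_eq_zero_of_mem : ∀ (j : ℕ) (D : M →ₗ[R] N), IsDiffOpLE R S M N j D →
    ∀ w ∈ J R S S' ^ (j + 1), Phi R S S' M N D w = 0 := by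
  intro j
  induction j with
  | zero =>
    intro D hD w hw
    rw [zero_add, pow_one] at hw
    have hc : ∀ s : S, Diff16.commutator R S M N D s = 0 := by
      intro s
      ext m
      rw [Groth.Agent.H14.commutator_apply, hD s m, sub_self]; rfl
    have := Phi_eq_zero_of_mem_mul R S S' M N D ⊤ (fun s b _ => by rw [hc, Phi_zero]; rfl) w hw 1
      Submodule.mem_top
    rwa [mul_one] at this
  | succ j ih =>
    intro D hD w hw
    rw [pow_succ'] at hw
    refine Submodule.mul_induction_on hw (fun a ha b hb => ?_) (fun x y hx hy => ?_)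
    · exact Phi_eq_zero_of_mem_mul R S S' M N D _ (fun s b hb => ih _ (hD s) b hb) a ha b hb
    · rw [map_add, hx, hy, add_zero]


variable (k : ℕ)

/-- the `k`-th infinitesimal neighbourhood of the graph. -/
abbrev Qk : Type u := (S ⊗[R] S') ⧸ (J R S S' ^ (k + 1))

theorem mul'_eq_zero_of_mem (a : S ⊗[R] S') (ha : a ∈ J R S S' ^ (k + 1)) : mul' R S S' a = 0 :=
  (RingHom.mem_ker).mp (Ideal.pow_le_self (Nat.succ_ne_zero k) ha)

/-- the augmentation `Qk → S'`. -/
noncomputable def aug : Qk R S S' k →ₐ[S] S' :=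
  Ideal.Quotient.liftₐ (J R S S' ^ (k + 1)) (mul' R S S') (mul'_eq_zero_of_mem R S S' k)

theorem aug_mk (w : S ⊗[R] S') :
    aug R S S' k (Ideal.Quotient.mk (J R S S' ^ (k + 1)) w) = mul' R S S' w := rfl

/-- the image of `J` in `Qk`. -/
noncomputable def Kk : Ideal (Qk R S S' k) :=
  (J R S S').map (Ideal.Quotient.mk (J R S S' ^ (k + 1)))

theorem Kk_pow : Kk R S S' k ^ (k + 1) = ⊥ := by
  rw [Kk, ← Ideal.map_pow, Ideal.map_quotient_self]

theorem ker_aug_le : RingHom.ker (aug R S S' k : Qk R S S' k →+* S') ≤ Kk R S S' k := by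
  intro x hx
  obtain ⟨w, rfl⟩ := Ideal.Quotient.mk_surjective x
  rw [RingHom.mem_ker] at hx
  have hw : w ∈ J R S S' := by
    rw [J, RingHom.mem_ker]
    exact hx
  exact Ideal.mem_map_of_mem _ hw

theorem aug_surjective : Function.Surjective (aug R S S' k) := by
  intro a
  refine ⟨Ideal.Quotient.mk _ (1 ⊗ₜ[R] a), ?_⟩
  rw [aug_mk, mul'_tmul, map_one, one_mul]

theorem isNilpotent_ker_aug : IsNilpotent (RingHom.ker (aug R S S' k : Qk R S S' k →+* S')) := by
  refine ⟨k + 1, ?_⟩
  rw [Ideal.zero_eq_bot, eq_bot_iff, ← Kk_pow R S S' k]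
  exact Ideal.pow_right_mono (ker_aug_le R S S' k) _

/-- the second inclusion `S' → Qk`. -/
noncomputable def ell : S' →+* Qk R S S' k :=
  (Ideal.Quotient.mk (J R S S' ^ (k + 1))).comp
    (Algebra.TensorProduct.includeRight : S' →ₐ[R] S ⊗[R] S').toRingHom

theorem ell_apply (a : S') : ell R S S' k a = Ideal.Quotient.mk _ (1 ⊗ₜ[R] a) := rfl

theorem aug_ell (a : S') : aug R S S' k (ell R S S' k a) = a := by
  rw [ell_apply, aug_mk, mul'_tmul, map_one, one_mul]

/-- the pairing on `Qk` induced by `Phi` when `D` has order at most `k`. -/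
noncomputable def PhiBar (D : M →ₗ[R] N) (hD : IsDiffOpLE R S M N k D) :
    Qk R S S' k →ₗ[R] M →ₗ[R] S' ⊗[S] N :=
  quotLift R (S ⊗[R] S') M (S' ⊗[S] N) (J R S S' ^ (k + 1)) (Phi R S S' M N D)
    (Phi_eq_zero_of_mem R S S' M N k D hD)

theorem PhiBar_mk (D : M →ₗ[R] N) (hD : IsDiffOpLE R S M N k D) (w : S ⊗[R] S') :
    PhiBar R S S' M N k D hD (Ideal.Quotient.mk _ w) = Phi R S S' M N D w :=
  quotLift_mk R (S ⊗[R] S') M (S' ⊗[S] N) (J R S S' ^ (k + 1)) (Phi R S S' M N D)
    (Phi_eq_zero_of_mem R S S' M N k D hD) w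

variable [Algebra.FormallyEtale S S']

/-- the section `S' → Qk` given by formal smoothness. -/
noncomputable def delta : S' →ₐ[S] Qk R S S' k :=
  Algebra.FormallySmooth.liftOfSurjective (AlgHom.id S S') (aug R S S' k)
    (aug_surjective R S S' k) (isNilpotent_ker_aug R S S' k)

theorem aug_delta (a : S') : aug R S S' k (delta R S S' k a) = a :=
  Algebra.FormallySmooth.liftOfSurjective_apply _ _ _ _ a

theorem delta_sub_ell_mem (t : S') : delta R S S' k t - ell R S S' k t ∈ Kk R S S' k := by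
  apply ker_aug_le
  rw [RingHom.mem_ker]
  show aug R S S' k (delta R S S' k t - ell R S S' k t) = 0
  rw [map_sub, aug_delta, aug_ell, sub_self]

/-- existence of the extension. -/
theorem exists_extension (D : M →ₗ[R] N) (hD : IsDiffOpLE R S M N k D) :
    ∃ D' : S' ⊗[S] M →ₗ[R] S' ⊗[S] N,
      IsDiffOpLE R S' (S' ⊗[S] M) (S' ⊗[S] N) k D' ∧
        ∀ m : M, D' ((1 : S') ⊗ₜ[S] m) = (1 : S') ⊗ₜ[S] D m := by
  have h1 : ∀ (q : Qk R S S' k) (s : S) (m : M),
      PhiBar R S S' M N k D hD (q * algebraMap S (Qk R S S' k) s) m =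
        PhiBar R S S' M N k D hD q (s • m) := by
    intro q s m
    obtain ⟨w, rfl⟩ := Ideal.Quotient.mk_surjective q
    have : Ideal.Quotient.mk (J R S S' ^ (k + 1)) w * algebraMap S (Qk R S S' k) s =
        Ideal.Quotient.mk _ (w * (s ⊗ₜ[R] 1)) := by rw [map_mul]; rfl
    rw [this, PhiBar_mk, PhiBar_mk]
    exact Phi_mul_left R S S' M N D s w m
  have h2 : ∀ (b : S') (q : Qk R S S' k) (m : M),
      PhiBar R S S' M N k D hD (ell R S S' k b * q) m = b • PhiBar R S S' M N k D hD q m := by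
    intro b q m
    obtain ⟨w, rfl⟩ := Ideal.Quotient.mk_surjective q
    rw [ell_apply, ← map_mul, PhiBar_mk, PhiBar_mk]
    exact Phi_mul_right R S S' M N D b w m
  refine ⟨Dq R S S' M (S' ⊗[S] N) (Qk R S S' k) (PhiBar R S S' M N k D hD) (delta R S S' k) h1 1,
    ?_, ?_⟩
  · refine isDiffOpLE_Dq R S S' M (S' ⊗[S] N) (Qk R S S' k) (PhiBar R S S' M N k D hD)
      (ell R S S' k) (delta R S S' k) h1 h2 (Kk R S S' k) (delta_sub_ell_mem R S S' k) k
      (Kk_pow R S S' k) k 0 1 (zero_add k) ?_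
    rw [pow_zero, Ideal.one_eq_top]; exact Submodule.mem_top
  · intro m
    rw [Dq_tmul, map_one, mul_one]
    have : (1 : Qk R S S' k) = Ideal.Quotient.mk _ (1 ⊗ₜ[R] 1) := by
      rw [← Algebra.TensorProduct.one_def, map_one]
    rw [this, PhiBar_mk, Phi_tmul, one_smul]


/-- S9465: a differential operator of order `≤ k` extends uniquely along a formally étale map. -/
theorem existsUnique_extension (D : M →ₗ[R] N) (hD : IsDiffOpLE R S M N k D) :
    ∃! D' : S' ⊗[S] M →ₗ[R] S' ⊗[S] N,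
      IsDiffOpLE R S' (S' ⊗[S] M) (S' ⊗[S] N) k D' ∧
        D' ∘ₗ (TensorProduct.mk S S' M 1).restrictScalars R =
          (TensorProduct.mk S S' N 1).restrictScalars R ∘ₗ D := by
  obtain ⟨D', hD', hext⟩ := exists_extension R S S' M N k D hD
  refine ⟨D', ⟨hD', ?_⟩, ?_⟩
  · ext m
    exact hext m
  · rintro D'' ⟨hD'', hext''⟩
    have hext2 : ∀ m : M, D'' ((1 : S') ⊗ₜ[S] m) = (1 : S') ⊗ₜ[S] D m := fun m =>
      LinearMap.congr_fun hext'' m
    have h2 := Groth.Agent.H14.isDiffOpLE_sub R S' (S' ⊗[S] M) (S' ⊗[S] N) hD'' hD'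
    have h3 := eq_zero_of_isDiffOpLE R S S' M (S' ⊗[S] N) k _ h2 (fun m => by
      rw [LinearMap.sub_apply, hext2 m, hext m, sub_self])
    exact sub_eq_zero.mp h3

end Concrete

end Groth.Agent.H47.DiffEtale
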