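import Mathlib
import Groth.Agent.H47.DiffEtaleUniq

/-!
# Principal parts and formally étale base change (S9472)
-/

set_option autoImplicit false
set_option linter.unusedSectionVars false
set_option linter.style.haveILetI false
universe u
open TensorProduct Diff16

namespace Groth.Agent.H47.DiffEtale

variable (R S S' : Type u) [CommRing R] [CommRing S] [CommRing S'] [Algebra R S] [Algebra R S']
  [Algebra S S'] [IsScalarTower R S S']
variable (M : Type u) [AddCommGroup M] [Module S M] [Module R M] [IsScalarTower R S M]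
variable (N' : Type u) [AddCommGroup N'] [Module S' N'] [Module R N'] [IsScalarTower R S' N']
  [Module S N'] [IsScalarTower S S' N'] [IsScalarTower R S N']

/-- restriction of a differential operator on `S' ⊗[S] M` to `M`. -/
theorem isDiffOpLE_restrict (k : ℕ) :
    ∀ (E : S' ⊗[S] M →ₗ[R] N'), IsDiffOpLE R S' (S' ⊗[S] M) N' k E →
      IsDiffOpLE R S M N' k (E ∘ₗ (TensorProduct.mk S S' M 1).restrictScalars R) := by
  have hsm : ∀ (s : S) (m : M), (algebraMap S S' s) • ((1 : S') ⊗ₜ[S] m) = (1 : S') ⊗ₜ[S] (s • m) := by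
    intro s m
    rw [TensorProduct.smul_tmul', smul_eq_mul, mul_one, ← TensorProduct.smul_tmul,
      Algebra.smul_def, mul_one]
  induction k with
  | zero =>
    intro E hE s m
    show E ((1 : S') ⊗ₜ[S] (s • m)) = s • E ((1 : S') ⊗ₜ[S] m)
    rw [← hsm, hE, algebraMap_smul]
  | succ k ih =>
    intro E hE s
    have : Diff16.commutator R S M N' (E ∘ₗ (TensorProduct.mk S S' M 1).restrictScalars R) s =
        (Diff16.commutator R S' (S' ⊗[S] M) N' E (algebraMap S S' s)) ∘ₗ
          (TensorProduct.mk S S' M 1).restrictScalars R := by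
      ext m
      rw [Groth.Agent.H14.commutator_apply]
      show E ((1 : S') ⊗ₜ[S] (s • m)) - s • E ((1 : S') ⊗ₜ[S] m) = _
      rw [LinearMap.comp_apply, Groth.Agent.H14.commutator_apply]
      show _ = E ((algebraMap S S' s) • ((1 : S') ⊗ₜ[S] m)) - (algebraMap S S' s) • E ((1 : S') ⊗ₜ[S] m)
      rw [hsm, algebraMap_smul]
    rw [this]
    exact ih _ (hE _)

end Groth.Agent.H47.DiffEtale

namespace Groth.Agent.H47.DiffEtale

/-- S9472. -/
theorem universal_baseChange (R S S' : Type u) [CommRing R]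
    [CommRing S] [CommRing S'] [Algebra R S] [Algebra R S'] [Algebra S S'] [IsScalarTower R S S']
    [Algebra.FormallyEtale S S'] (M : Type u) [AddCommGroup M] [Module S M] [Module R M]
    [IsScalarTower R S M] (k : ℕ) (P : Type u) [AddCommGroup P] [Module S P] [Module R P]
    [IsScalarTower R S P] (Du : M →ₗ[R] P) (hDu : Diff16.IsDiffOpLE R S M P k Du)
    (huniv : ∀ (N : Type u) [AddCommGroup N] [Module S N] [Module R N] [IsScalarTower R S N]
      (D : M →ₗ[R] N), Diff16.IsDiffOpLE R S M N k D → ∃! α : P →ₗ[S] N, α.restrictScalars R ∘ₗ Du = D)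
    (Du' : S' ⊗[S] M →ₗ[R] S' ⊗[S] P) (hDu' : Diff16.IsDiffOpLE R S' (S' ⊗[S] M) (S' ⊗[S] P) k Du')
    (hext : Du' ∘ₗ (TensorProduct.mk S S' M 1).restrictScalars R =
      (TensorProduct.mk S S' P 1).restrictScalars R ∘ₗ Du) :
    ∀ (N' : Type u) [AddCommGroup N'] [Module S' N'] [Module R N'] [IsScalarTower R S' N']
      (D' : S' ⊗[S] M →ₗ[R] N'), Diff16.IsDiffOpLE R S' (S' ⊗[S] M) N' k D' →
        ∃! α : S' ⊗[S] P →ₗ[S'] N', α.restrictScalars R ∘ₗ Du' = D' := by
  intro N' _ _ _ _ D' hD'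
  letI : Module S N' := Module.compHom N' (algebraMap S S')
  haveI : IsScalarTower S S' N' := IsScalarTower.of_algebraMap_smul fun r x => rfl
  haveI : IsScalarTower R S N' := IsScalarTower.of_algebraMap_smul fun r x => by
    show (algebraMap S S' (algebraMap R S r)) • x = r • x
    rw [← IsScalarTower.algebraMap_apply R S S', algebraMap_smul]
  have hext' : ∀ m : M, Du' ((1 : S') ⊗ₜ[S] m) = (1 : S') ⊗ₜ[S] Du m := fun m =>
    LinearMap.congr_fun hext m
  obtain ⟨α, hα, hαuniq⟩ := huniv N' (D' ∘ₗ (TensorProduct.mk S S' M 1).restrictScalars R)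
    (isDiffOpLE_restrict R S S' M N' k D' hD')
  have hα' : ∀ m : M, α (Du m) = D' ((1 : S') ⊗ₜ[S] m) := fun m => LinearMap.congr_fun hα m
  have hbc : IsBaseChange S' (TensorProduct.mk S S' P 1) := TensorProduct.isBaseChange S P S'
  refine ⟨hbc.lift α, ?_, ?_⟩
  · -- the difference is a differential operator vanishing on `1 ⊗ m`
    have h0 : IsDiffOpLE R S' (S' ⊗[S] P) N' 0 ((hbc.lift α).restrictScalars R) := by
      intro b x
      exact (hbc.lift α).map_smul b x
    have h1 : IsDiffOpLE R S' (S' ⊗[S] M) N' k ((hbc.lift α).restrictScalars R ∘ₗ Du') := by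
      have := Groth.Agent.H14.isDiffOpLE_comp R S' (S' ⊗[S] M) (S' ⊗[S] P) N' hDu' h0
      rwa [add_zero] at this
    have h2 := Groth.Agent.H14.isDiffOpLE_sub R S' (S' ⊗[S] M) N' h1 hD'
    have h3 := eq_zero_of_isDiffOpLE R S S' M N' k _ h2 (fun m => by
      rw [LinearMap.sub_apply, LinearMap.comp_apply, hext' m]
      show hbc.lift α ((1 : S') ⊗ₜ[S] Du m) - _ = 0
      have : hbc.lift α ((1 : S') ⊗ₜ[S] Du m) = α (Du m) := hbc.lift_eq α (Du m)
      rw [this, hα', sub_self])
    exact sub_eq_zero.mp h3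
  · intro β hβ
    have hβ' : ∀ x, β (Du' x) = D' x := fun x => LinearMap.congr_fun hβ x
    let β₀ : P →ₗ[S] N' := (β.restrictScalars S) ∘ₗ (TensorProduct.mk S S' P 1)
    have hβ₀ : β₀ = α := by
      apply hαuniq
      ext m
      show β ((1 : S') ⊗ₜ[S] Du m) = D' ((1 : S') ⊗ₜ[S] m)
      rw [← hext' m, hβ']
    apply hbc.algHom_ext
    intro p
    have : hbc.lift α ((1 : S') ⊗ₜ[S] p) = α p := hbc.lift_eq α p
    show β ((1 : S') ⊗ₜ[S] p) = hbc.lift α ((1 : S') ⊗ₜ[S] p)
    rw [this, ← hβ₀]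
    rfl

end Groth.Agent.H47.DiffEtale
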