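import Mathlib.RingTheory.Etale.Basic
import Mathlib.Order.Directed

set_option autoImplicit false
universe u v w

namespace Groth.Agent.H47

section

variable {ι : Type u} [Preorder ι] [IsDirected ι (· ≤ ·)] [Nonempty ι]
  (R : Type v) [CommRing R] (G : ι → Type w) [∀ i, CommRing (G i)] [∀ i, Algebra R (G i)]
  (f : ∀ i j, i ≤ j → (G i →ₐ[R] G j)) (S : Type w) [CommRing S] [Algebra R S]
  (g : ∀ i, G i →ₐ[R] S) (hg : ∀ i j (h : i ≤ j), (g j).comp (f i j h) = g i)
  (hsurj : ∀ s : S, ∃ i, ∃ x : G i, g i x = s)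

omit [Nonempty ι] in
include hg hsurj in
theorem exists_common_index (s t : S) : ∃ k, ∃ x y : G k, g k x = s ∧ g k y = t := by
  obtain ⟨i, x, rfl⟩ := hsurj s
  obtain ⟨j, y, rfl⟩ := hsurj t
  obtain ⟨k, hik, hjk⟩ := exists_ge_ge i j
  refine ⟨k, f i k hik x, f j k hjk y, ?_, ?_⟩
  · exact DFunLike.congr_fun (hg i k hik) x
  · exact DFunLike.congr_fun (hg j k hjk) y

include hg hsurj in
/-- Universal property of a directed colimit presented by jointly surjective maps. -/
theorem exists_algHom_of_compatible {B : Type*} [CommRing B] [Algebra R B]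
    (ψ : ∀ i, G i →ₐ[R] B)
    (hψ : ∀ i j (x : G i) (y : G j), g i x = g j y → ψ i x = ψ j y) :
    ∃ Ψ : S →ₐ[R] B, ∀ i, Ψ.comp (g i) = ψ i := by
  classical
  choose idx rep hrep using hsurj
  let F : S → B := fun s => ψ (idx s) (rep s)
  have hF : ∀ i (x : G i), F (g i x) = ψ i x := by
    intro i x
    exact hψ _ _ _ _ (hrep (g i x))
  have hsurj' : ∀ s : S, ∃ i, ∃ x : G i, g i x = s := fun s => ⟨idx s, rep s, hrep s⟩
  obtain ⟨i₀⟩ := ‹Nonempty ι›
  refine ⟨{ toFun := F
            map_one' := ?_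
            map_mul' := ?_
            map_zero' := ?_
            map_add' := ?_
            commutes' := ?_ }, ?_⟩
  · rw [← map_one (g i₀), hF, map_one]
  · intro s t
    obtain ⟨k, x, y, rfl, rfl⟩ := exists_common_index R G f S g hg hsurj' s t
    rw [← map_mul, hF, hF, hF, map_mul]
  · rw [← map_zero (g i₀), hF, map_zero]
  · intro s t
    obtain ⟨k, x, y, rfl, rfl⟩ := exists_common_index R G f S g hg hsurj' s t
    change F (g k x + g k y) = F (g k x) + F (g k y)
    rw [← map_add, hF, hF, hF, map_add]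
  · intro r
    change F (algebraMap R S r) = algebraMap R B r
    rw [← (g i₀).commutes r, hF, (ψ i₀).commutes]
  · intro i
    ext x
    exact hF i x

end

end Groth.Agent.H47
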