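import Mathlib
import Groth.Prelude.Def_EGA4b
import Groth.Agent.H14.DimFormula4
import Groth.Agent.H54.Catenary
import Groth.Agent.H52.StalkDim

set_option autoImplicit false
set_option linter.unusedSectionVars false
set_option linter.style.haveILetI false
set_option linter.unusedVariables false
universe u

namespace Groth.Agent.H47.ED

open IsLocalRing Algebra

section Local

variable {R S : Type u} [CommRing R] [CommRing S] [Algebra R S] [IsNoetherianRing R]

/-- Étale maps preserve the dimension of local rings. -/
theorem ringKrullDim_localization_eq_of_etale [Algebra.Etale R S]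
    (p : Ideal R) (q : Ideal S) [p.IsPrime] [q.IsPrime] [q.LiesOver p] :
    ringKrullDim (Localization.AtPrime q) = ringKrullDim (Localization.AtPrime p) := by
  let Rp := Localization.AtPrime p
  let Sq := Localization.AtPrime q
  letI := Localization.AtPrime.algebraOfLiesOver p q
  haveI : IsNoetherianRing S := Algebra.FiniteType.isNoetherianRing R S
  haveI : IsNoetherianRing Sq := inferInstance
  haveI : IsNoetherianRing Rp := inferInstance
  have : Algebra.FormallyUnramified R Sq := .comp R S Sq
  have : Algebra.FormallyUnramified Rp Sq := .of_restrictScalars R Rp Sq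
  have : Algebra.EssFiniteType S Sq := .of_isLocalization Sq q.primeCompl
  have : Algebra.EssFiniteType R Sq := .comp R S Sq
  have : Algebra.EssFiniteType Rp Sq := .of_comp R Rp Sq
  haveI : IsLocalHom (algebraMap Rp Sq) := inferInstance
  haveI : Module.Flat Rp Sq := by
    have hf : (algebraMap R S).Flat := RingHom.flat_algebraMap_iff.2 inferInstance
    have := RingHom.Flat.localRingHom hf q p (Ideal.LiesOver.over (P := q) (p := p))
    exact this
  refine le_antisymm ?_ (Groth.Agent.H52.ringKrullDim_le_of_flat_of_isLocalHom Rp Sq)
  have h1 := Groth.Agent.H14.DimFormula.ringKrullDim_le_add_fibre Rp Sq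
  have hfield : IsField (EGA4.FibRing Rp Sq) :=
    Algebra.FormallyUnramified.isField_quotient_map_maximalIdeal
  have h0 : ringKrullDim (EGA4.FibRing Rp Sq) = 0 := by
    letI := hfield.toField
    exact ringKrullDim_eq_zero_of_field _
  rw [h0, add_zero] at h1
  exact h1

end Local

section Global

variable (k : Type u) [Field k] (d : ℕ) (T : Type u) [CommRing T] [Algebra k T]
  [Algebra (MvPolynomial (Fin d) k) T] [IsScalarTower k (MvPolynomial (Fin d) k) T]
  [Algebra.Etale (MvPolynomial (Fin d) k) T]

/-- Maximal ideals of a finite type algebra over a field contract to maximal ideals. -/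
theorem isMaximal_under_of_finiteType (A B : Type u) [CommRing A] [CommRing B] [Algebra k A]
    [Algebra k B] [Algebra A B] [IsScalarTower k A B] [Algebra.FiniteType k B]
    (M : Ideal B) [hM : M.IsMaximal] : (M.under A).IsMaximal := by
  letI := Ideal.Quotient.field M
  haveI : Module.Finite k (B ⧸ M) := finite_of_finite_type_of_isJacobsonRing k (B ⧸ M)
  haveI : Algebra.IsIntegral k (B ⧸ M) := inferInstance
  haveI : (M.under A).IsPrime := Ideal.comap_isPrime _ M
  let j : (A ⧸ M.under A) →ₐ[k] (B ⧸ M) :=
    Ideal.quotientMapₐ M (IsScalarTower.toAlgHom k A B) le_rfl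
  have hj : Function.Injective j := by
    exact Ideal.quotientMap_injective' (H := le_rfl) le_rfl
  haveI : Algebra.IsIntegral k (A ⧸ M.under A) := Algebra.IsIntegral.of_injective j hj
  have hfield : IsField (A ⧸ M.under A) :=
    isField_of_isIntegral_of_isField' (Field.toIsField k)
  exact Ideal.Quotient.maximal_of_isField _ hfield

include k in
theorem ringKrullDim_atPrime_eq_of_etale_mvPolynomial (M : Ideal T) [M.IsMaximal] :
    ringKrullDim (Localization.AtPrime M) = d := by
  haveI : Algebra.FiniteType k T :=
    Algebra.FiniteType.trans (S := MvPolynomial (Fin d) k) inferInstance inferInstance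
  haveI hN : (M.under (MvPolynomial (Fin d) k)).IsMaximal :=
    isMaximal_under_of_finiteType k (MvPolynomial (Fin d) k) T M
  haveI : M.LiesOver (M.under (MvPolynomial (Fin d) k)) := ⟨rfl⟩
  rw [ringKrullDim_localization_eq_of_etale (M.under (MvPolynomial (Fin d) k)) M,
    IsLocalization.AtPrime.ringKrullDim_eq_height (M.under (MvPolynomial (Fin d) k)),
    Groth.Agent.H54.height_of_isMaximal_mvPolynomial]
  rfl

include k in
theorem ringKrullDim_eq_of_etale_mvPolynomial [Nontrivial T] : ringKrullDim T = d := by
  apply le_antisymm
  · rw [ringKrullDim_le_iff_isMaximal_height_le]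
    intro M hM
    have := ringKrullDim_atPrime_eq_of_etale_mvPolynomial k d T M
    rw [IsLocalization.AtPrime.ringKrullDim_eq_height M] at this
    exact this.le
  · obtain ⟨M, hM⟩ := Ideal.exists_maximal T
    have := ringKrullDim_atPrime_eq_of_etale_mvPolynomial k d T M
    rw [IsLocalization.AtPrime.ringKrullDim_eq_height M] at this
    rw [← this]
    exact Ideal.height_le_ringKrullDim_of_ne_top hM.ne_top

end Global

end Groth.Agent.H47.ED
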