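import Mathlib

set_option autoImplicit false
set_option linter.unusedSectionVars false
set_option linter.style.haveILetI false
set_option linter.unusedVariables false
universe u

namespace Groth.Agent.H47

open IsLocalRing Polynomial

/-- Let `R → S` be a local homomorphism of local rings with `S` the localization of an étale
`R`-algebra at a prime, inducing an isomorphism of residue fields. Then for some `t ∈ 𝔪_R` the maps
`R/t^n → S/t^n S` are bijective for all `n`. -/
theorem exists_bijective_quotientMap_of_etale (R : Type u) [CommRing R] [IsLocalRing R]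
    (T : Type u) [CommRing T] [Algebra R T]
    [Algebra.Etale R T] (q : Ideal T) [q.IsPrime] (S : Type u) [CommRing S] [IsLocalRing S]
    [Algebra T S] [IsLocalization.AtPrime S q] [Algebra R S] [IsScalarTower R T S]
    [IsLocalHom (algebraMap R S)]
    (hres : Function.Bijective (IsLocalRing.ResidueField.map (algebraMap R S))) :
    ∃ t ∈ IsLocalRing.maximalIdeal R, ∀ n : ℕ, 1 ≤ n →
      Function.Bijective (Ideal.quotientMap ((Ideal.span {t ^ n}).map (algebraMap R S))
        (algebraMap R S) Ideal.le_comap_map) := by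
  classical
  -- flatness
  haveI : Module.Flat T S := IsLocalization.flat S q.primeCompl
  haveI : Module.Flat R S := Module.Flat.trans R T S
  haveI : Module.FaithfullyFlat R S := Module.FaithfullyFlat.of_flat_of_isLocalHom
  -- standard étale neighbourhood
  haveI : Algebra.IsEtaleAt R q := inferInstance
  obtain ⟨f, hfq, hstd⟩ := Algebra.IsEtaleAt.exists_isStandardEtale (R := R) q
  let Tf := Localization.Away f
  let P : StandardEtalePresentation R Tf := hstd.nonempty_standardEtalePresentation.some
  have hfu : IsUnit (algebraMap T S f) := IsLocalization.map_units S (⟨f, hfq⟩ : q.primeCompl)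
  let φ₀ : Tf →+* S := IsLocalization.Away.lift f hfu
  have hφ₀ : ∀ a : T, φ₀ (algebraMap T Tf a) = algebraMap T S a := fun a =>
    IsLocalization.Away.lift_eq f hfu a
  let φ : Tf →ₐ[R] S :=
    { φ₀ with
      commutes' := fun r => by
        change φ₀ (algebraMap R Tf r) = algebraMap R S r
        rw [IsScalarTower.algebraMap_apply R T Tf, hφ₀, ← IsScalarTower.algebraMap_apply] }
  have hφ : ∀ a : T, φ (algebraMap T Tf a) = algebraMap T S a := hφ₀
  set ξ : S := φ P.x with hξ
  have haev : ∀ p : R[X], aeval ξ p = φ (aeval P.x p) := fun p =>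
    Polynomial.aeval_algHom_apply φ P.x p
  set G : S := aeval ξ P.g with hG
  have hGu : IsUnit G := by
    rw [hG, haev]
    exact P.hasMap.2.map φ
  -- every element is a fraction of polynomials in ξ
  have hfrac : ∀ y : S, ∃ p r : R[X], IsUnit (aeval ξ r) ∧ y * aeval ξ r = aeval ξ p := by
    intro y
    obtain ⟨a, s, rfl⟩ := IsLocalization.exists_mk'_eq q.primeCompl y
    obtain ⟨p₁, n, h₁⟩ := P.exists_mul_aeval_x_g_pow_eq_aeval_x (algebraMap T Tf a)
    obtain ⟨p₂, m, h₂⟩ := P.exists_mul_aeval_x_g_pow_eq_aeval_x (algebraMap T Tf (s : T))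
    have h₁' : algebraMap T S a * G ^ n = aeval ξ p₁ := by
      have := congrArg φ h₁
      rw [map_mul, map_pow, hφ, ← haev, ← haev] at this
      exact this
    have h₂' : algebraMap T S (s : T) * G ^ m = aeval ξ p₂ := by
      have := congrArg φ h₂
      rw [map_mul, map_pow, hφ, ← haev, ← haev] at this
      exact this
    have hsu : IsUnit (algebraMap T S (s : T)) := IsLocalization.map_units S s
    refine ⟨p₁ * P.g ^ m, p₂ * P.g ^ n, ?_, ?_⟩
    · rw [map_mul, map_pow, ← h₂', ← hG]
      exact (hsu.mul (hGu.pow m)).mul (hGu.pow n)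
    · rw [map_mul, map_pow, map_mul, map_pow, ← h₂', ← h₁', ← hG]
      have := IsLocalization.mk'_spec S a s
      calc IsLocalization.mk' S a s * (algebraMap T S (s : T) * G ^ m * G ^ n)
          = (IsLocalization.mk' S a s * algebraMap T S (s : T)) * G ^ m * G ^ n := by ring
        _ = algebraMap T S a * G ^ n * G ^ m := by rw [this]; ring
  -- the residue of ξ comes from `R`
  obtain ⟨a, ha⟩ : ∃ a : R, ξ - algebraMap R S a ∈ maximalIdeal S := by
    obtain ⟨abar, habar⟩ := hres.2 (IsLocalRing.residue S ξ)
    obtain ⟨a, rfl⟩ := IsLocalRing.residue_surjective abar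
    refine ⟨a, ?_⟩
    rw [← IsLocalRing.residue_eq_zero_iff, map_sub, ← habar, IsLocalRing.ResidueField.map_residue,
      sub_self]
  set F : R[X] := P.f with hF
  set c : R := F.eval a with hc
  set H : R[X] := (F - C c) /ₘ (X - C a) with hH
  have hroot : (F - C c).IsRoot a := by
    rw [Polynomial.IsRoot, eval_sub, eval_C, hc, sub_self]
  have hdiv : (X - C a) * H = F - C c := Polynomial.mul_divByMonic_eq_iff_isRoot.2 hroot
  have hFξ : aeval ξ F = 0 := by
    rw [haev, P.hasMap.1, map_zero]
  have hev : (ξ - algebraMap R S a) * aeval ξ H = - algebraMap R S c := by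
    have := congrArg (aeval ξ) hdiv
    rw [map_mul, map_sub, map_sub, aeval_X, aeval_C, aeval_C, hFξ, zero_sub] at this
    exact this
  -- H(ξ) is a unit
  have hHu : IsUnit (aeval ξ H) := by
    have hder : derivative F = H + (X - C a) * derivative H := by
      have := congrArg derivative hdiv
      rw [derivative_mul, derivative_sub, derivative_sub, derivative_X, derivative_C,
        derivative_C, sub_zero, sub_zero, one_mul] at this
      exact this.symm
    have hFu : IsUnit (aeval ξ (derivative F)) := by
      rw [haev]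
      exact P.hasMap.isUnit_derivative_f.map φ
    by_contra hnu
    have h1 : aeval ξ H ∈ maximalIdeal S := (IsLocalRing.mem_maximalIdeal _).2 hnu
    have h2 : aeval ξ (derivative F) ∈ maximalIdeal S := by
      rw [hder, map_add, map_mul, map_sub, aeval_X, aeval_C]
      exact Ideal.add_mem _ h1 (Ideal.mul_mem_right _ _ ha)
    exact (IsLocalRing.mem_maximalIdeal _).1 h2 hFu
  obtain ⟨hu, hhu⟩ := hHu
  have hξa : ξ - algebraMap R S a ∈ Ideal.span {algebraMap R S c} := by
    rw [Ideal.mem_span_singleton']
    refine ⟨-(↑hu⁻¹ : S), ?_⟩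
    have : (ξ - algebraMap R S a) = - algebraMap R S c * (↑hu⁻¹ : S) := by
      rw [← hev, ← hhu, mul_assoc, Units.mul_inv, mul_one]
    rw [this]
    ring
  have hcS : algebraMap R S c ∈ maximalIdeal S := by
    have : algebraMap R S c = -((ξ - algebraMap R S a) * aeval ξ H) := by rw [hev, neg_neg]
    rw [this]
    exact Ideal.neg_mem_iff _ |>.2 (Ideal.mul_mem_right _ _ ha)
  have hcm : c ∈ maximalIdeal R := by
    rw [IsLocalRing.mem_maximalIdeal, mem_nonunits_iff]
    intro hcu
    exact (IsLocalRing.mem_maximalIdeal _).1 hcS (hcu.map (algebraMap R S))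
  have hspan_le : Ideal.span {algebraMap R S c} ≤ maximalIdeal S := by
    rw [Ideal.span_le, Set.singleton_subset_iff]
    exact hcS
  -- polynomial congruence
  have hcong : ∀ p : R[X], aeval ξ p - algebraMap R S (p.eval a) ∈
      Ideal.span {algebraMap R S c} := by
    intro p
    have h1 : aeval ξ p = (p.map (algebraMap R S)).eval ξ := by
      rw [Polynomial.eval_map, Polynomial.aeval_def]
    have h2 : algebraMap R S (p.eval a) = (p.map (algebraMap R S)).eval (algebraMap R S a) := by
      rw [Polynomial.eval_map, Polynomial.eval₂_at_apply]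
    rw [h1, h2]
    obtain ⟨z, hz⟩ := Polynomial.sub_dvd_eval_sub ξ (algebraMap R S a) (p.map (algebraMap R S))
    rw [hz]
    exact Ideal.mul_mem_right _ _ hξa
  -- n = 1
  have hA : ∀ y : S, ∃ b : R, y - algebraMap R S b ∈ Ideal.span {algebraMap R S c} := by
    intro y
    obtain ⟨p, r, hru, hyr⟩ := hfrac y
    have hra : IsUnit (r.eval a) := by
      apply isUnit_of_map_unit (algebraMap R S)
      by_contra hnu
      have h1 : algebraMap R S (r.eval a) ∈ maximalIdeal S := (IsLocalRing.mem_maximalIdeal _).2 hnu
      have h2 : aeval ξ r ∈ maximalIdeal S := by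
        have := Ideal.add_mem _ (hspan_le (hcong r)) h1
        simpa using this
      exact (IsLocalRing.mem_maximalIdeal _).1 h2 hru
    obtain ⟨u, hu'⟩ := hra
    refine ⟨p.eval a * (↑u⁻¹ : R), ?_⟩
    -- y * alg(r a) ≡ alg (p a)
    have h3 : y * algebraMap R S (r.eval a) - algebraMap R S (p.eval a) ∈
        Ideal.span {algebraMap R S c} := by
      have e : y * algebraMap R S (r.eval a) - algebraMap R S (p.eval a) =
          (aeval ξ p - algebraMap R S (p.eval a)) -
            y * (aeval ξ r - algebraMap R S (r.eval a)) := by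
        rw [← hyr]; ring
      rw [e]
      exact Ideal.sub_mem _ (hcong p) (Ideal.mul_mem_left _ _ (hcong r))
    have e2 : y - algebraMap R S (p.eval a * (↑u⁻¹ : R)) =
        (y * algebraMap R S (r.eval a) - algebraMap R S (p.eval a)) *
          algebraMap R S (↑u⁻¹ : R) := by
      have hu1 : algebraMap R S (r.eval a) * algebraMap R S (↑u⁻¹ : R) = 1 := by
        rw [← map_mul, ← hu', Units.mul_inv, map_one]
      rw [map_mul, sub_mul, mul_assoc, hu1, mul_one]
    rw [e2]
    exact Ideal.mul_mem_right _ _ h3
  -- all n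
  have hB : ∀ n : ℕ, ∀ y : S, ∃ b : R, y - algebraMap R S b ∈
      Ideal.span {algebraMap R S c ^ n} := by
    intro n
    induction n with
    | zero =>
      intro y
      refine ⟨0, ?_⟩
      rw [pow_zero, Ideal.span_singleton_one]
      trivial
    | succ n ih =>
      intro y
      obtain ⟨b, hb⟩ := ih y
      rw [Ideal.mem_span_singleton'] at hb
      obtain ⟨z, hz⟩ := hb
      obtain ⟨b', hb'⟩ := hA z
      rw [Ideal.mem_span_singleton'] at hb'
      obtain ⟨z', hz'⟩ := hb'
      refine ⟨b + c ^ n * b', ?_⟩
      rw [Ideal.mem_span_singleton']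
      refine ⟨z', ?_⟩
      rw [map_add, map_mul, map_pow, pow_succ]
      have : y = z * algebraMap R S c ^ n + algebraMap R S b := by rw [hz]; ring
      have hz2 : z = z' * algebraMap R S c + algebraMap R S b' := by rw [hz']; ring
      rw [this, hz2]
      ring
  refine ⟨c, hcm, fun n _ => ⟨?_, ?_⟩⟩
  · apply Ideal.quotientMap_injective'
    rw [Ideal.comap_map_eq_self_of_faithfullyFlat]
  · intro ybar
    obtain ⟨y, rfl⟩ := Ideal.Quotient.mk_surjective ybar
    obtain ⟨b, hb⟩ := hB n y
    refine ⟨Ideal.Quotient.mk _ b, ?_⟩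
    rw [Ideal.quotientMap_mk, Ideal.Quotient.mk_eq_mk_iff_sub_mem, Ideal.map_span,
      Set.image_singleton, map_pow]
    have := Ideal.neg_mem_iff _ |>.2 hb
    simpa using this

end Groth.Agent.H47
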