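import Mathlib.RingTheory.LocalRing.ResidueField.Ideal
import Mathlib.RingTheory.Etale.Basic

set_option autoImplicit false
universe u

namespace Groth.Agent.H47

open TensorProduct

/-- A pair `(S, q)` over `(R, p)` with trivial residue field extension gives an `R`-algebra map
`S → κ(p)` with kernel `q`. -/
theorem exists_algHom_residueField_of_bijective (R : Type*) [CommRing R] (p : Ideal R) [p.IsPrime]
    (S : Type*) [CommRing S] [Algebra R S] (q : Ideal S) [q.IsPrime]
    (hq : p = q.comap (algebraMap R S))
    (hκ : Function.Bijective (Ideal.ResidueField.map p q (algebraMap R S) hq)) :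
    ∃ ρ : S →ₐ[R] p.ResidueField, RingHom.ker ρ = q := by
  let e : p.ResidueField ≃+* q.ResidueField := RingEquiv.ofBijective _ hκ
  let ρ₀ : S →+* p.ResidueField := e.symm.toRingHom.comp (algebraMap S q.ResidueField)
  have hρ₀ : ∀ r : R, ρ₀ (algebraMap R S r) = algebraMap R p.ResidueField r := by
    intro r
    show e.symm (algebraMap S q.ResidueField (algebraMap R S r)) = _
    rw [RingEquiv.symm_apply_eq]
    show _ = Ideal.ResidueField.map p q (algebraMap R S) hq (algebraMap R p.ResidueField r)
    rw [Ideal.ResidueField.map_algebraMap]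
  refine ⟨{ ρ₀ with commutes' := hρ₀ }, ?_⟩
  ext x
  rw [RingHom.mem_ker]
  show e.symm (algebraMap S q.ResidueField x) = 0 ↔ _
  rw [map_eq_zero_iff _ e.symm.injective, Ideal.algebraMap_residueField_eq_zero]

/-- The kernel of an `R`-algebra map `S → κ(p)` is a prime over `p` with trivial residue field
extension. -/
theorem ker_algHom_residueField (R : Type*) [CommRing R] (p : Ideal R) [p.IsPrime]
    (S : Type*) [CommRing S] [Algebra R S] (χ : S →ₐ[R] p.ResidueField) :
    ∃ (_ : (RingHom.ker χ).IsPrime) (hq : p = (RingHom.ker χ).comap (algebraMap R S)),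
      Function.Bijective (Ideal.ResidueField.map p (RingHom.ker χ) (algebraMap R S) hq) := by
  haveI hprime : (RingHom.ker χ).IsPrime := RingHom.ker_isPrime χ
  have hq : p = (RingHom.ker χ).comap (algebraMap R S) := by
    ext r
    rw [Ideal.mem_comap, RingHom.mem_ker, AlgHom.commutes, Ideal.algebraMap_residueField_eq_zero]
  refine ⟨hprime, hq, ?_⟩
  set m := Ideal.ResidueField.map p (RingHom.ker χ) (algebraMap R S) hq with hm
  let χbar : (RingHom.ker χ).ResidueField →+* p.ResidueField :=
    Ideal.ResidueField.lift (RingHom.ker χ) (χ : S →+* p.ResidueField) le_rfl (by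
      intro x hx
      have hx' : χ x ≠ 0 := fun h => hx (by simpa [RingHom.mem_ker] using h)
      exact (IsUnit.mk0 _ hx'))
  have hcomp : χbar.comp m = RingHom.id _ := by
    apply Ideal.ResidueField.ringHom_ext
    ext r
    show χbar (m (algebraMap R p.ResidueField r)) = algebraMap R p.ResidueField r
    rw [hm, Ideal.ResidueField.map_algebraMap]
    show Ideal.ResidueField.lift (RingHom.ker χ) (χ : S →+* p.ResidueField) _ _
      (algebraMap S _ (algebraMap R S r)) = _
    rw [Ideal.ResidueField.lift_algebraMap]
    exact χ.commutes r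
  refine ⟨m.injective, fun y => ⟨χbar y, ?_⟩⟩
  apply χbar.injective
  have := RingHom.congr_fun hcomp (χbar y)
  exact this

end Groth.Agent.H47
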