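import Groth.Agent.H47.EtalePairs
import Mathlib.RingTheory.Unramified.Basic
import Mathlib.RingTheory.Kaehler.Basic

set_option autoImplicit false
universe u

namespace Groth.Agent.H47

open TensorProduct

/-- Two `R`-algebra maps `S → κ(p)` with the same kernel `q`, where `κ(p) → κ(q)` is bijective,
are equal. -/
theorem algHom_residueField_ext (R : Type*) [CommRing R] (p : Ideal R) [p.IsPrime]
    (S : Type*) [CommRing S] [Algebra R S] (q : Ideal S) [q.IsPrime]
    (hq : p = q.comap (algebraMap R S))
    (hκ : Function.Bijective (Ideal.ResidueField.map p q (algebraMap R S) hq))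
    (σ τ : S →ₐ[R] p.ResidueField) (hσ : RingHom.ker σ = q) (hτ : RingHom.ker τ = q) :
    σ = τ := by
  set m := Ideal.ResidueField.map p q (algebraMap R S) hq with hm
  have key : ∀ (ρ : S →ₐ[R] p.ResidueField) (hρ : RingHom.ker ρ = q),
      ∃ l : q.ResidueField →+* p.ResidueField, (∀ x, l (algebraMap S _ x) = ρ x) ∧
        l.comp m = RingHom.id _ := by
    intro ρ hρ
    let l : q.ResidueField →+* p.ResidueField :=
      Ideal.ResidueField.lift q (ρ : S →+* p.ResidueField) (le_of_eq hρ.symm) (by
        intro x hx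
        have hx' : ρ x ≠ 0 := fun h => hx (by rw [← hρ]; simpa [RingHom.mem_ker] using h)
        exact (IsUnit.mk0 _ hx'))
    have hl : ∀ x, l (algebraMap S _ x) = ρ x := fun x => Ideal.ResidueField.lift_algebraMap _ _ _ _ x
    refine ⟨l, hl, ?_⟩
    apply Ideal.ResidueField.ringHom_ext
    ext r
    show l (m (algebraMap R p.ResidueField r)) = algebraMap R p.ResidueField r
    rw [hm, Ideal.ResidueField.map_algebraMap, hl]
    exact ρ.commutes r
  obtain ⟨l₁, hl₁, hc₁⟩ := key σ hσ
  obtain ⟨l₂, hl₂, hc₂⟩ := key τ hτ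
  have hl : l₁ = l₂ := by
    refine RingHom.ext fun y => ?_
    obtain ⟨z, rfl⟩ := hκ.2 y
    have h1 := RingHom.congr_fun hc₁ z
    have h2 := RingHom.congr_fun hc₂ z
    simp only [RingHom.comp_apply, RingHom.id_apply] at h1 h2
    rw [h1, h2]
  ext x
  rw [← hl₁, ← hl₂, hl]

/-- For an unramified algebra, the kernel of the multiplication map is generated by an
idempotent. -/
theorem exists_idempotent_kaehler_ideal (R S : Type*) [CommRing R] [CommRing S]
    [Algebra R S] [Algebra.EssFiniteType R S] [Algebra.FormallyUnramified R S] :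
    ∃ e : S ⊗[R] S, IsIdempotentElem e ∧ KaehlerDifferential.ideal R S = Ideal.span {e} :=
  (Ideal.isIdempotentElem_iff_of_fg _ (KaehlerDifferential.ideal_fg R S)).mp <|
    (Ideal.cotangent_subsingleton_iff _).mp <| inferInstanceAs <| Subsingleton Ω[S⁄R]

end Groth.Agent.H47
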