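import Mathlib
import Groth.Agent.H47.EtaleDim
import Groth.Agent.H72.Miracle
import Groth.Agent.H26.CMFlat
import Groth.Agent.Lead.RegularLocal4

set_option autoImplicit false
set_option linter.unusedSectionVars false
set_option linter.style.haveILetI false
set_option linter.unusedVariables false
universe u

namespace Groth.Agent.H47.EP

open IsLocalRing Algebra KaehlerDifferential TensorProduct

section

variable (k : Type u) [Field k] (n : ℕ) (A : Type u) [CommRing A] [Algebra k A]
  [Algebra (MvPolynomial (Fin n) k) A] [IsScalarTower k (MvPolynomial (Fin n) k) A]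

/-- The differentials `d aᵢ` span `Ω[A/k]` iff `Ω[A/k[x]] = 0`. -/
theorem span_D_eq_top_iff :
    Submodule.span A (Set.range fun i : Fin n =>
      D k A (algebraMap (MvPolynomial (Fin n) k) A (MvPolynomial.X i))) = ⊤ ↔
    Subsingleton Ω[A⁄MvPolynomial (Fin n) k] := by
  set P := MvPolynomial (Fin n) k with hP
  have hrange : LinearMap.range (mapBaseChange k P A) =
      Submodule.span A (Set.range fun i : Fin n => D k A (algebraMap P A (MvPolynomial.X i))) := by
    have hb : Submodule.span A (Set.range ((mvPolynomialBasis k (Fin n)).baseChange A)) = ⊤ :=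
      ((mvPolynomialBasis k (Fin n)).baseChange A).span_eq
    rw [LinearMap.range_eq_map, ← hb, Submodule.map_span, ← Set.range_comp]
    congr 2
    ext i
    simp only [Function.comp_apply, Module.Basis.baseChange_apply, mvPolynomialBasis_apply]
    have := mapBaseChange_tmul k P A (1 : A) (D k P (MvPolynomial.X i))
    rw [one_smul, map_D] at this
    exact this
  rw [← hrange]
  constructor
  · intro h
    have hsurj : Function.Surjective (mapBaseChange k P A) := LinearMap.range_eq_top.1 h
    have hex := exact_mapBaseChange_map k P A
    have hz : ∀ y : Ω[A⁄k], KaehlerDifferential.map k P A A y = 0 := by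
      intro y
      obtain ⟨z, rfl⟩ := hsurj y
      exact (hex _).2 ⟨z, rfl⟩
    have hsurj2 : Function.Surjective (KaehlerDifferential.map k P A A) :=
      KaehlerDifferential.map_surjective k P A
    constructor
    intro a b
    obtain ⟨a', rfl⟩ := hsurj2 a
    obtain ⟨b', rfl⟩ := hsurj2 b
    rw [hz, hz]
  · intro h
    rw [LinearMap.range_eq_top]
    intro y
    have hex := exact_mapBaseChange_map k P A
    exact (hex y).1 (Subsingleton.elim _ _)

variable [Algebra.FiniteType (MvPolynomial (Fin n) k) A]

include k in
/-- Under the dimension hypothesis, an unramified `k[x₁..xₙ]`-algebra is flat at maximal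
ideals. -/
theorem flat_localization_of_dim [Algebra.FormallyUnramified (MvPolynomial (Fin n) k) A]
    (M : Ideal A) [M.IsMaximal] (hdim : ringKrullDim (Localization.AtPrime M) = n) :
    Module.Flat (MvPolynomial (Fin n) k) (Localization.AtPrime M) := by
  classical
  set P := MvPolynomial (Fin n) k with hP
  haveI : Algebra.FiniteType k A :=
    Algebra.FiniteType.trans (S := P) inferInstance inferInstance
  haveI hN : (M.under P).IsMaximal := ED.isMaximal_under_of_finiteType k P A M
  haveI : M.LiesOver (M.under P) := ⟨rfl⟩
  let R := Localization.AtPrime (M.under P)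
  let B := Localization.AtPrime M
  letI := Localization.AtPrime.algebraOfLiesOver (M.under P) M
  haveI : IsNoetherianRing A := Algebra.FiniteType.isNoetherianRing P A
  haveI : IsNoetherianRing B := inferInstance
  have : Algebra.FormallyUnramified P B := .comp P A B
  have : Algebra.FormallyUnramified R B := .of_restrictScalars P R B
  have : Algebra.EssFiniteType A B := .of_isLocalization B M.primeCompl
  have : Algebra.EssFiniteType P B := .comp P A B
  have : Algebra.EssFiniteType R B := .of_comp P R B
  haveI : IsLocalHom (algebraMap R B) := inferInstance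
  haveI : IsRegularLocalRing R := inferInstance
  have hdR : ringKrullDim R = n := by
    rw [IsLocalization.AtPrime.ringKrullDim_eq_height (M.under P) R,
      Groth.Agent.H54.height_of_isMaximal_mvPolynomial]
    rfl
  have hmB : (maximalIdeal R).map (algebraMap R B) = maximalIdeal B :=
    Algebra.FormallyUnramified.map_maximalIdeal
  obtain ⟨x, hx⟩ := Groth.Agent.Lead.RLR.exists_fin_span_eq R n hdR
  haveI : IsRegularLocalRing B := by
    apply IsRegularLocalRing.of_spanFinrank_maximalIdeal_le
    rw [hdim, ← hmB, ← hx, Ideal.map_span, ← Set.range_comp]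
    have h1 : (Ideal.span (Set.range (algebraMap R B ∘ x))).spanFinrank ≤
        (Set.range (algebraMap R B ∘ x)).ncard :=
      Submodule.spanFinrank_span_le_ncard_of_finite (Set.finite_range _)
    have h2 : (Set.range (algebraMap R B ∘ x)).ncard ≤ n := by
      have := Set.ncard_image_le (f := algebraMap R B ∘ x) (Set.finite_univ (α := Fin n))
      rw [Set.image_univ] at this
      simpa using this
    exact_mod_cast h1.trans h2
  haveI : LocCoh.IsCohenMacaulayLocalRing B :=
    Groth.Agent.H26.CMFlat.isCohenMacaulayLocalRing_of_isRegularLocalRing B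
  have hfield : IsField (B ⧸ (maximalIdeal R).map (algebraMap R B)) :=
    Algebra.FormallyUnramified.isField_quotient_map_maximalIdeal
  have h0 : ringKrullDim (B ⧸ (maximalIdeal R).map (algebraMap R B)) = 0 := by
    letI := hfield.toField
    exact ringKrullDim_eq_zero_of_field _
  haveI : Module.Flat R B := by
    apply Groth.Agent.H72.Miracle.flat_of_isCohenMacaulay R B B
    · exact LocCoh.IsCohenMacaulayLocalRing.supportDim_eq_depth
    · rw [Module.supportDim_self_eq_ringKrullDim]
      have hsm : (maximalIdeal R).map (algebraMap R B) • (⊤ : Submodule B B) =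
          (maximalIdeal R).map (algebraMap R B) := by
        rw [smul_eq_mul, Ideal.mul_top]
      rw [hsm, Module.supportDim_quotient_eq_ringKrullDim, h0, add_zero, hdR]
      exact hdim
  haveI : Module.Flat P R := IsLocalization.flat R (M.under P).primeCompl
  exact Module.Flat.trans P R B

include k in
theorem etale_of_dim_of_span
    (hdim : ∀ (m : Ideal A) [m.IsMaximal], ringKrullDim (Localization.AtPrime m) = n)
    (hspan : Submodule.span A (Set.range fun i : Fin n =>
      D k A (algebraMap (MvPolynomial (Fin n) k) A (MvPolynomial.X i))) = ⊤) :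
    Algebra.Etale (MvPolynomial (Fin n) k) A := by
  haveI : Algebra.FormallyUnramified (MvPolynomial (Fin n) k) A :=
    ⟨(span_D_eq_top_iff k n A).1 hspan⟩
  haveI : Algebra.FinitePresentation (MvPolynomial (Fin n) k) A :=
    Algebra.FinitePresentation.of_finiteType.1 inferInstance
  haveI : Module.Flat (MvPolynomial (Fin n) k) A :=
    Module.flat_of_isLocalized_maximal A A (fun P _ => Localization.AtPrime P)
      (fun P _ => Algebra.linearMap A _)
      (fun M _ => flat_localization_of_dim k n A M (hdim M))
  exact Algebra.Etale.of_formallyUnramified_of_flat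

theorem etale_iff :
    Algebra.Etale (MvPolynomial (Fin n) k) A ↔
      (∀ (m : Ideal A) [m.IsMaximal], ringKrullDim (Localization.AtPrime m) = n) ∧
        Submodule.span A (Set.range fun i : Fin n =>
          D k A (algebraMap (MvPolynomial (Fin n) k) A (MvPolynomial.X i))) = ⊤ := by
  constructor
  · intro h
    refine ⟨fun m _ => ED.ringKrullDim_atPrime_eq_of_etale_mvPolynomial k n A m, ?_⟩
    rw [span_D_eq_top_iff]
    infer_instance
  · rintro ⟨h1, h2⟩
    exact etale_of_dim_of_span k n A h1 h2

end

end Groth.Agent.H47.EP
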