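import Mathlib
import Groth.Agent.H47.EtaleLift
import Groth.Agent.H47.SqZeroIso

/-!
# Étaleness of a square-zero lift of an étale algebra
-/

set_option autoImplicit false
set_option linter.unusedSectionVars false
set_option linter.style.haveILetI false
set_option linter.unusedVariables false
universe u

namespace Groth.Agent.H47

open TensorProduct

theorem etale_of_etale_squareZero_lift (A' : Type u) [CommRing A'] (A : Type u) [CommRing A]
    [Algebra A' A] (hA : Function.Surjective (algebraMap A' A))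
    (hI : RingHom.ker (algebraMap A' A) ^ 2 = ⊥)
    (B' : Type u) [CommRing B'] [Algebra A' B'] (B : Type u) [CommRing B] [Algebra B' B]
    [Algebra A B] [Algebra A' B] [IsScalarTower A' A B] [IsScalarTower A' B' B]
    (hB : Function.Surjective (algebraMap B' B)) (hJ : RingHom.ker (algebraMap B' B) ^ 2 = ⊥)
    [Algebra.Etale A B]
    (hJI : RingHom.ker (algebraMap B' B) = (RingHom.ker (algebraMap A' A)).map (algebraMap A' B'))
    (hinj : Function.Injective ((RingHom.ker (algebraMap A' A)).subtype.baseChange B')) :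
    Algebra.Etale A' B' := by
  classical
  -- identify `A` with `A' ⧸ I`
  let ε : (A' ⧸ RingHom.ker (algebraMap A' A)) ≃ₐ[A'] A :=
    Ideal.quotientKerAlgEquivOfSurjective (f := Algebra.ofId A' A) hA
  letI : Algebra (A' ⧸ RingHom.ker (algebraMap A' A)) A := ε.toAlgHom.toRingHom.toAlgebra
  letI : Algebra (A' ⧸ RingHom.ker (algebraMap A' A)) B :=
    ((algebraMap A B).comp ε.toAlgHom.toRingHom).toAlgebra
  haveI : IsScalarTower (A' ⧸ RingHom.ker (algebraMap A' A)) A B :=
    IsScalarTower.of_algebraMap_eq (fun _ => rfl)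
  haveI : IsScalarTower A' (A' ⧸ RingHom.ker (algebraMap A' A)) B :=
    IsScalarTower.of_algebraMap_eq (fun a => by
      change algebraMap A' B a = algebraMap A B (ε (algebraMap A' _ a))
      rw [ε.commutes, ← IsScalarTower.algebraMap_apply])
  haveI : Algebra.Etale (A' ⧸ RingHom.ker (algebraMap A' A)) A :=
    Algebra.Etale.of_equiv (AlgEquiv.ofRingEquiv (f := ε.toRingEquiv) (fun _ => rfl))
  haveI : Algebra.Etale (A' ⧸ RingHom.ker (algebraMap A' A)) B :=
    Algebra.Etale.comp (A' ⧸ RingHom.ker (algebraMap A' A)) A B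
  obtain ⟨B'', _, _, het, ⟨e⟩⟩ :=
    exists_etale_lift_quotient A' (RingHom.ker (algebraMap A' A)) B
  haveI : Algebra.Etale A' B'' := het
  -- the map `B'' → B`
  let β : B'' →ₐ[A'] B :=
    (e.toAlgHom.restrictScalars A').comp Algebra.TensorProduct.includeRight
  have hβ : ∀ x, β x = e ((1 : A' ⧸ RingHom.ker (algebraMap A' A)) ⊗ₜ[A'] x) := fun _ => rfl
  let q := Algebra.TensorProduct.quotIdealMapEquivQuotTensor B'' (RingHom.ker (algebraMap A' A))
  have hβsurj : Function.Surjective β := by
    intro b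
    obtain ⟨y, hy⟩ := q.surjective (e.symm b)
    obtain ⟨x, rfl⟩ := Ideal.Quotient.mk_surjective y
    refine ⟨x, ?_⟩
    rw [hβ]
    have : q (Ideal.Quotient.mk _ x) = (1 : A' ⧸ RingHom.ker (algebraMap A' A)) ⊗ₜ[A'] x := rfl
    rw [← this, hy, AlgEquiv.apply_symm_apply]
  have hβker : ∀ x, β x = 0 → x ∈ (RingHom.ker (algebraMap A' A)).map (algebraMap A' B'') := by
    intro x hx
    rw [hβ] at hx
    have h0 : (1 : A' ⧸ RingHom.ker (algebraMap A' A)) ⊗ₜ[A'] x = 0 :=
      e.injective (by rw [hx, map_zero])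
    have : q (Ideal.Quotient.mk _ x) = 0 := h0
    have := q.injective (this.trans (map_zero q).symm)
    exact Ideal.Quotient.eq_zero_iff_mem.mp this
  -- lift to `B'`
  let φ : B'' →ₐ[A'] B' :=
    Algebra.FormallySmooth.liftOfSurjective β (IsScalarTower.toAlgHom A' B' B) hB ⟨2, hJ⟩
  have hφ : ∀ x, algebraMap B' B (φ x) = β x := fun x =>
    Algebra.FormallySmooth.liftOfSurjective_apply β (IsScalarTower.toAlgHom A' B' B) hB ⟨2, hJ⟩ x
  have hmem' : ∀ x : B', x ∈ (RingHom.ker (algebraMap A' A)) • (⊤ : Submodule A' B') ↔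
      algebraMap B' B x = 0 := by
    intro x
    rw [Ideal.smul_top_eq_map, Submodule.restrictScalars_mem, ← hJI, RingHom.mem_ker]
  have hmem'' : ∀ x : B'', x ∈ (RingHom.ker (algebraMap A' A)) • (⊤ : Submodule A' B'') ↔
      x ∈ (RingHom.ker (algebraMap A' A)).map (algebraMap A' B'') := by
    intro x
    rw [Ideal.smul_top_eq_map, Submodule.restrictScalars_mem]
  have hbij : Function.Bijective φ := by
    refine bijective_of_sqZero (RingHom.ker (algebraMap A' A)) hI φ (fun b' => ?_)
      (fun x hx => ?_) hinj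
    · obtain ⟨b'', hb''⟩ := hβsurj (algebraMap B' B b')
      refine ⟨b'', ?_⟩
      rw [hmem', map_sub, hφ, hb'', sub_self]
    · rw [hmem'] at hx
      rw [hmem'']
      exact hβker x (by rw [← hφ, hx])
  exact Algebra.Etale.of_equiv (AlgEquiv.ofBijective φ hbij)

end Groth.Agent.H47
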