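import Mathlib.AlgebraicGeometry.Noetherian
import Mathlib.AlgebraicGeometry.Fiber
import Mathlib.AlgebraicGeometry.Morphisms.FiniteType
import Mathlib.RingTheory.Spectrum.Prime.Jacobson

set_option autoImplicit false
universe u

open AlgebraicGeometry CategoryTheory TopologicalSpace

namespace Groth.Agent.H47

/-- In a locally Noetherian Jacobson scheme, a point is open iff it is closed and has no proper
generalizations. -/
theorem isOpen_singleton_iff_isClosed_and_stableUnderGeneralization (F : Scheme.{u})
    [IsLocallyNoetherian F] [JacobsonSpace F] (y : F) :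
    IsOpen ({y} : Set F) ↔ IsClosed ({y} : Set F) ∧ StableUnderGeneralization ({y} : Set F) := by
  constructor
  · intro h
    exact ⟨isClosed_singleton_of_isLocallyClosed_singleton h.isLocallyClosed,
      h.stableUnderGeneralization⟩
  · rintro ⟨h1, h2⟩
    obtain ⟨U, hU, hyU, -⟩ :=
      exists_isAffineOpen_mem_and_subset (U := ⊤) (x := y) (by simp)
    haveI : IsNoetherianRing Γ(F, U) := IsLocallyNoetherian.component_noetherian ⟨U, hU⟩
    haveI : JacobsonSpace (Spec Γ(F, U)) :=
      JacobsonSpace.of_isOpenEmbedding hU.fromSpec.isOpenEmbedding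
    haveI : IsJacobsonRing Γ(F, U) :=
      PrimeSpectrum.isJacobsonRing_iff_jacobsonSpace.mpr
        (inferInstanceAs (JacobsonSpace (Spec Γ(F, U))))
    have hrange : y ∈ Set.range hU.fromSpec := by rw [hU.range_fromSpec]; exact hyU
    obtain ⟨q, rfl⟩ := hrange
    have hinj : Function.Injective hU.fromSpec := hU.fromSpec.isOpenEmbedding.injective
    have hq1 : IsClosed ({q} : Set (Spec Γ(F, U))) := by
      have : ({q} : Set (Spec Γ(F, U))) = hU.fromSpec ⁻¹' {hU.fromSpec q} := by
        ext z; simp [hinj.eq_iff]
      rw [this]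
      exact h1.preimage hU.fromSpec.continuous
    have hq2 : StableUnderGeneralization ({q} : Set (Spec Γ(F, U))) := by
      intro a b hab hb
      rw [Set.mem_singleton_iff] at hb ⊢
      subst hb
      have := h2 (hab.map hU.fromSpec.continuous) (Set.mem_singleton _)
      exact hinj this
    have htfae := PrimeSpectrum.isOpen_singleton_tfae_of_isNoetherian_of_isJacobsonRing
      (R := Γ(F, U)) q
    have hopen : IsOpen ({q} : Set (PrimeSpectrum Γ(F, U))) :=
      (htfae.out 2 0).mp (And.intro hq1 hq2)
    have h3 := hU.fromSpec.isOpenEmbedding.isOpenMap _ hopen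
    have h4 : (fun a => hU.fromSpec a) '' ({q} : Set (PrimeSpectrum Γ(F, U)))
        = {hU.fromSpec q} := Set.image_singleton
    exact h4 ▸ h3

end Groth.Agent.H47
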