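import Groth.Agent.H71.QCoh.FlatOver
import Groth.Agent.H8.PushQCoh

/-!
# S9349: flatness over the base of a pushforward along an affine morphism
-/

set_option autoImplicit false
set_option linter.style.haveILetI false

open CategoryTheory Limits AlgebraicGeometry TopologicalSpace Opposite

namespace Groth.Agent.H47.FlatPush

universe u

variable {X Y S : Scheme.{u}} (f : X ⟶ Y) (q : Y ⟶ S) (F : X.Modules)

/-- the two `Γ(S,V)`-module structures on `Γ(F, f⁻¹W) = Γ(f_*F, W)` agree -/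
theorem flat_iff (W : Y.Opens) (V : S.Opens) (e : W ≤ q ⁻¹ᵁ V) (e' : f ⁻¹ᵁ W ≤ (f ≫ q) ⁻¹ᵁ V) :
    @Module.Flat Γ(S, V) Γ((Scheme.Modules.pushforward f).obj F, W) _ _
        (Module.compHom _ (q.appLE V W e).hom) ↔
    @Module.Flat Γ(S, V) Γ(F, f ⁻¹ᵁ W) _ _
        (Module.compHom _ ((f ≫ q).appLE V (f ⁻¹ᵁ W) e').hom) := by
  let m1 : Module Γ(S, V) Γ((Scheme.Modules.pushforward f).obj F, W) :=
    Module.compHom _ (q.appLE V W e).hom
  let m2 : Module Γ(S, V) Γ(F, f ⁻¹ᵁ W) :=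
    Module.compHom _ ((f ≫ q).appLE V (f ⁻¹ᵁ W) e').hom
  have hcomp : ∀ r : Γ(S, V), ((f ≫ q).appLE V (f ⁻¹ᵁ W) e').hom r
      = (f.app W).hom ((q.appLE V W e).hom r) := by
    intro r
    have h1 : q.appLE V W e ≫ f.appLE W (f ⁻¹ᵁ W) le_rfl = (f ≫ q).appLE V (f ⁻¹ᵁ W) e' :=
      Scheme.Hom.appLE_comp_appLE f q V W (f ⁻¹ᵁ W) e le_rfl
    rw [← h1, Scheme.Hom.appLE_eq_app]
    rfl
  letI := m1
  letI := m2
  let L : Γ((Scheme.Modules.pushforward f).obj F, W) ≃ₗ[Γ(S, V)] Γ(F, f ⁻¹ᵁ W) :=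
    { toFun := fun x => x
      map_add' := fun _ _ => rfl
      map_smul' := fun r x => by
        let y : Γ(F, f ⁻¹ᵁ W) := x
        change (f.app W).hom ((q.appLE V W e).hom r) • y
          = ((f ≫ q).appLE V (f ⁻¹ᵁ W) e').hom r • y
        rw [hcomp]
      invFun := fun x => x
      left_inv := fun _ => rfl
      right_inv := fun _ => rfl }
  exact Module.Flat.equiv_iff L

theorem main [IsAffineHom f] [F.IsQuasicoherent] :
    FlatMod.IsFlatOver (f ≫ q) F ↔
      FlatMod.IsFlatOver q ((Scheme.Modules.pushforward f).obj F) := by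
  haveI : ((Scheme.Modules.pushforward f).obj F).IsQuasicoherent :=
    Groth.Agent.H8.isQuasicoherent_pushforward_of_isAffineHom f F
  constructor
  · intro h
    rw [Groth.Agent.H71.QCoh.isFlatOver_iff_flat_sections_base]
    intro W V hW hV e
    have hU : IsAffineOpen (f ⁻¹ᵁ W) := hW.preimage f
    have e' : f ⁻¹ᵁ W ≤ (f ≫ q) ⁻¹ᵁ V := by
      intro x hx
      exact e hx
    have h1 := Groth.Agent.H71.QCoh.flat_sections_base_of_isFlatOverAt (f ≫ q) F hU hV e'
      (fun x _ => h x)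
    exact (flat_iff f q F W V e e').2 h1
  · intro h x
    rw [Groth.Agent.H71.QCoh.isFlatOver_iff_flat_sections_base] at h
    -- affine neighbourhoods
    obtain ⟨V, hV, hxV, -⟩ := exists_isAffineOpen_mem_and_subset
      (show q (f x) ∈ (⊤ : S.Opens) from trivial)
    obtain ⟨W, hW, hxW, hWV⟩ := exists_isAffineOpen_mem_and_subset
      (show f x ∈ q ⁻¹ᵁ V from hxV)
    have e : W ≤ q ⁻¹ᵁ V := hWV
    have hU : IsAffineOpen (f ⁻¹ᵁ W) := hW.preimage f
    have e' : f ⁻¹ᵁ W ≤ (f ≫ q) ⁻¹ᵁ V := by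
      intro y hy
      exact e hy
    have h1 := h W V hW hV e
    have h2 := (flat_iff f q F W V e e').1 h1
    exact Groth.Agent.H71.QCoh.isFlatOverAt_of_flat_sections_base (f ≫ q) F hU hV e' h2
      (show x ∈ f ⁻¹ᵁ W from hxW)

end Groth.Agent.H47.FlatPush
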