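import Groth.Agent.H47.Goldman
import Mathlib.AlgebraicGeometry.Morphisms.Finite
import Mathlib.AlgebraicGeometry.Morphisms.ClosedImmersion
import Mathlib.AlgebraicGeometry.ResidueField

set_option autoImplicit false
universe u

open AlgebraicGeometry CategoryTheory TopologicalSpace

namespace Groth.Agent.H47

/-- If `Spec K ⟶ S` (with `K` a field) is locally of finite type, its image point is closed in some
affine open of `S`. -/
theorem exists_isAffineOpen_isClosed_singleton_of_locallyOfFiniteType {S : Scheme.{u}}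
    (K : Type u) [Field K] (a : Spec (CommRingCat.of K) ⟶ S) [LocallyOfFiniteType a]
    (pt : Spec (CommRingCat.of K)) :
    ∃ U : S.Opens, IsAffineOpen U ∧ ∃ hs : a.base pt ∈ U,
      IsClosed ({⟨a.base pt, hs⟩} : Set ↥U) := by
  classical
  obtain ⟨U₀, hU₀, hsU₀, -⟩ :=
    exists_isAffineOpen_mem_and_subset (U := ⊤) (x := a.base pt) (by simp)
  have hrange : Set.range a.base ⊆ Set.range hU₀.fromSpec.base := by
    rintro _ ⟨w, rfl⟩
    rw [hU₀.range_fromSpec, Subsingleton.elim w pt]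
    exact hsU₀
  let a' : Spec (CommRingCat.of K) ⟶ Spec Γ(S, U₀) := IsOpenImmersion.lift hU₀.fromSpec a hrange
  have ha' : a' ≫ hU₀.fromSpec = a := IsOpenImmersion.lift_fac _ _ _
  obtain ⟨ψ, hψ⟩ := Spec.map_surjective a'
  have hlft : LocallyOfFiniteType (Spec.map ψ ≫ hU₀.fromSpec) := by
    rw [hψ, ha']; infer_instance
  have h2 : LocallyOfFiniteType (Spec.map ψ) := locallyOfFiniteType_of_comp _ hU₀.fromSpec
  rw [HasRingHomProperty.Spec_iff (P := @LocallyOfFiniteType)] at h2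
  -- the prime
  set p : Spec Γ(S, U₀) := (Spec.map ψ).base pt with hp
  have hpt : a.base pt = hU₀.fromSpec.base p := by
    rw [← ha', ← hψ]; rfl
  have hker : p.asIdeal = RingHom.ker ψ.hom := by
    have hbot : pt.asIdeal = ⊥ := by
      letI : Field (CommRingCat.of K) := inferInstanceAs (Field K)
      exact (Ideal.eq_bot_or_top pt.asIdeal).resolve_right pt.2.ne_top
    show (pt.asIdeal).comap ψ.hom = _
    rw [hbot]; rfl
  -- algebra structures
  letI algRK : Algebra Γ(S, U₀) K := ψ.hom.toAlgebra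
  haveI : Algebra.FiniteType Γ(S, U₀) K := h2
  letI algDK : Algebra (Γ(S, U₀) ⧸ p.asIdeal) K :=
    (Ideal.Quotient.lift p.asIdeal ψ.hom (fun x hx => by rw [hker] at hx; exact hx)).toAlgebra
  haveI : IsScalarTower Γ(S, U₀) (Γ(S, U₀) ⧸ p.asIdeal) K :=
    IsScalarTower.of_algebraMap_eq (fun _ => rfl)
  haveI : Algebra.FiniteType (Γ(S, U₀) ⧸ p.asIdeal) K :=
    Algebra.FiniteType.of_restrictScalars_finiteType Γ(S, U₀) _ _
  haveI : FaithfulSMul (Γ(S, U₀) ⧸ p.asIdeal) K := by
    rw [faithfulSMul_iff_algebraMap_injective, injective_iff_map_eq_zero]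
    intro x hx
    obtain ⟨r, rfl⟩ := Ideal.Quotient.mk_surjective x
    have : ψ.hom r = 0 := hx
    rw [Ideal.Quotient.eq_zero_iff_mem, hker]
    exact this
  obtain ⟨g, hg0, hg⟩ := exists_ne_zero_forall_prime_mem (Γ(S, U₀) ⧸ p.asIdeal) K
  obtain ⟨r, rfl⟩ := Ideal.Quotient.mk_surjective g
  have hrp : r ∉ p.asIdeal := fun h => hg0 (Ideal.Quotient.eq_zero_iff_mem.mpr h)
  have hU : IsAffineOpen (S.basicOpen r) := hU₀.basicOpen r
  have hmem : ∀ q : Spec Γ(S, U₀), hU₀.fromSpec.base q ∈ S.basicOpen r ↔ r ∉ q.asIdeal := by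
    intro q
    have : hU₀.fromSpec.base q ∈ S.basicOpen r ↔ q ∈ hU₀.fromSpec ⁻¹ᵁ S.basicOpen r := Iff.rfl
    rw [this, hU₀.fromSpec_preimage_basicOpen]
    exact PrimeSpectrum.mem_basicOpen r q
  have hsU : hU₀.fromSpec.base p ∈ S.basicOpen r := (hmem p).mpr hrp
  rw [hpt]
  refine ⟨S.basicOpen r, hU, hsU, ?_⟩
  rw [← closure_eq_iff_isClosed]
  refine Set.Subset.antisymm ?_ subset_closure
  rintro ⟨z, hzU⟩ hz
  rw [Set.mem_singleton_iff]
  have hsp' : (⟨hU₀.fromSpec.base p, hsU⟩ : ↥(S.basicOpen r)) ⤳ ⟨z, hzU⟩ :=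
    specializes_iff_mem_closure.mpr hz
  have hsp : hU₀.fromSpec.base p ⤳ z := hsp'.map continuous_subtype_val
  have hzU₀ : z ∈ Set.range hU₀.fromSpec.base := by
    rw [hU₀.range_fromSpec]; exact S.basicOpen_le r hzU
  obtain ⟨q, rfl⟩ := hzU₀
  have hpq : p ⤳ q := (hU₀.fromSpec.isOpenEmbedding.isInducing.specializes_iff).mp hsp
  have hle : p.asIdeal ≤ q.asIdeal := (PrimeSpectrum.le_iff_specializes p q).mpr hpq
  have hrq : r ∉ q.asIdeal := (hmem q).mp hzU
  have hqbot : q.asIdeal.map (Ideal.Quotient.mk p.asIdeal) = ⊥ := by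
    by_contra hne
    have hprime : (q.asIdeal.map (Ideal.Quotient.mk p.asIdeal)).IsPrime :=
      Ideal.map_isPrime_of_surjective Ideal.Quotient.mk_surjective (by rwa [Ideal.mk_ker])
    have := hg _ hprime hne
    rw [Ideal.mem_map_iff_of_surjective _ Ideal.Quotient.mk_surjective] at this
    obtain ⟨r', hr'q, hr'⟩ := this
    rw [Ideal.Quotient.eq] at hr'
    have : r ∈ q.asIdeal := by
      have h3 : r = r' - (r' - r) := by ring
      rw [h3]
      exact Ideal.sub_mem _ hr'q (hle hr')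
    exact hrq this
  have hqp : q = p := by
    apply PrimeSpectrum.ext
    apply le_antisymm _ hle
    intro x hx
    have : Ideal.Quotient.mk p.asIdeal x ∈ q.asIdeal.map (Ideal.Quotient.mk p.asIdeal) :=
      Ideal.mem_map_of_mem _ hx
    rw [hqbot, Ideal.mem_bot, Ideal.Quotient.eq_zero_iff_mem] at this
    exact this
  subst hqp
  rfl

end Groth.Agent.H47
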