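import Mathlib
import Groth.Prelude.Def_EGA41
import Groth.Agent.H47.CI.GeomDepth
import Groth.Agent.H47.CI.MuDescent
import Groth.Agent.H47.CohenAlgExist
import Groth.Agent.H47.FSSep
import Groth.Agent.H20.EtaleStalk
import Groth.Agent.H26.ComplQuot

/-!
# Geometric depth is invariant under flat local homomorphisms with `𝔪_A A' = 𝔪_A'` and separable
residue field extension (S5179)
-/

set_option autoImplicit false
set_option linter.style.haveILetI false
set_option linter.unusedSectionVars false
set_option linter.unusedVariables false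

universe u

namespace Groth.Agent.H47.GeomDepthFlat

open IsLocalRing

/-- A flat local Noetherian algebra `B₁` over a regular local ring `B` with `𝔪_B B₁ = 𝔪_{B₁}` is
regular local of the same dimension, and extension of ideals preserves the minimal number of
generators. -/
theorem regular_of_flat_of_map_maximalIdeal (B B₁ : Type u) [CommRing B] [IsRegularLocalRing B]
    [CommRing B₁] [IsLocalRing B₁] [IsNoetherianRing B₁] [Algebra B B₁]
    [IsLocalHom (algebraMap B B₁)] [Module.Flat B B₁]
    (hmax : (maximalIdeal B).map (algebraMap B B₁) = maximalIdeal B₁) :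
    IsRegularLocalRing B₁ ∧ ringKrullDim B₁ = ringKrullDim B ∧
      ∀ I : Ideal B, (I.map (algebraMap B B₁)).spanFinrank = I.spanFinrank := by
  have hdim : ringKrullDim B₁ = ringKrullDim B :=
    Groth.Agent.H20.ringKrullDim_eq_of_flat_of_map_maximalIdeal hmax
  refine ⟨?_, hdim, fun I => ?_⟩
  · apply IsRegularLocalRing.of_spanFinrank_maximalIdeal_le
    rw [hdim, ← IsRegularLocalRing.spanFinrank_maximalIdeal, ← hmax]
    exact_mod_cast Ideal.spanFinrank_map_le_of_fg (algebraMap B B₁)
      (IsNoetherian.noetherian (maximalIdeal B))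
  · haveI : Module.FaithfullyFlat B B₁ := Module.FaithfullyFlat.of_flat_of_isLocalHom
    exact le_antisymm (Ideal.spanFinrank_map_le_of_fg _ (IsNoetherian.noetherian I))
      (Groth.Agent.H47.CI.spanFinrank_le_spanFinrank_map I)

/-- Geometric reducedness of a field extension does not depend on the base field up to
isomorphism. -/
theorem isGeometricallyReduced_of_bijective {k₁ k₂ K : Type u} [Field k₁] [Field k₂] [Field K]
    [Algebra k₁ k₂] [Algebra k₂ K] [Algebra k₁ K] [IsScalarTower k₁ k₂ K]
    (h : Function.Bijective (algebraMap k₁ k₂)) [Algebra.IsGeometricallyReduced k₂ K] :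
    Algebra.IsGeometricallyReduced k₁ K := by
  rw [← Groth.Agent.H47.formallySmooth_field_iff_isGeometricallyReduced]
  haveI : Algebra.FormallySmooth k₂ K :=
    Groth.Agent.H47.formallySmooth_field_iff_isGeometricallyReduced.2 inferInstance
  haveI : Algebra.FormallySmooth k₁ k₂ :=
    Algebra.FormallySmooth.of_equiv (AlgEquiv.ofBijective (Algebra.ofId k₁ k₂) h)
  exact Algebra.FormallySmooth.comp k₁ k₂ K

/-- Key step: `C'` a Cohen `A`-algebra presented as `B'/I'`, and `B/I` a flat local `A`-algebra
with `𝔪_A (B/I) = 𝔪_{B/I}` and trivial residue field extension; then the geometric depths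
computed from the two regular presentations agree. -/
theorem geomDepth_eq_aux (A : Type u) [CommRing A] [IsLocalRing A] [IsNoetherianRing A]
    (C' : Type u) [CommRing C'] [IsLocalRing C'] [Algebra A C'] [IsLocalHom (algebraMap A C')]
    (hC' : EGA41.IsCohenAlgebra A C')
    (B B' : Type u) [CommRing B] [IsRegularLocalRing B] [CommRing B'] [IsRegularLocalRing B']
    (I : Ideal B) (I' : Ideal B') [IsLocalRing (B ⧸ I)]
    (φ : A →+* B ⧸ I) [IsLocalHom φ] (hφflat : φ.Flat)
    (hφmax : (maximalIdeal A).map φ = maximalIdeal (B ⧸ I))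
    (hφres : Function.Surjective (ResidueField.map φ))
    (hpres' : Nonempty (C' ≃+* B' ⧸ I'))
    (e e' : ℕ) (he : ringKrullDim B = (e : WithBot ℕ∞))
    (he' : ringKrullDim B' = (e' : WithBot ℕ∞)) :
    (e : ℤ) - (I.spanFinrank : ℤ) = (e' : ℤ) - (I'.spanFinrank : ℤ) := by
  classical
  obtain ⟨ε'⟩ := hpres'
  have hC'' := hC'
  obtain ⟨hNA, hNC', hcC', hflatC', hmC', hsepC'⟩ := hC''
  let K := ResidueField C'
  -- residue field maps
  haveI : IsLocalHom (Ideal.Quotient.mk I) :=
    IsLocalHom.of_surjective _ Ideal.Quotient.mk_surjective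
  let π : ResidueField B →+* ResidueField (B ⧸ I) := ResidueField.map (Ideal.Quotient.mk I)
  let σ : ResidueField A ≃+* ResidueField (B ⧸ I) :=
    RingEquiv.ofBijective (ResidueField.map φ) ⟨(ResidueField.map φ).injective, hφres⟩
  let ρ : ResidueField B →+* ResidueField A :=
    (σ.symm : ResidueField (B ⧸ I) →+* ResidueField A).comp π
  have hρ : ∀ (b : B) (a : A), Ideal.Quotient.mk I b = φ a →
      ρ (residue B b) = residue A a := by
    intro b a hba
    change σ.symm (π (residue B b)) = residue A a
    rw [RingEquiv.symm_apply_eq]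
    change ResidueField.map (Ideal.Quotient.mk I) (residue B b) =
      ResidueField.map φ (residue A a)
    rw [ResidueField.map_residue, ResidueField.map_residue, hba]
  have hρbij : Function.Bijective ρ := by
    refine ⟨ρ.injective, fun y => ?_⟩
    obtain ⟨a, rfl⟩ := residue_surjective y
    obtain ⟨b, hb⟩ := Ideal.Quotient.mk_surjective (φ a)
    exact ⟨residue B b, hρ b a hb⟩
  letI algkBkA : Algebra (ResidueField B) (ResidueField A) := ρ.toAlgebra
  letI algkBK : Algebra (ResidueField B) K :=
    ((algebraMap (ResidueField A) K).comp ρ).toAlgebra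
  haveI : IsScalarTower (ResidueField B) (ResidueField A) K :=
    IsScalarTower.of_algebraMap_eq (fun x => rfl)
  haveI : Algebra.IsGeometricallyReduced (ResidueField B) K :=
    isGeometricallyReduced_of_bijective (k₂ := ResidueField A) hρbij
  obtain ⟨B₁, _, _, _, _, hB₁, ⟨e₁⟩⟩ :=
    Groth.Agent.H47.CohenAlgExist.exists_cohenAlgebra (A := B) K
  obtain ⟨_, hNB₁, hcB₁, hflatB₁, hmB₁, -⟩ := hB₁
  obtain ⟨hregB₁, hdimB₁, hμ⟩ := regular_of_flat_of_map_maximalIdeal B B₁ hmB₁
  let J : Ideal B₁ := I.map (algebraMap B B₁)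
  have hI : I ≤ maximalIdeal B := by
    apply le_maximalIdeal
    exact Ideal.Quotient.nontrivial_iff.1 inferInstance
  have hJle : J ≤ maximalIdeal B₁ := by
    rw [← hmB₁]
    exact Ideal.map_mono hI
  have hJ : J ≠ ⊤ := fun h => (maximalIdeal.isMaximal B₁).ne_top (top_le_iff.1 (h ▸ hJle))
  haveI : Nontrivial (B₁ ⧸ J) := Ideal.Quotient.nontrivial_iff.2 hJ
  haveI : IsLocalRing (B₁ ⧸ J) :=
    IsLocalRing.of_surjective' (Ideal.Quotient.mk J) Ideal.Quotient.mk_surjective
  haveI : IsLocalHom (Ideal.Quotient.mk J) :=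
    IsLocalHom.of_surjective _ Ideal.Quotient.mk_surjective
  letI algA : Algebra A (B ⧸ I) := φ.toAlgebra
  haveI : Module.Flat A (B ⧸ I) := hφflat
  haveI : Module.Flat (B ⧸ I) (B₁ ⧸ J) := Groth.Agent.H47.CohenAlg.flat_quotient I
  let q : (B ⧸ I) →+* (B₁ ⧸ J) := algebraMap (B ⧸ I) (B₁ ⧸ J)
  have hq : ∀ b : B, q (Ideal.Quotient.mk I b) = Ideal.Quotient.mk J (algebraMap B B₁ b) :=
    fun b => rfl
  let ψ : A →+* (B₁ ⧸ J) := q.comp φ
  letI algAX : Algebra A (B₁ ⧸ J) := ψ.toAlgebra
  haveI : IsScalarTower A (B ⧸ I) (B₁ ⧸ J) := IsScalarTower.of_algebraMap_eq (fun x => rfl)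
  haveI : Module.Flat A (B₁ ⧸ J) := Module.Flat.trans A (B ⧸ I) (B₁ ⧸ J)
  have hmX : (maximalIdeal A).map (algebraMap A (B₁ ⧸ J)) = maximalIdeal (B₁ ⧸ J) := by
    change (maximalIdeal A).map (q.comp φ) = _
    rw [← Ideal.map_map, hφmax,
      ← map_maximalIdeal_of_surjective (Ideal.Quotient.mk I) Ideal.Quotient.mk_surjective,
      Ideal.map_map]
    have : q.comp (Ideal.Quotient.mk I) = (Ideal.Quotient.mk J).comp (algebraMap B B₁) :=
      RingHom.ext hq
    rw [this, ← Ideal.map_map, hmB₁,
      map_maximalIdeal_of_surjective (Ideal.Quotient.mk J) Ideal.Quotient.mk_surjective]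
  haveI hlocX : IsLocalHom (algebraMap A (B₁ ⧸ J)) :=
    ((local_hom_TFAE (algebraMap A (B₁ ⧸ J))).out 0 2).2 hmX.le
  haveI : IsNoetherianRing (B₁ ⧸ J) := inferInstance
  haveI : IsAdicComplete (maximalIdeal (B₁ ⧸ J)) (B₁ ⧸ J) :=
    Groth.Agent.H26.ComplQuot.isAdicComplete_quotient J
  -- residue field of `X`
  let τ : ResidueField B₁ ≃+* ResidueField (B₁ ⧸ J) :=
    RingEquiv.ofBijective (ResidueField.map (Ideal.Quotient.mk J))
      ⟨(ResidueField.map (Ideal.Quotient.mk J)).injective, fun y => by
        obtain ⟨x, rfl⟩ := residue_surjective y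
        obtain ⟨z, rfl⟩ := Ideal.Quotient.mk_surjective x
        exact ⟨residue B₁ z, ResidueField.map_residue _ z⟩⟩
  have hτ : ∀ z : B₁, τ (residue B₁ z) = residue (B₁ ⧸ J) (Ideal.Quotient.mk J z) :=
    fun z => ResidueField.map_residue _ z
  let eX : ResidueField (B₁ ⧸ J) ≃ₐ[ResidueField A] K :=
    { τ.symm.trans e₁.toRingEquiv with
      commutes' := fun r => by
        obtain ⟨a, rfl⟩ := residue_surjective r
        obtain ⟨b, hb⟩ := Ideal.Quotient.mk_surjective (φ a)
        have h1 : algebraMap (ResidueField A) (ResidueField (B₁ ⧸ J)) (residue A a)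
            = residue (B₁ ⧸ J) (algebraMap A (B₁ ⧸ J) a) :=
          IsLocalRing.ResidueField.algebraMap_residue a
        have h2 : algebraMap A (B₁ ⧸ J) a = Ideal.Quotient.mk J (algebraMap B B₁ b) := by
          change q (φ a) = _
          rw [← hb, hq]
        change e₁ (τ.symm (algebraMap (ResidueField A) (ResidueField (B₁ ⧸ J)) (residue A a)))
          = _
        rw [h1, h2, ← hτ, τ.symm_apply_apply, ← IsLocalRing.ResidueField.algebraMap_residue,
          e₁.commutes]
        change algebraMap (ResidueField A) K (ρ (residue B b)) = _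
        rw [hρ b a hb] }
  haveI : Algebra.IsGeometricallyReduced (ResidueField A) (ResidueField (B₁ ⧸ J)) :=
    Algebra.IsGeometricallyReduced.of_injective eX.toAlgHom eX.injective
  have hX : EGA41.IsCohenAlgebra A (B₁ ⧸ J) :=
    ⟨inferInstance, inferInstance, inferInstance, inferInstance, hmX, inferInstance⟩
  obtain ⟨Φ⟩ := Groth.Agent.H47.CohenAlgUnique.nonempty_algEquiv K C' (B₁ ⧸ J) hC' hX
    ⟨AlgEquiv.refl⟩ ⟨eX⟩
  -- the two presentations of `C'`
  let f₁ : B₁ →+* C' := (Φ.symm : (B₁ ⧸ J) →+* C').comp (Ideal.Quotient.mk J)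
  have hf₁ : Function.Surjective f₁ := Φ.symm.surjective.comp Ideal.Quotient.mk_surjective
  have hk₁ : RingHom.ker f₁ = J := by
    ext x
    rw [RingHom.mem_ker]
    change Φ.symm (Ideal.Quotient.mk J x) = 0 ↔ _
    rw [map_eq_zero_iff _ Φ.symm.injective, Ideal.Quotient.eq_zero_iff_mem]
  let f' : B' →+* C' := (ε'.symm : (B' ⧸ I') →+* C').comp (Ideal.Quotient.mk I')
  have hf' : Function.Surjective f' := ε'.symm.surjective.comp Ideal.Quotient.mk_surjective
  have hk' : RingHom.ker f' = I' := by
    ext x
    rw [RingHom.mem_ker]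
    change ε'.symm (Ideal.Quotient.mk I' x) = 0 ↔ _
    rw [map_eq_zero_iff _ ε'.symm.injective, Ideal.Quotient.eq_zero_iff_mem]
  have key := Groth.Agent.H47.CI.geomDepth_independent_of_presentation C' B₁ B' f₁ hf₁ f' hf'
    e e' (hdimB₁.trans he) he'
  rw [hk₁, hk', hμ I] at key
  exact key

/-- The completion of `A'` is a Cohen `A`-algebra when `A → A'` is flat local with
`𝔪_A A' = 𝔪_A'` and separable residue field extension. -/
theorem isCohenAlgebra_adicCompletion (A A' : Type u) [CommRing A] [IsLocalRing A]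
    [IsNoetherianRing A] [CommRing A'] [IsLocalRing A'] [IsNoetherianRing A'] [Algebra A A']
    [IsLocalHom (algebraMap A A')] [Module.Flat A A']
    (hmax : Ideal.map (algebraMap A A') (maximalIdeal A) = maximalIdeal A')
    [Algebra.IsGeometricallyReduced (ResidueField A) (ResidueField A')] :
    ∃ (_ : IsLocalHom (algebraMap A (AdicCompletion (maximalIdeal A') A'))),
      EGA41.IsCohenAlgebra A (AdicCompletion (maximalIdeal A') A') := by
  classical
  let C' := AdicCompletion (maximalIdeal A') A'
  have halg : algebraMap A C' = (algebraMap A' C').comp (algebraMap A A') :=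
    IsScalarTower.algebraMap_eq A A' C'
  haveI hloc : IsLocalHom (algebraMap A C') := by
    rw [halg]
    exact RingHom.isLocalHom_comp _ _
  haveI : Module.Flat A C' := Module.Flat.trans A A' C'
  haveI : IsNoetherianRing C' :=
    Groth.Agent.H20.isNoetherianRing_adicCompletion_of_fg (maximalIdeal A')
      (IsNoetherian.noetherian _)
  have hm : (maximalIdeal A).map (algebraMap A C') = maximalIdeal C' := by
    rw [halg, ← Ideal.map_map, hmax]
    exact AdicCompletion.maximalIdeal_eq_map.symm
  have hbij := AdicCompletion.residueField_map_bijective (R := A')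
  let e1 : ResidueField A' ≃+* ResidueField C' := RingEquiv.ofBijective _ hbij
  let e : ResidueField C' ≃ₐ[ResidueField A] ResidueField A' :=
    { e1.symm with
      commutes' := fun r => by
        obtain ⟨a, rfl⟩ := residue_surjective r
        change e1.symm (algebraMap (ResidueField A) (ResidueField C') (residue A a)) = _
        rw [RingEquiv.symm_apply_eq]
        have h1 : algebraMap (ResidueField A) (ResidueField C') (residue A a)
            = residue C' (algebraMap A C' a) := IsLocalRing.ResidueField.algebraMap_residue a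
        have h2 : algebraMap (ResidueField A) (ResidueField A') (residue A a)
            = residue A' (algebraMap A A' a) := IsLocalRing.ResidueField.algebraMap_residue a
        rw [h1, h2, halg]
        exact (ResidueField.map_residue _ _).symm }
  refine ⟨hloc, inferInstance, inferInstance, inferInstance, inferInstance, hm, ?_⟩
  exact Algebra.IsGeometricallyReduced.of_injective e.toAlgHom e.injective

/-- **S5179.** -/
theorem geomDepth_eq_of_flat_localHom_residueField (A A' : Type u) [CommRing A] [IsLocalRing A]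
    [IsNoetherianRing A] [CommRing A'] [IsLocalRing A'] [IsNoetherianRing A'] [Algebra A A']
    [IsLocalHom (algebraMap A A')] [Module.Flat A A']
    (hmax : Ideal.map (algebraMap A A') (maximalIdeal A) = maximalIdeal A')
    (hsep : Algebra.FormallySmooth (ResidueField A) (ResidueField A'))
    (B B' : Type u) [CommRing B] [IsRegularLocalRing B] [CommRing B'] [IsRegularLocalRing B']
    (I : Ideal B) (I' : Ideal B')
    (hpres : Nonempty (AdicCompletion (maximalIdeal A) A ≃+* B ⧸ I))
    (hpres' : Nonempty (AdicCompletion (maximalIdeal A') A' ≃+* B' ⧸ I'))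
    (e e' : ℕ) (he : ringKrullDim B = (e : WithBot ℕ∞))
    (he' : ringKrullDim B' = (e' : WithBot ℕ∞)) :
    (e : ℤ) - (I.spanFinrank : ℤ) = (e' : ℤ) - (I'.spanFinrank : ℤ) := by
  classical
  obtain ⟨ε⟩ := hpres
  haveI : Algebra.IsGeometricallyReduced (ResidueField A) (ResidueField A') :=
    Groth.Agent.H47.formallySmooth_field_iff_isGeometricallyReduced.1 hsep
  obtain ⟨hloc, hC'⟩ := isCohenAlgebra_adicCompletion A A' hmax
  let C := AdicCompletion (maximalIdeal A) A
  haveI : IsLocalRing (B ⧸ I) := ε.isLocalRing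
  let φ : A →+* B ⧸ I := (ε : C →+* B ⧸ I).comp (algebraMap A C)
  haveI : IsLocalHom φ := RingHom.isLocalHom_comp _ _
  have hφflat : φ.Flat :=
    RingHom.Flat.comp (RingHom.flat_algebraMap_iff.2 inferInstance)
      (RingHom.Flat.of_bijective ε.bijective)
  have hφmax : (maximalIdeal A).map φ = maximalIdeal (B ⧸ I) := by
    change (maximalIdeal A).map ((ε : C →+* B ⧸ I).comp (algebraMap A C)) = _
    rw [← Ideal.map_map, ← AdicCompletion.maximalIdeal_eq_map]
    exact map_maximalIdeal_of_surjective (ε : C →+* B ⧸ I) ε.surjective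
  have hφres : Function.Surjective (ResidueField.map φ) := by
    intro y
    obtain ⟨x, rfl⟩ := residue_surjective y
    obtain ⟨c, rfl⟩ := ε.surjective x
    obtain ⟨r, hr⟩ := (AdicCompletion.residueField_map_bijective (R := A)).2 (residue C c)
    obtain ⟨a, rfl⟩ := residue_surjective r
    refine ⟨residue A a, ?_⟩
    rw [ResidueField.map_residue] at hr ⊢
    have := congrArg (ResidueField.map (ε : C →+* B ⧸ I)) hr
    rw [ResidueField.map_residue, ResidueField.map_residue] at this
    exact this
  exact geomDepth_eq_aux A (AdicCompletion (maximalIdeal A') A') hC' B B' I I' φ hφflat hφmax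
    hφres hpres' e e' he he'

end Groth.Agent.H47.GeomDepthFlat
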