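import Mathlib
import Groth.Prelude.Def_EGA4b
import Groth.Agent.H47.NormalLoc
import Groth.Agent.H47.GeomRegSep

set_option autoImplicit false
set_option linter.unusedSectionVars false
set_option linter.style.haveILetI false
set_option linter.unusedVariables false
universe u

namespace Groth.Agent.H47.GNS

open TensorProduct EGA4

section Quot

variable {T : Type u} [CommRing T]

theorem isNormalRing_quot (hT : IsNormalRing T) (I : Ideal T)
    (hI : ∀ (P : Ideal T) [P.IsPrime], I ≤ P → ∀ x ∈ I, ∃ s, s ∉ P ∧ s * x = 0) :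
    IsNormalRing (T ⧸ I) := by
  intro Q hQ
  have hle : I ≤ Q.comap (Ideal.Quotient.mk I) := by
    intro x hx
    rw [Ideal.mem_comap, Ideal.Quotient.eq_zero_iff_mem.2 hx]
    exact Q.zero_mem
  have hbij := RQL.bijective_localRingHom_quot I Q (hI _ hle)
  have e := RingEquiv.ofBijective _ hbij
  obtain ⟨h1, h2⟩ := hT (Q.comap (Ideal.Quotient.mk I))
  exact ⟨e.toMulEquiv.isDomain_iff.mp h1, IsIntegrallyClosed.of_equiv e⟩

theorem isNormalLocal_of_quot (I : Ideal T) (hTI : IsNormalRing (T ⧸ I)) (P : Ideal T) [P.IsPrime]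
    (hIP : I ≤ P) (hI : ∀ x ∈ I, ∃ s, s ∉ P ∧ s * x = 0) :
    IsDomain (Localization.AtPrime P) ∧ IsIntegrallyClosed (Localization.AtPrime P) := by
  set Q : Ideal (T ⧸ I) := P.map (Ideal.Quotient.mk I) with hQ
  haveI : Q.IsPrime := Ideal.map_isPrime_of_surjective Ideal.Quotient.mk_surjective (by
    rw [Ideal.mk_ker]; exact hIP)
  have hcomap : Q.comap (Ideal.Quotient.mk I) = P := by
    rw [hQ, Ideal.comap_map_of_surjective _ Ideal.Quotient.mk_surjective, ← RingHom.ker_eq_comap_bot,
      Ideal.mk_ker, sup_eq_left.2 hIP]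
  have hbij := RQL.bijective_localRingHom_quot I Q (by rw [hcomap]; exact hI)
  have e := RingEquiv.ofBijective _ hbij
  obtain ⟨h1, h2⟩ := hTI Q
  have h1' : IsDomain (Localization.AtPrime (Q.comap (Ideal.Quotient.mk I))) :=
    e.toMulEquiv.isDomain_iff.mpr h1
  have h2' : IsIntegrallyClosed (Localization.AtPrime (Q.comap (Ideal.Quotient.mk I))) :=
    IsIntegrallyClosed.of_equiv e.symm
  have key : ∀ (P' : Ideal T) [P'.IsPrime], P' = P →
      IsDomain (Localization.AtPrime P') ∧ IsIntegrallyClosed (Localization.AtPrime P') →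
      IsDomain (Localization.AtPrime P) ∧ IsIntegrallyClosed (Localization.AtPrime P) := by
    intro P' _ h
    subst h
    exact id
  exact key _ hcomap ⟨h1', h2'⟩

end Quot

section Core

variable (k' : Type u) [Field k'] (C A : Type u) [CommRing C] [Algebra k' C] [Module.Finite k' C]
  [IsReduced C] [CommRing A] [Algebra k' A]

theorem isNormalRing_tensor_of_forall_maximal
    (h : ∀ (m : Ideal C) [m.IsMaximal], IsNormalRing ((C ⧸ m) ⊗[k'] A)) :
    IsNormalRing (C ⊗[k'] A) := by
  haveI : IsArtinianRing C := IsArtinianRing.of_finite k' C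
  intro P hP
  set m := P.comap (algebraMap C (C ⊗[k'] A)) with hm
  haveI : m.IsPrime := Ideal.comap_isPrime _ P
  haveI : m.IsMaximal := IsArtinianRing.isMaximal_of_isPrime m
  have h1 : IsNormalRing ((C ⊗[k'] A) ⧸ m.map (algebraMap C (C ⊗[k'] A))) :=
    isNormalRing_of_ringEquiv
      (Algebra.TensorProduct.quotientTensorEquiv (R := k') k' A C m).toRingEquiv (h m)
  exact isNormalLocal_of_quot (m.map (algebraMap C (C ⊗[k'] A))) h1 P
    (Ideal.map_le_iff_le_comap.2 le_rfl)
    (GRS.exists_kill_map P m le_rfl (fun x hx => GRS.exists_kill_of_reduced_artinian m x hx))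

theorem isNormalRing_quot_tensor (h : IsNormalRing (C ⊗[k'] A)) (m : Ideal C) [m.IsMaximal] :
    IsNormalRing ((C ⧸ m) ⊗[k'] A) := by
  haveI : IsArtinianRing C := IsArtinianRing.of_finite k' C
  have h1 : IsNormalRing ((C ⊗[k'] A) ⧸ m.map (algebraMap C (C ⊗[k'] A))) := by
    apply isNormalRing_quot h
    intro P hP hle x hx
    have hm : m ≤ P.comap (algebraMap C (C ⊗[k'] A)) := Ideal.map_le_iff_le_comap.1 hle
    haveI : (P.comap (algebraMap C (C ⊗[k'] A))).IsPrime := Ideal.comap_isPrime _ P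
    exact GRS.exists_kill_map P m hm
      (fun y hy => GRS.exists_kill_of_reduced_artinian _ y (hm hy)) x hx
  exact isNormalRing_of_ringEquiv
    (Algebra.TensorProduct.quotientTensorEquiv (R := k') k' A C m).toRingEquiv.symm h1

end Core

section Main

variable (k : Type u) [Field k] (k' : Type u) [Field k'] [Algebra k k'] [Algebra.IsSeparable k k']

variable (A : Type u) [CommRing A] [Algebra k' A] [Algebra k A] [IsScalarTower k k' A]

theorem isGeomNormal_of_isSeparable_down
    (h : IsGeomNormal k' A) : IsGeomNormal k A := by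
  intro K _ _ hfin
  haveI : Module.Finite k K := hfin
  haveI : IsReduced (k' ⊗[k] K) := GRS.isReduced_tensor_finite k k' K
  have h1 : IsNormalRing ((k' ⊗[k] K) ⊗[k'] A) := by
    apply isNormalRing_tensor_of_forall_maximal
    intro m hm
    letI : Field ((k' ⊗[k] K) ⧸ m) := Ideal.Quotient.field m
    exact h ((k' ⊗[k] K) ⧸ m) inferInstance
  exact isNormalRing_of_ringEquiv (GRS.tensorEquiv k k' A K) h1

theorem isNormalRing_tensor_of_surjective
    (h : IsGeomNormal k A) (K' : Type u) [Field K'] [Algebra k' K'] [Algebra k K']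
    [IsScalarTower k k' K'] (K₁ : Type u) [Field K₁] [Algebra k K₁] [Module.Finite k K₁]
    (g : K₁ →ₐ[k] K')
    (hμ : Function.Surjective (Algebra.TensorProduct.lift (Algebra.ofId k' K') g
      (fun _ _ => Commute.all _ _))) :
    IsNormalRing (K' ⊗[k'] A) := by
  haveI : IsReduced (k' ⊗[k] K₁) := GRS.isReduced_tensor_finite k k' K₁
  set μ : (k' ⊗[k] K₁) →ₐ[k'] K' :=
    Algebra.TensorProduct.lift (Algebra.ofId k' K') g (fun _ _ => Commute.all _ _) with hμdef
  haveI : (RingHom.ker μ).IsMaximal := RingHom.ker_isMaximal_of_surjective μ hμ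
  have e : ((k' ⊗[k] K₁) ⧸ RingHom.ker μ) ≃ₐ[k'] K' := Ideal.quotientKerAlgEquivOfSurjective hμ
  have h0 : IsNormalRing (K₁ ⊗[k] A) := h K₁ inferInstance
  have h1 : IsNormalRing ((k' ⊗[k] K₁) ⊗[k'] A) :=
    isNormalRing_of_ringEquiv (GRS.tensorEquiv k k' A K₁).symm h0
  have h2 := isNormalRing_quot_tensor k' (k' ⊗[k] K₁) A h1 (RingHom.ker μ)
  have e2 : (((k' ⊗[k] K₁) ⧸ RingHom.ker μ) ⊗[k'] A) ≃+* (K' ⊗[k'] A) :=
    (Algebra.TensorProduct.congr e (AlgEquiv.refl : A ≃ₐ[k'] A)).toRingEquiv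
  exact isNormalRing_of_ringEquiv e2 h2

theorem isGeomNormal_of_isSeparable_up
    (h : IsGeomNormal k A) : IsGeomNormal k' A := by
  classical
  intro K' _ _ hfin
  haveI : Module.Finite k' K' := hfin
  letI : Algebra k K' := ((algebraMap k' K').comp (algebraMap k k')).toAlgebra
  haveI : IsScalarTower k k' K' := IsScalarTower.of_algebraMap_eq (fun _ => rfl)
  haveI : Algebra.IsAlgebraic k k' := Algebra.IsSeparable.isAlgebraic k k'
  haveI : Algebra.IsAlgebraic k' K' := Algebra.IsAlgebraic.of_finite k' K'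
  haveI : Algebra.IsAlgebraic k K' := Algebra.IsAlgebraic.trans k k' K'
  let b := Module.finBasis k' K'
  let K₁ : IntermediateField k K' := IntermediateField.adjoin k (Set.range b)
  haveI : FiniteDimensional k K₁ :=
    IntermediateField.finiteDimensional_adjoin (fun x _ => Algebra.IsIntegral.isIntegral x)
  refine isNormalRing_tensor_of_surjective k k' A h K' K₁ K₁.val ?_
  intro y
  refine ⟨∑ i, (b.repr y i) ⊗ₜ[k] (⟨b i, IntermediateField.subset_adjoin k _ ⟨i, rfl⟩⟩ : K₁), ?_⟩
  rw [map_sum]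
  conv_rhs => rw [← b.sum_repr y]
  refine Finset.sum_congr rfl (fun i _ => ?_)
  rw [Algebra.TensorProduct.lift_tmul, Algebra.smul_def]
  rfl

theorem isGeomNormal_iff_of_isSeparable :
    IsGeomNormal k A ↔ IsGeomNormal k' A :=
  ⟨isGeomNormal_of_isSeparable_up k k' A, isGeomNormal_of_isSeparable_down k k' A⟩

end Main

end Groth.Agent.H47.GNS
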