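import Mathlib
import Groth.Prelude.Def_Found

/-!
# Geometric regularity over a directed union of subfields
-/

set_option autoImplicit false
set_option linter.unusedSectionVars false
set_option linter.style.haveILetI false
set_option linter.unusedVariables false
universe u

namespace Groth.Agent.H47

open TensorProduct

/-- A finite subset of a directed union lies in one member. -/
lemma exists_index_subset_range {k : Type u} [Field k] {ι : Type u}
    (K : ι → Type u) [∀ i, Field (K i)] [∀ i, Algebra (K i) k]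
    (hdir : ∀ i j, ∃ l, Set.range (algebraMap (K i) k) ⊆ Set.range (algebraMap (K l) k) ∧
      Set.range (algebraMap (K j) k) ⊆ Set.range (algebraMap (K l) k))
    (hcov : ∀ x : k, ∃ i, x ∈ Set.range (algebraMap (K i) k)) (s : Set k) (hs : s.Finite) :
    ∃ i, s ⊆ Set.range (algebraMap (K i) k) := by
  classical
  induction s, hs using Set.Finite.induction_on with
  | empty =>
    obtain ⟨i, -⟩ := hcov 0
    exact ⟨i, Set.empty_subset _⟩
  | insert _ _ ih =>
    rename_i a s _ _
    obtain ⟨i, hi⟩ := ih
    obtain ⟨j, hj⟩ := hcov a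
    obtain ⟨l, hl₁, hl₂⟩ := hdir i j
    exact ⟨l, Set.insert_subset (hl₂ hj) (hi.trans hl₁)⟩

theorem isGeometricallyRegular_of_directed_subfields (k : Type u) [Field k] {ι : Type u}
    (K : ι → Type u) [∀ i, Field (K i)] [∀ i, Algebra (K i) k]
    (hdir : ∀ i j, ∃ l, Set.range (algebraMap (K i) k) ⊆ Set.range (algebraMap (K l) k) ∧
      Set.range (algebraMap (K j) k) ⊆ Set.range (algebraMap (K l) k))
    (hcov : ∀ x : k, ∃ i, x ∈ Set.range (algebraMap (K i) k))
    (A : Type u) [CommRing A] [Algebra k A] [∀ i, Algebra (K i) A]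
    [∀ i, IsScalarTower (K i) k A] (h : ∀ i, CAlg.IsGeometricallyRegular (K i) A) :
    CAlg.IsGeometricallyRegular k A := by
  classical
  intro k' _ _ hfin
  haveI : Module.Finite k k' := hfin
  haveI : Algebra.FinitePresentation k k' :=
    Algebra.FinitePresentation.of_finiteType.mp inferInstance
  let P := Algebra.Presentation.ofFinitePresentation k k'
  obtain ⟨i, hi⟩ := exists_index_subset_range K hdir hcov P.coeffs P.finite_coeffs
  letI : Algebra (K i) k' := ((algebraMap k k').comp (algebraMap (K i) k)).toAlgebra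
  haveI : IsScalarTower (K i) k k' := IsScalarTower.of_algebraMap_eq (fun _ => rfl)
  haveI : P.HasCoeffs (K i) := ⟨hi⟩
  let e := P.tensorModelOfHasCoeffsEquiv (K i)
  -- the model is a field, finite over `K i`
  have hinj : Function.Injective
      ((e.toAlgHom.restrictScalars (K i)).comp
        (Algebra.TensorProduct.includeRight : P.ModelOfHasCoeffs (K i) →ₐ[K i] _)) := by
    refine e.injective.comp ?_
    exact Algebra.TensorProduct.includeRight_injective (algebraMap (K i) k).injective
  haveI : IsDomain (P.ModelOfHasCoeffs (K i)) := hinj.isDomain _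
  haveI : Module.Finite k (k ⊗[K i] P.ModelOfHasCoeffs (K i)) :=
    Module.Finite.equiv e.symm.toLinearEquiv
  haveI : Module.Finite (K i) (P.ModelOfHasCoeffs (K i)) :=
    Module.Finite.of_finite_tensorProduct_of_faithfullyFlat k
  haveI : IsArtinianRing (P.ModelOfHasCoeffs (K i)) := IsArtinianRing.of_finite (K i) _
  letI : Field (P.ModelOfHasCoeffs (K i)) :=
    (IsArtinianRing.isField_of_isDomain (P.ModelOfHasCoeffs (K i))).toField
  have hreg : IsRegularRing (P.ModelOfHasCoeffs (K i) ⊗[K i] A) :=
    h i (P.ModelOfHasCoeffs (K i)) inferInstance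
  -- transport along the chain of isomorphisms
  haveI : IsRegularRing (A ⊗[K i] P.ModelOfHasCoeffs (K i)) :=
    IsRegularRing.of_ringEquiv (Algebra.TensorProduct.comm (K i) _ A).toRingEquiv
  let e₁ : A ⊗[k] (k ⊗[K i] P.ModelOfHasCoeffs (K i)) ≃ₐ[A] A ⊗[K i] P.ModelOfHasCoeffs (K i) :=
    Algebra.TensorProduct.cancelBaseChange (K i) k A A _
  let e₂ : A ⊗[k] (k ⊗[K i] P.ModelOfHasCoeffs (K i)) ≃ₐ[A] A ⊗[k] k' :=
    Algebra.TensorProduct.congr AlgEquiv.refl e
  let e₃ : A ⊗[k] k' ≃ₐ[k] k' ⊗[k] A := Algebra.TensorProduct.comm k A k'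
  exact IsRegularRing.of_ringEquiv
    ((e₁.symm.toRingEquiv.trans e₂.toRingEquiv).trans e₃.toRingEquiv)

end Groth.Agent.H47
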