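import Mathlib.RingTheory.Jacobson.Ring
import Mathlib.RingTheory.Algebraic.Integral
import Mathlib.RingTheory.Localization.Away.Basic
import Mathlib.RingTheory.Localization.Ideal
import Mathlib.RingTheory.Localization.FractionRing
import Mathlib.RingTheory.FiniteType

set_option autoImplicit false
universe u

namespace Groth.Agent.H47

/-- Goldman-type lemma: a domain `D` contained in a field `K` of finite type over `D` has a nonzero
element lying in every nonzero prime. Moreover `K` is finite over the fraction field. -/
theorem exists_ne_zero_forall_prime_mem (D K : Type*) [CommRing D] [IsDomain D] [Field K]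
    [Algebra D K] [FaithfulSMul D K] [Algebra.FiniteType D K] :
    ∃ g : D, g ≠ 0 ∧ ∀ q : Ideal D, q.IsPrime → q ≠ ⊥ → g ∈ q := by
  classical
  have hDK : Function.Injective (algebraMap D K) := FaithfulSMul.algebraMap_injective D K
  letI : Algebra (FractionRing D) K := (IsFractionRing.lift hDK).toAlgebra
  haveI : IsScalarTower D (FractionRing D) K :=
    IsScalarTower.of_algebraMap_eq (fun x => (IsFractionRing.lift_algebraMap hDK x).symm)
  haveI : Algebra.FiniteType (FractionRing D) K :=
    Algebra.FiniteType.of_restrictScalars_finiteType D (FractionRing D) K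
  haveI : Module.Finite (FractionRing D) K :=
    finite_of_finite_type_of_isJacobsonRing (FractionRing D) K
  haveI : Algebra.IsAlgebraic (FractionRing D) K := Algebra.IsAlgebraic.of_finite _ K
  haveI : Algebra.IsAlgebraic D (FractionRing D) :=
    IsLocalization.isAlgebraic _ (nonZeroDivisors D)
  haveI : Algebra.IsAlgebraic D K := Algebra.IsAlgebraic.trans D (FractionRing D) K
  obtain ⟨s, hs⟩ := (Algebra.FiniteType.out : (⊤ : Subalgebra D K).FG)
  obtain ⟨g, hg0, hg⟩ := Algebra.IsAlgebraic.exists_integral_multiples D s
  refine ⟨g, hg0, ?_⟩
  intro q hq hq0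
  by_contra hgq
  have hgK0 : algebraMap D K g ≠ 0 := by
    rw [Ne, map_eq_zero_iff _ hDK]; exact hg0
  have hgK : IsUnit (algebraMap D K g) := IsUnit.mk0 _ hgK0
  letI : Algebra (Localization.Away g) K := (IsLocalization.Away.lift g hgK).toAlgebra
  haveI : IsScalarTower D (Localization.Away g) K :=
    IsScalarTower.of_algebraMap_eq (fun x => (IsLocalization.Away.lift_eq g hgK x).symm)
  haveI : Algebra.IsIntegral (Localization.Away g) K := by
    constructor
    intro x
    have hx : x ∈ Algebra.adjoin D (s : Set K) := by rw [hs]; trivial
    have hle : Algebra.adjoin D (s : Set K) ≤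
        (integralClosure (Localization.Away g) K).restrictScalars D := by
      apply Algebra.adjoin_le
      intro z hz
      have h1 : IsIntegral (Localization.Away g) (g • z) := (hg z hz).tower_top
      obtain ⟨u, hu⟩ := IsLocalization.Away.algebraMap_isUnit (S := Localization.Away g) g
      have h2 : z = (↑u⁻¹ : Localization.Away g) • (g • z) := by
        rw [← algebraMap_smul (Localization.Away g) g z, ← hu, smul_smul, Units.inv_mul, one_smul]
      show IsIntegral (Localization.Away g) z
      rw [h2]
      exact h1.smul _
    exact hle hx
  have hinjD : Function.Injective (algebraMap D (Localization.Away g)) :=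
    IsLocalization.injective _ (powers_le_nonZeroDivisors_of_noZeroDivisors hg0)
  have hinj : Function.Injective (algebraMap (Localization.Away g) K) := by
    show Function.Injective (IsLocalization.Away.lift g hgK)
    rw [IsLocalization.Away.lift, IsLocalization.lift_injective_iff]
    intro x y
    rw [hinjD.eq_iff, hDK.eq_iff]
  have hfield : IsField (Localization.Away g) :=
    isField_of_isIntegral_of_isField hinj (Field.toIsField K)
  have hdisj : Disjoint (Submonoid.powers g : Set D) (q : Set D) := by
    rw [Set.disjoint_left]
    rintro _ ⟨n, rfl⟩ hn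
    exact hgq (hq.mem_of_pow_mem n hn)
  have hprime : (q.map (algebraMap D (Localization.Away g))).IsPrime :=
    IsLocalization.isPrime_of_isPrime_disjoint (Submonoid.powers g) _ q hq hdisj
  have hbot : q.map (algebraMap D (Localization.Away g)) = ⊥ := by
    letI := hfield.toField
    exact (Ideal.eq_bot_or_top _).resolve_right hprime.ne_top
  apply hq0
  rw [eq_bot_iff]
  intro x hx
  have : algebraMap D (Localization.Away g) x ∈ q.map (algebraMap D (Localization.Away g)) :=
    Ideal.mem_map_of_mem _ hx
  rw [hbot, Ideal.mem_bot, map_eq_zero_iff _ hinjD] at this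
  rw [this]; exact Ideal.zero_mem _

end Groth.Agent.H47
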