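import Mathlib
import Groth.Agent.H50.ImmClosure
import Groth.Agent.H19.SchDenseReduced

/-!
# An immersion is a schematically dense open immersion into its scheme-theoretic image (S9385)
-/

set_option autoImplicit false
set_option backward.isDefEq.respectTransparency false
set_option linter.unusedSectionVars false
set_option linter.style.haveILetI false
universe u
open CategoryTheory CategoryTheory.Limits AlgebraicGeometry Opposite Topology TopologicalSpace

namespace Groth.Agent.H47.ImmImage

/-- the kernel of a morphism from a reduced scheme which factors through a reduced closed subscheme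
supported on the closure of its range. -/
theorem ker_eq_of_isReduced {Z X W : Scheme.{u}} (h : Z ⟶ X) (j : Z ⟶ W) (i : W ⟶ X)
    [IsClosedImmersion i] [IsReduced W] (hri : Set.range i = closure (Set.range h))
    (hji : j ≫ i = h) : h.ker = i.ker := by
  apply le_antisymm
  · rw [Groth.Agent.H22.ker_eq_vanishingIdeal_of_isReduced i,
      ← Scheme.IdealSheafData.le_support_iff_le_vanishingIdeal]
    intro x hx
    have hx' : x ∈ closure (Set.range h) := by rw [← hri]; exact hx
    have hcl : IsClosed (h.ker.support : Set X) := h.ker.support.isClosed
    exact closure_minimal h.range_subset_ker_support hcl hx'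
  · rw [← hji]
    exact j.le_ker_comp i

/-- quasi-compact case of the "for every open" density. -/
theorem dominant_homOfLE_of_quasiCompact {B : Scheme.{u}} (U : B.Opens) [QuasiCompact U.ι]
    [IsSchemeTheoreticallyDominant U.ι] (W : B.Opens) :
    IsSchemeTheoreticallyDominant (B.homOfLE (inf_le_right : U ⊓ W ≤ W)) :=
  IsSchemeTheoreticallyDominant.of_isPullback (isPullback_opens_inf U W)

/-- S9385. -/
theorem main {Z X : Scheme.{u}} (h : Z ⟶ X) [IsImmersion h]
    (hyp : QuasiCompact h ∨ IsReduced Z) :
    ∃ hI : IsOpenImmersion h.toImage,
      (∀ W : h.image.Opens, IsSchemeTheoreticallyDominant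
          (h.image.homOfLE (inf_le_right : @Scheme.Hom.opensRange _ _ h.toImage hI ⊓ W ≤ W))) ∧
        DenseRange h.toImage.base := by
  rcases hyp with hqc | hred
  · haveI := hqc
    haveI hoi : IsOpenImmersion h.toImage := inferInstance
    haveI hsd : IsSchemeTheoreticallyDominant h.toImage :=
      Groth.Agent.H50.isSchemeTheoreticallyDominant_toImage h
    haveI hd : IsDominant h.toImage := inferInstance
    refine ⟨hoi, ?_, hd.denseRange⟩
    have h3 : h.toImage.opensRange.ι = h.toImage.isoOpensRange.inv ≫ h.toImage :=
      ((Iso.inv_comp_eq _).2 (Scheme.Hom.isoOpensRange_hom_ι h.toImage).symm).symm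
    haveI : QuasiCompact h.toImage.opensRange.ι := by rw [h3]; infer_instance
    haveI : IsSchemeTheoreticallyDominant h.toImage.opensRange.ι := by rw [h3]; infer_instance
    intro W
    exact dominant_homOfLE_of_quasiCompact _ W
  · haveI := hred
    obtain ⟨W₀, j, i, hj, hi, hW, hri, hji⟩ :=
      Groth.Agent.H22.exists_factor_of_isImmersion_of_isReduced h
    haveI := hj
    haveI := hi
    haveI := hW
    have hker : h.ker = i.ker := ker_eq_of_isReduced h j i hri hji
    have hk : i.ker = h.imageι.ker := by
      rw [← hker]; exact (Scheme.IdealSheafData.ker_subschemeι _).symm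
    -- `h.image ≅ W₀`
    let ε : h.image ⟶ W₀ := IsClosedImmersion.lift i h.imageι hk.le
    haveI : IsIso ε := IsClosedImmersion.isIso_lift i h.imageι hk
    have hε : ε ≫ i = h.imageι := IsClosedImmersion.lift_fac _ _ _
    haveI hredI : IsReduced h.image := isReduced_of_isOpenImmersion ε
    have hrange : Set.range h.imageι = closure (Set.range h) := by
      rw [← hri, ← hε]
      have : Set.range (ε ≫ i) = i '' Set.range ε := by
        rw [Scheme.Hom.comp_base, TopCat.coe_comp, Set.range_comp]
      rw [this, Set.range_eq_univ.mpr ε.surjective, Set.image_univ]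
    obtain ⟨hoi, -, hd⟩ := Groth.Agent.H50.immersion_into_closure_of_isReduced h h.imageι
      h.toImage h.toImage_imageι hrange
    refine ⟨hoi, ?_, hd⟩
    intro W
    have hdense : Dense ((@Scheme.Hom.opensRange _ _ h.toImage hoi : h.image.Opens) :
        Set h.image) := hd
    haveI := Groth.Agent.H19.SchDenseReduced.isDominant_homOfLE_inf h.image _ hdense W
    exact IsSchemeTheoreticallyDominant.of_isDominant _

end Groth.Agent.H47.ImmImage
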