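import Mathlib
import Groth.Prelude.Def_Smoothing

/-!
# Ind-smooth algebras: flatness and compatibility with integral closure
-/

set_option autoImplicit false
set_option linter.unusedSectionVars false
set_option linter.style.haveILetI false
set_option linter.unusedVariables false
universe u

namespace Groth.Agent.H47

open TensorProduct

/-- An ind-smooth algebra is flat (equational criterion). -/
theorem flat_of_indSmooth (R : Type u) [CommRing R] (S : Type u) [CommRing S] [Algebra R S]
    (hS : Smoothing.IndSmooth R S) : Module.Flat R S := by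
  classical
  refine Module.Flat.of_forall_isTrivialRelation ?_
  intro l f x hfx
  let rel : MvPolynomial (Fin l) R := ∑ i, MvPolynomial.C (f i) * MvPolynomial.X i
  haveI : Algebra.FinitePresentation R (MvPolynomial (Fin l) R ⧸ Ideal.span {rel}) :=
    Algebra.FinitePresentation.quotient ⟨{rel}, by simp⟩
  have hrel : MvPolynomial.aeval x rel = 0 := by
    simp only [rel, map_sum, map_mul, MvPolynomial.aeval_C, MvPolynomial.aeval_X]
    simpa [Algebra.smul_def] using hfx
  let φ : (MvPolynomial (Fin l) R ⧸ Ideal.span {rel}) →ₐ[R] S :=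
    Ideal.Quotient.liftₐ _ (MvPolynomial.aeval x) (by
      intro a ha
      obtain ⟨c, rfl⟩ := Ideal.mem_span_singleton'.mp ha
      rw [map_mul, hrel, mul_zero])
  obtain ⟨B, instB, algB, hsm, g, h, hgh⟩ := hS _ inferInstance φ
  haveI : Algebra.Smooth R B := hsm
  haveI : Module.Flat R B := inferInstance
  let ξ : Fin l → B := fun i => g (Ideal.Quotient.mk _ (MvPolynomial.X i))
  have hB : ∑ i, f i • ξ i = 0 := by
    have : g (Ideal.Quotient.mk _ rel) = 0 := by
      rw [Ideal.Quotient.eq_zero_iff_mem.mpr (Ideal.mem_span_singleton_self rel), map_zero]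
    simp only [rel, map_sum, map_mul] at this
    rw [← this]
    refine Finset.sum_congr rfl fun i _ => ?_
    rw [Algebra.smul_def]
    congr 1
    have h1 : (Ideal.Quotient.mk (Ideal.span {rel})) (MvPolynomial.C (f i)) =
        algebraMap R _ (f i) := rfl
    rw [h1, AlgHom.commutes]
  obtain ⟨k, a, y, hxy, hfa⟩ := Module.Flat.isTrivialRelation_of_sum_smul_eq_zero (R := R) (M := B) (f := f) (x := ξ) hB
  refine ⟨k, a, fun j => h (y j), fun i => ?_, hfa⟩
  have h2 : x i = h (ξ i) := by
    have := AlgHom.congr_fun hgh (Ideal.Quotient.mk _ (MvPolynomial.X i))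
    simp only [AlgHom.comp_apply] at this
    rw [this]
    simp [φ]
  rw [h2, hxy i, map_sum]
  refine Finset.sum_congr rfl fun j _ => ?_
  rw [map_smul]

/-- Finitely presented approximation: an element of `A₀ ⊗ B` dying in `S ⊗ B` already dies in
`A₁ ⊗ B` for some finitely presented `A₁` between `A₀` and `S`. -/
theorem exists_fp_factor_kill (R : Type u) [CommRing R] (S : Type u) [CommRing S] [Algebra R S]
    (B : Type u) [CommRing B] [Algebra R B] (A₀ : Type u) [CommRing A₀] [Algebra R A₀]
    [Algebra.FinitePresentation R A₀] (f₀ : A₀ →ₐ[R] S) (t : A₀ ⊗[R] B)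
    (ht : Algebra.TensorProduct.map f₀ (AlgHom.id R B) t = 0) :
    ∃ (A₁ : Type u) (_ : CommRing A₁) (_ : Algebra R A₁), Algebra.FinitePresentation R A₁ ∧
      ∃ (g : A₀ →ₐ[R] A₁) (f₁ : A₁ →ₐ[R] S), f₁.comp g = f₀ ∧
        Algebra.TensorProduct.map g (AlgHom.id R B) t = 0 := by
  classical
  letI : Algebra A₀ S := f₀.toRingHom.toAlgebra
  haveI : IsScalarTower R A₀ S := IsScalarTower.of_algebraMap_eq (fun r => (f₀.commutes r).symm)
  -- the big polynomial ring
  let π : MvPolynomial S A₀ →ₐ[A₀] S := MvPolynomial.aeval id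
  have hπ : Function.Surjective π := fun s => ⟨MvPolynomial.X s, by simp [π]⟩
  let πR : MvPolynomial S A₀ →ₐ[R] S := π.restrictScalars R
  let ι : A₀ →ₐ[R] MvPolynomial S A₀ := IsScalarTower.toAlgHom R A₀ _
  have hπι : πR.comp ι = f₀ := AlgHom.ext fun a => by
    change π (algebraMap A₀ _ a) = f₀ a
    rw [AlgHom.commutes]
    rfl
  let t' : MvPolynomial S A₀ ⊗[R] B := Algebra.TensorProduct.map ι (AlgHom.id R B) t
  have ht' : t' ∈ RingHom.ker (Algebra.TensorProduct.map πR (AlgHom.id R B)) := by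
    rw [RingHom.mem_ker]
    change (Algebra.TensorProduct.map πR (AlgHom.id R B))
      ((Algebra.TensorProduct.map ι (AlgHom.id R B)) t) = 0
    rw [← AlgHom.comp_apply, ← Algebra.TensorProduct.map_comp, hπι, AlgHom.comp_id]
    exact ht
  rw [Algebra.TensorProduct.rTensor_ker πR hπ, Ideal.map, Ideal.span,
    Submodule.mem_span_iff_exists_finset_subset] at ht'
  obtain ⟨c, T', hT', -, hsum⟩ := ht'
  obtain ⟨T, hTK, hTT'⟩ : ∃ T : Finset (MvPolynomial S A₀), (∀ κ ∈ T, πR κ = 0) ∧
      ∀ w ∈ T', ∃ κ ∈ T, (Algebra.TensorProduct.includeLeft : _ →ₐ[R] _ ⊗[R] B) κ = w := by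
    choose! pre hpre using fun w (hw : w ∈ T') => hT' hw
    refine ⟨T'.image pre, fun κ hκ => ?_, fun w hw => ⟨pre w, Finset.mem_image_of_mem _ hw,
      (hpre w hw).2⟩⟩
    obtain ⟨w, hw, rfl⟩ := Finset.mem_image.mp hκ
    exact (hpre w hw).1
  -- finitely many variables
  let F : Finset S := T.biUnion MvPolynomial.vars
  let ρ : MvPolynomial F A₀ →ₐ[A₀] MvPolynomial S A₀ := MvPolynomial.rename Subtype.val
  let r : MvPolynomial S A₀ →ₐ[A₀] MvPolynomial F A₀ :=
    MvPolynomial.killCompl Subtype.val_injective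
  have hrρ : ∀ q, r (ρ q) = q := fun q =>
    AlgHom.congr_fun (MvPolynomial.killCompl_comp_rename Subtype.val_injective) q
  have hρr : ∀ κ ∈ T, ρ (r κ) = κ := by
    intro κ hκ
    obtain ⟨q, hq⟩ := MvPolynomial.exists_rename_eq_of_vars_subset_range κ
      (Subtype.val : F → S) Subtype.val_injective (by
        intro s hs
        exact ⟨⟨s, Finset.mem_biUnion.mpr ⟨κ, hκ, hs⟩⟩, rfl⟩)
    change ρ q = κ at hq
    rw [← hq, hrρ]
  let KF : Ideal (MvPolynomial F A₀) := Ideal.span ((T.image r : Finset _) : Set _)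
  haveI : Algebra.FinitePresentation R (MvPolynomial F A₀) :=
    Algebra.FinitePresentation.trans R A₀ _
  haveI : Algebra.FinitePresentation R (MvPolynomial F A₀ ⧸ KF) :=
    Algebra.FinitePresentation.quotient ⟨T.image r, rfl⟩
  let g : A₀ →ₐ[R] (MvPolynomial F A₀ ⧸ KF) :=
    (Ideal.Quotient.mkₐ R KF).comp (IsScalarTower.toAlgHom R A₀ _)
  let f₁ : (MvPolynomial F A₀ ⧸ KF) →ₐ[R] S :=
    Ideal.Quotient.liftₐ KF (πR.comp (ρ.restrictScalars R)) (by
      intro a ha
      have hle : KF ≤ RingHom.ker (πR.comp (ρ.restrictScalars R)).toRingHom := by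
        rw [Ideal.span_le]
        intro x hx
        obtain ⟨κ, hκ, rfl⟩ := Finset.mem_image.mp hx
        rw [SetLike.mem_coe, RingHom.mem_ker]
        change πR (ρ (r κ)) = 0
        rw [hρr κ hκ, hTK κ hκ]
      exact hle ha)
  refine ⟨_, inferInstance, inferInstance, inferInstance, g, f₁, ?_, ?_⟩
  · refine AlgHom.ext fun a => ?_
    change πR (ρ (algebraMap A₀ _ a)) = f₀ a
    rw [AlgHom.commutes]
    change π (algebraMap A₀ _ a) = f₀ a
    rw [AlgHom.commutes]
    rfl
  · -- the kill
    let rB := Algebra.TensorProduct.map (r.restrictScalars R) (AlgHom.id R B)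
    let mB := Algebra.TensorProduct.map (Ideal.Quotient.mkₐ R KF) (AlgHom.id R B)
    have h1 : Algebra.TensorProduct.map g (AlgHom.id R B) t = mB (rB t') := by
      change _ = mB (rB (Algebra.TensorProduct.map ι (AlgHom.id R B) t))
      rw [← AlgHom.comp_apply, ← AlgHom.comp_apply, ← Algebra.TensorProduct.map_comp,
        ← Algebra.TensorProduct.map_comp]
      congr 2
      refine AlgHom.ext fun a => ?_
      change _ = Ideal.Quotient.mkₐ R KF (r (algebraMap A₀ _ a))
      rw [AlgHom.commutes]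
      rfl
    rw [h1, ← hsum, map_sum, map_sum]
    refine Finset.sum_eq_zero fun w hw => ?_
    obtain ⟨κ, hκ, rfl⟩ := hTT' w hw
    rw [smul_eq_mul, map_mul, map_mul]
    have : mB (rB ((Algebra.TensorProduct.includeLeft : _ →ₐ[R] _ ⊗[R] B) κ)) = 0 := by
      change (Ideal.Quotient.mk KF (r κ)) ⊗ₜ[R] (1 : B) = 0
      rw [Ideal.Quotient.eq_zero_iff_mem.mpr
        (Ideal.subset_span (Finset.mem_coe.mpr (Finset.mem_image_of_mem r hκ))), zero_tmul]
    rw [this, mul_zero]

/-- Base change along an ind-smooth algebra commutes with integral closure. -/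
theorem toIntegralClosure_bijective_of_indSmooth (R : Type u) [CommRing R] (S : Type u)
    [CommRing S] [Algebra R S] (hS : Smoothing.IndSmooth R S) (B : Type u) [CommRing B]
    [Algebra R B] : Function.Bijective (TensorProduct.toIntegralClosure R S B) := by
  classical
  haveI := flat_of_indSmooth R S hS
  refine ⟨TensorProduct.toIntegralClosure_injective_of_flat, ?_⟩
  rintro ⟨y, hy⟩
  obtain ⟨p, hpm, hp⟩ := hy
  obtain ⟨T, hT⟩ := TensorProduct.exists_finset y
  -- the finitely presented algebra of coefficients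
  let f₀ : MvPolynomial (↥T ⊕ Fin (p.natDegree + 1)) R →ₐ[R] S :=
    MvPolynomial.aeval (Sum.elim (fun i => i.1.1) (fun l => p.coeff l))
  let y₀ : MvPolynomial (↥T ⊕ Fin (p.natDegree + 1)) R ⊗[R] B :=
    ∑ i : ↥T, (MvPolynomial.X (Sum.inl i)) ⊗ₜ[R] i.1.2
  have hy₀ : Algebra.TensorProduct.map f₀ (AlgHom.id R B) y₀ = y := by
    rw [hT, map_sum, ← Finset.sum_coe_sort T]
    refine Finset.sum_congr rfl fun i _ => ?_
    rw [Algebra.TensorProduct.map_tmul]
    simp [f₀]
  have hlift : p ∈ Polynomial.lifts f₀.toRingHom := by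
    rw [Polynomial.lifts_iff_coeff_lifts]
    intro n
    by_cases hn : n < p.natDegree + 1
    · exact ⟨MvPolynomial.X (Sum.inr ⟨n, hn⟩), by simp [f₀]⟩
    · exact ⟨0, by rw [map_zero, Polynomial.coeff_eq_zero_of_natDegree_lt (by omega)]⟩
  obtain ⟨p₀, hp₀map, -, hp₀monic⟩ := Polynomial.lifts_and_natDegree_eq_and_monic hlift hpm
  have hcompat : ∀ {A A' : Type u} [CommRing A] [CommRing A'] [Algebra R A] [Algebra R A']
      (θ : A →ₐ[R] A'), (algebraMap A' (A' ⊗[R] B)).comp θ.toRingHom =
        (Algebra.TensorProduct.map θ (AlgHom.id R B)).toRingHom.comp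
          (algebraMap A (A ⊗[R] B)) := fun θ => RingHom.ext fun a => by
    simp [Algebra.TensorProduct.algebraMap_apply]
  have ht : Algebra.TensorProduct.map f₀ (AlgHom.id R B) (Polynomial.aeval y₀ p₀) = 0 := by
    have := Polynomial.map_aeval_eq_aeval_map (hcompat f₀) p₀ y₀
    refine this.trans ?_
    rw [hp₀map]
    change Polynomial.aeval (Algebra.TensorProduct.map f₀ (AlgHom.id R B) y₀) p = 0
    rw [hy₀, Polynomial.aeval_def]
    exact hp
  obtain ⟨A₁, _, _, hfp, g, f₁, hgf, hkill⟩ := exists_fp_factor_kill R S B _ f₀ _ ht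
  obtain ⟨B₁, _, _, hsm, g', h', hgh⟩ := hS A₁ hfp f₁
  haveI : Algebra.Smooth R B₁ := hsm
  let θ : MvPolynomial (↥T ⊕ Fin (p.natDegree + 1)) R →ₐ[R] B₁ := g'.comp g
  let y₁ : B₁ ⊗[R] B := Algebra.TensorProduct.map θ (AlgHom.id R B) y₀
  have hy₁ : IsIntegral B₁ y₁ := by
    refine ⟨p₀.map θ.toRingHom, hp₀monic.map _, ?_⟩
    rw [← Polynomial.aeval_def]
    have := Polynomial.map_aeval_eq_aeval_map (hcompat θ) p₀ y₀
    refine this.symm.trans ?_
    change Algebra.TensorProduct.map (g'.comp g) (AlgHom.id R B) (Polynomial.aeval y₀ p₀) = 0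
    have h2 : Algebra.TensorProduct.map (g'.comp g) (AlgHom.id R B) =
        (Algebra.TensorProduct.map g' (AlgHom.id R B)).comp
          (Algebra.TensorProduct.map g (AlgHom.id R B)) := by
      rw [← Algebra.TensorProduct.map_comp, AlgHom.comp_id]
    rw [h2, AlgHom.comp_apply, hkill, map_zero]
  obtain ⟨z, hz⟩ := (TensorProduct.toIntegralClosure_bijective_of_smooth
    (R := R) (S := B₁) (B := B)).2 ⟨y₁, hy₁⟩
  refine ⟨Algebra.TensorProduct.map h' (AlgHom.id R (integralClosure R B)) z, ?_⟩
  apply Subtype.ext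
  have hz' : Algebra.TensorProduct.map (AlgHom.id B₁ B₁) (integralClosure R B).val z = y₁ :=
    congrArg Subtype.val hz
  change Algebra.TensorProduct.map (AlgHom.id S S) (integralClosure R B).val
    (Algebra.TensorProduct.map h' (AlgHom.id R (integralClosure R B)) z) = y
  have h3 : ∀ w : B₁ ⊗[R] integralClosure R B,
      Algebra.TensorProduct.map (AlgHom.id S S) (integralClosure R B).val
        (Algebra.TensorProduct.map h' (AlgHom.id R (integralClosure R B)) w) =
      Algebra.TensorProduct.map h' (AlgHom.id R B)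
        (Algebra.TensorProduct.map (AlgHom.id B₁ B₁) (integralClosure R B).val w) := by
    intro w
    induction w using TensorProduct.induction_on with
    | zero => simp
    | tmul b c => rfl
    | add w₁ w₂ h₁ h₂ => rw [map_add, map_add, map_add, map_add, h₁, h₂]
  rw [h3, hz', ← hy₀]
  change Algebra.TensorProduct.map h' (AlgHom.id R B)
    (Algebra.TensorProduct.map (g'.comp g) (AlgHom.id R B) y₀) = _
  rw [← AlgHom.comp_apply, ← Algebra.TensorProduct.map_comp, AlgHom.comp_id,
    ← AlgHom.comp_assoc, hgh, hgf]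

end Groth.Agent.H47
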