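import Mathlib.RingTheory.Localization.Integral
import Mathlib.RingTheory.Localization.Finiteness
import Mathlib.RingTheory.IntegralClosure.IntegrallyClosed
import Mathlib.RingTheory.Finiteness.Basic

set_option autoImplicit false
universe u

namespace Groth.Agent.H47

/-- Finiteness of the integral closure of `R` in `L` can be checked on a cover of `Spec R` by
principal opens. -/
theorem finite_integralClosure_of_span_eq_top {R L : Type*} [CommRing R] [CommRing L]
    [Algebra R L] {ι : Type*} [Finite ι] (f : ι → R) (hf : Ideal.span (Set.range f) = ⊤)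
    (Rf : ι → Type*) [∀ i, CommRing (Rf i)] [∀ i, Algebra R (Rf i)] [∀ i, Algebra (Rf i) L]
    [∀ i, IsScalarTower R (Rf i) L] [∀ i, IsLocalization.Away (f i) (Rf i)]
    (h : ∀ i, Module.Finite (Rf i) (integralClosure (Rf i) L)) :
    Module.Finite R (integralClosure R L) := by
  classical
  cases nonempty_fintype ι
  have h2 : ∀ i, ∃ t' : Finset L, (∀ y ∈ t', IsIntegral R y) ∧
      Submodule.span (Rf i) (t' : Set L) = Subalgebra.toSubmodule (integralClosure (Rf i) L) := by
    intro i
    obtain ⟨t, ht⟩ : (Subalgebra.toSubmodule (integralClosure (Rf i) L)).FG :=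
      Module.Finite.iff_fg.mp (h i)
    have h3 : ∀ y ∈ t, ∃ m : Submonoid.powers (f i), IsIntegral R ((m : R) • y) := by
      intro y hy
      have hy' : IsIntegral (Rf i) y := by
        have : y ∈ Subalgebra.toSubmodule (integralClosure (Rf i) L) := by
          rw [← ht]; exact Submodule.subset_span hy
        exact this
      obtain ⟨m, hm⟩ := IsIntegral.exists_multiple_integral_of_isLocalization
        (Submonoid.powers (f i)) y hy'
      exact ⟨m, hm⟩
    choose! m hm using h3
    refine ⟨t.image (fun y => ((m y : R)) • y), ?_, ?_⟩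
    · intro y hy
      obtain ⟨z, hz, rfl⟩ := Finset.mem_image.mp hy
      exact hm z hz
    · rw [← ht]
      apply le_antisymm
      · rw [Submodule.span_le]
        intro y hy
        obtain ⟨z, hz, rfl⟩ := Finset.mem_image.mp hy
        have : ((m z : R)) • z = algebraMap R (Rf i) (m z : R) • z := by
          rw [algebraMap_smul]
        rw [this]
        exact Submodule.smul_mem _ _ (Submodule.subset_span hz)
      · rw [Submodule.span_le]
        intro z hz
        obtain ⟨u, hu⟩ := IsLocalization.map_units (Rf i) (m z)
        have hz2 : z = (↑u⁻¹ : Rf i) • ((m z : R) • z) := by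
          rw [← algebraMap_smul (Rf i) (m z : R) z, ← hu, smul_smul, Units.inv_mul, one_smul]
        rw [hz2]
        exact Submodule.smul_mem _ _ (Submodule.subset_span (Finset.mem_image_of_mem _ hz))
  choose t' ht'1 ht'2 using h2
  have hfg : (Subalgebra.toSubmodule (integralClosure R L)).FG := by
    refine ⟨Finset.univ.biUnion t', le_antisymm ?_ ?_⟩
    · rw [Submodule.span_le]
      intro y hy
      obtain ⟨i, -, hi⟩ := Finset.mem_biUnion.mp hy
      exact ht'1 i y hi
    · intro x hx
      have hxR : IsIntegral R x := hx
      refine Submodule.mem_of_span_eq_top_of_smul_pow_mem _ (Set.range f) hf x ?_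
      rintro ⟨_, i, rfl⟩
      have hxi : x ∈ Submodule.span (Rf i) (t' i : Set L) := by
        rw [ht'2 i]
        exact (hxR.tower_top : IsIntegral (Rf i) x)
      obtain ⟨⟨_, n, rfl⟩, hn⟩ := multiple_mem_span_of_mem_localization_span
        (Submonoid.powers (f i)) (Rf i) (t' i : Set L) x hxi
      refine ⟨n, ?_⟩
      refine Submodule.span_mono ?_ hn
      intro y hy
      exact Finset.mem_biUnion.mpr ⟨i, Finset.mem_univ _, hy⟩
  exact Module.Finite.iff_fg.mpr hfg

end Groth.Agent.H47
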