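import Mathlib.RingTheory.Localization.Integral
import Mathlib.RingTheory.IntegralClosure.IntegrallyClosed
import Mathlib.RingTheory.Finiteness.Basic

set_option autoImplicit false
universe u

namespace Groth.Agent.H47

/-- If the integral closure of `R` in `L` is a finite `R`-module, then the integral closure of a
localization `S` of `R` in `L` is a finite `S`-module. -/
theorem finite_integralClosure_of_isLocalization {R S L : Type*} [CommRing R] [CommRing S]
    [CommRing L] [Algebra R S] [Algebra R L] [Algebra S L] [IsScalarTower R S L]
    (M : Submonoid R) [IsLocalization M S]
    (h : Module.Finite R (integralClosure R L)) : Module.Finite S (integralClosure S L) := by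
  classical
  have h' : (Subalgebra.toSubmodule (integralClosure R L)).FG :=
    Module.Finite.iff_fg.mp h
  obtain ⟨t, ht⟩ := h'
  have hfg : (Subalgebra.toSubmodule (integralClosure S L)).FG := by
    refine ⟨t, le_antisymm ?_ ?_⟩
    · rw [Submodule.span_le]
      intro x hx
      have hx' : x ∈ Subalgebra.toSubmodule (integralClosure R L) := by
        rw [← ht]; exact Submodule.subset_span hx
      have hxR : IsIntegral R x := hx'
      exact hxR.tower_top
    · intro x hx
      have hxS : IsIntegral S x := hx
      obtain ⟨m, hm⟩ := IsIntegral.exists_multiple_integral_of_isLocalization M x hxS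
      have hmem : (m : R) • x ∈ Submodule.span R (t : Set L) := by
        rw [ht]; exact hm
      -- `m` is a unit in `S`
      obtain ⟨u, hu⟩ := IsLocalization.map_units S m
      have hmem' : (m : R) • x ∈ Submodule.span S (t : Set L) := by
        have hle : Submodule.span R (t : Set L) ≤ (Submodule.span S (t : Set L)).restrictScalars R :=
          Submodule.span_le_restrictScalars R S _
        exact hle hmem
      have hx2 : x = (↑u⁻¹ : S) • ((m : R) • x) := by
        rw [← algebraMap_smul S (m : R) x, ← hu, smul_smul, Units.inv_mul, one_smul]
      rw [hx2]
      exact Submodule.smul_mem _ _ hmem'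
  exact Module.Finite.iff_fg.mpr hfg

end Groth.Agent.H47
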