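import Mathlib
import Groth.Prelude.Def_FlatCA
import Groth.Agent.H49.ModuleModel

set_option autoImplicit false
set_option linter.style.haveILetI false
universe u
open TensorProduct

namespace Groth.Agent.H47.IntModel

attribute [local instance] Algebra.TensorProduct.rightAlgebra

/-- The statement of S4848 (EGA IV 11.2.6) at universe `u`. -/
def Descent4848 : Prop :=
  ∀ {A₀ : Type u} [CommRing A₀]
    {ι : Type u} [Preorder ι] (G : ι → Type u) [∀ i, CommRing (G i)] [∀ i, Algebra A₀ (G i)]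
    (g : ∀ i j, i ≤ j → G i →ₐ[A₀] G j)
    (A : Type u) [CommRing A] [Algebra A₀ A] [∀ i, Algebra (G i) A] [∀ i, IsScalarTower A₀ (G i) A]
    (_ : FlatCA.IsDirectedColimitRing G (fun i j h => (g i j h).toRingHom) A)
    {B₀ : Type u} [CommRing B₀] [Algebra A₀ B₀] [Algebra.FinitePresentation A₀ B₀]
    (M₀ : Type u) [AddCommGroup M₀] [Module B₀ M₀] [Module A₀ M₀] [IsScalarTower A₀ B₀ M₀]
    [Module.FinitePresentation B₀ M₀],
    Module.Flat A (A ⊗[A₀] M₀) ↔ ∃ i : ι, Module.Flat (G i) (G i ⊗[A₀] M₀)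

section stage
variable (R₀ R₁ R S₀ S : Type u) [CommRing R₀] [CommRing R₁] [CommRing R] [CommRing S₀] [CommRing S]
  [Algebra R₀ R₁] [Algebra R₁ R] [Algebra R₀ R] [IsScalarTower R₀ R₁ R]
  [Algebra R₀ S₀] [Algebra S₀ S] [Algebra R₀ S] [IsScalarTower R₀ S₀ S]
  [Algebra R S] [IsScalarTower R₀ R S]
  [Algebra R₁ S] [IsScalarTower R₁ R S] [IsScalarTower R₀ R₁ S]

/-- the canonical map `R₁ ⊗[R₀] S₀ → S`. -/
noncomputable def toS : R₁ ⊗[R₀] S₀ →ₐ[R₀] S :=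
  Algebra.TensorProduct.productMap (IsScalarTower.toAlgHom R₀ R₁ S) (IsScalarTower.toAlgHom R₀ S₀ S)

theorem stage_main
    [Algebra.IsPushout R₀ R S₀ S]
    (M₀ M : Type u) [AddCommGroup M₀] [AddCommGroup M] [Module S₀ M₀] [Module R₀ M₀]
    [IsScalarTower R₀ S₀ M₀]
    [Module S M] [Module S₀ M] [IsScalarTower S₀ S M]
    (f₀ : M₀ →ₗ[S₀] M) (hf₀ : IsBaseChange S f₀)
    [Algebra.FiniteType R₀ S₀] [Module.Finite S₀ M₀]
    (hflat : Module.Flat R₁ (R₁ ⊗[R₀] M₀)) :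
    ∃ (S₁ : Type u) (_ : CommRing S₁)
      (_ : Algebra R₁ S₁) (_ : Algebra S₁ S) (_ : IsScalarTower R₁ S₁ S) (M₁ : Type u)
      (_ : AddCommGroup M₁) (_ : Module S₁ M₁)
      (_ : Module R₁ M₁) (_ : IsScalarTower R₁ S₁ M₁) (_ : Module S₁ M) (_ : IsScalarTower S₁ S M)
      (f : M₁ →ₗ[S₁] M),
      Algebra.FiniteType R₁ S₁ ∧ Module.Finite S₁ M₁ ∧ Module.Flat R₁ M₁ ∧
        Algebra.IsPushout R₁ R S₁ S ∧ IsBaseChange S f := by
  letI algS₁S : Algebra (R₁ ⊗[R₀] S₀) S := (toS R₀ R₁ S₀ S).toRingHom.toAlgebra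
  have hmap : ∀ z : R₁ ⊗[R₀] S₀, algebraMap (R₁ ⊗[R₀] S₀) S z = toS R₀ R₁ S₀ S z := fun _ => rfl
  haveI t1 : IsScalarTower R₁ (R₁ ⊗[R₀] S₀) S := IsScalarTower.of_algebraMap_eq fun x => by
    rw [hmap, Algebra.TensorProduct.algebraMap_apply, toS,
      Algebra.TensorProduct.productMap_apply_tmul]
    simp
  haveI t2 : IsScalarTower S₀ (R₁ ⊗[R₀] S₀) S := IsScalarTower.of_algebraMap_eq fun x => by
    rw [hmap]
    show _ = toS R₀ R₁ S₀ S (1 ⊗ₜ x)
    rw [toS, Algebra.TensorProduct.productMap_apply_tmul]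
    simp
  haveI t3 : IsScalarTower R₀ (R₁ ⊗[R₀] S₀) S := IsScalarTower.of_algebraMap_eq fun x => by
    rw [hmap, AlgHom.commutes]
  letI modS₁M : Module (R₁ ⊗[R₀] S₀) M := Module.compHom M (algebraMap (R₁ ⊗[R₀] S₀) S)
  haveI t4 : IsScalarTower (R₁ ⊗[R₀] S₀) S M := IsScalarTower.of_algebraMap_smul fun r x => rfl
  haveI t5 : IsScalarTower S₀ (R₁ ⊗[R₀] S₀) M := IsScalarTower.of_algebraMap_smul fun r x => by
    show algebraMap (R₁ ⊗[R₀] S₀) S (algebraMap S₀ (R₁ ⊗[R₀] S₀) r) • x = r • x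
    rw [← IsScalarTower.algebraMap_apply S₀ (R₁ ⊗[R₀] S₀) S, algebraMap_smul]
  have hbc : IsBaseChange (R₁ ⊗[R₀] S₀) (TensorProduct.mk S₀ (R₁ ⊗[R₀] S₀) M₀ 1) :=
    TensorProduct.isBaseChange S₀ M₀ (R₁ ⊗[R₀] S₀)
  refine ⟨R₁ ⊗[R₀] S₀, inferInstance, inferInstance, algS₁S, t1, (R₁ ⊗[R₀] S₀) ⊗[S₀] M₀,
    inferInstance, inferInstance, inferInstance, inferInstance, modS₁M, t4, hbc.lift f₀,
    inferInstance, inferInstance, ?_, ?_, ?_⟩
  · exact Module.Flat.of_linearEquiv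
      (Algebra.IsPushout.cancelBaseChange R₀ R₁ S₀ (R₁ ⊗[R₀] S₀) M₀)
  · exact (Algebra.IsPushout.comp_iff R₀ R₁ S₀ (R₁ ⊗[R₀] S₀) (T := R) (T' := S)).mp inferInstance
  · refine IsBaseChange.of_comp hbc ?_
    rw [IsBaseChange.lift_comp]
    exact hf₀

end stage

section colim
variable (R₀ : Type u) [CommRing R₀] (R : Type u) [CommRing R] [Algebra R₀ R]

/-- index type: f.g. `ℤ`-subalgebras of `R` containing the image of `R₀`. -/
abbrev Idx : Type u := {T : Subalgebra ℤ R // T.FG ∧ ∀ x : R₀, algebraMap R₀ R x ∈ T}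

instance (i : Idx R₀ R) : Algebra R₀ i.1 :=
  ((algebraMap R₀ R).codRestrict i.1.toSubring i.2.2).toAlgebra

instance (i : Idx R₀ R) : IsScalarTower R₀ i.1 R := IsScalarTower.of_algebraMap_eq fun _ => rfl

/-- transition maps. -/
def trans (i j : Idx R₀ R) (h : i ≤ j) : i.1 →ₐ[R₀] j.1 :=
  { (Subalgebra.inclusion (show i.1 ≤ j.1 from h)).toRingHom with
    commutes' := fun _ => rfl }

theorem isDirectedColimit [Algebra.FiniteType ℤ R₀] :
    FlatCA.IsDirectedColimitRing (fun i : Idx R₀ R => (i.1 : Type u))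
      (fun i j h => (trans R₀ R i j h).toRingHom) R := by
  have hfg : ((algebraMap R₀ R).toIntAlgHom.range).FG := by
    rw [← Algebra.map_top]
    exact Subalgebra.FG.map _ Algebra.FiniteType.out
  let i₀ : Idx R₀ R := ⟨(algebraMap R₀ R).toIntAlgHom.range, hfg, fun x => ⟨x, rfl⟩⟩
  refine ⟨⟨fun i j => ⟨⟨i.1 ⊔ j.1, i.2.1.sup j.2.1, fun x => ?_⟩, ?_, ?_⟩⟩,
    ⟨i₀⟩, fun i => ?_, fun i j k hij hjk => ?_, fun i j h => ?_, fun a => ?_,
    fun i x hx => ?_⟩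
  · exact (le_sup_left : i.1 ≤ i.1 ⊔ j.1) (i.2.2 x)
  · exact (le_sup_left : i.1 ≤ i.1 ⊔ j.1)
  · exact (le_sup_right : j.1 ≤ i.1 ⊔ j.1)
  · ext x; rfl
  · ext x; rfl
  · ext x; rfl
  · refine ⟨⟨i₀.1 ⊔ Algebra.adjoin ℤ {a}, hfg.sup ?_, fun x => ?_⟩, ⟨a, ?_⟩, rfl⟩
    · exact Subalgebra.fg_adjoin_finset {a} |> fun h => by simpa using h
    · exact (le_sup_left : i₀.1 ≤ _) ⟨x, rfl⟩
    · exact (le_sup_right : Algebra.adjoin ℤ {a} ≤ _) (Algebra.subset_adjoin rfl)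
  · refine ⟨i, le_rfl, ?_⟩
    have : x = 0 := Subtype.ext hx
    rw [this, map_zero]

end colim


section aux

theorem main_aux (H : Descent4848.{u}) (R₀ R S₀ S : Type u) [CommRing R₀] [CommRing R]
    [CommRing S₀] [CommRing S]
    [Algebra R₀ R] [Algebra R₀ S₀] [Algebra S₀ S] [Algebra R₀ S] [IsScalarTower R₀ S₀ S]
    [Algebra R S] [IsScalarTower R₀ R S] [Algebra.IsPushout R₀ R S₀ S]
    [Algebra.FiniteType ℤ R₀] [Algebra.FinitePresentation R₀ S₀]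
    (M₀ M : Type u) [AddCommGroup M₀] [AddCommGroup M] [Module S₀ M₀] [Module R₀ M₀]
    [IsScalarTower R₀ S₀ M₀]
    [Module S M] [Module S₀ M] [IsScalarTower S₀ S M] [Module R M] [IsScalarTower R S M]
    (f₀ : M₀ →ₗ[S₀] M) (hf₀ : IsBaseChange S f₀) [Module.Finite S₀ M₀] [Module.Flat R M] :
    ∃ (R₁ : Type u) (_ : CommRing R₁) (_ : Algebra R₁ R) (S₁ : Type u) (_ : CommRing S₁)
      (_ : Algebra R₁ S₁) (_ : Algebra S₁ S) (_ : Algebra R₁ S) (_ : IsScalarTower R₁ R S)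
      (_ : IsScalarTower R₁ S₁ S) (M₁ : Type u) (_ : AddCommGroup M₁) (_ : Module S₁ M₁)
      (_ : Module R₁ M₁) (_ : IsScalarTower R₁ S₁ M₁) (_ : Module S₁ M) (_ : IsScalarTower S₁ S M)
      (f : M₁ →ₗ[S₁] M),
      Algebra.FiniteType ℤ R₁ ∧ Algebra.FiniteType R₁ S₁ ∧ Module.Finite S₁ M₁ ∧ Module.Flat R₁ M₁ ∧
        Algebra.IsPushout R₁ R S₁ S ∧ IsBaseChange S f := by
  haveI : IsNoetherianRing R₀ := Algebra.FiniteType.isNoetherianRing ℤ R₀
  haveI : IsNoetherianRing S₀ := Algebra.FiniteType.isNoetherianRing R₀ S₀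
  haveI : Module.FinitePresentation S₀ M₀ := Module.finitePresentation_of_finite S₀ M₀
  -- `R ⊗[R₀] M₀ ≃ M`
  have hflatR : Module.Flat R (R ⊗[R₀] M₀) :=
    Module.Flat.of_linearEquiv ((Algebra.IsPushout.cancelBaseChange R₀ R S₀ S M₀).symm ≪≫ₗ
      (hf₀.equiv.restrictScalars R))
  obtain ⟨i, hi⟩ := (H (B₀ := S₀) (fun i : Idx R₀ R => (i.1 : Type u)) (trans R₀ R) R
    (isDirectedColimit R₀ R) M₀).mp hflatR
  haveI : Algebra.FiniteType ℤ i.1 := (Subalgebra.fg_iff_finiteType i.1).mp i.2.1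
  haveI : IsScalarTower R₀ i.1 S := IsScalarTower.of_algebraMap_eq fun x => by
    rw [IsScalarTower.algebraMap_apply R₀ R S]
    rfl
  obtain ⟨S₁, _, _, _, _, M₁, _, _, _, _, _, _, f, h1, h2, h3, h4, h5⟩ :=
    stage_main R₀ i.1 R S₀ S M₀ M f₀ hf₀ hi
  exact ⟨i.1, inferInstance, inferInstance, S₁, inferInstance, inferInstance, inferInstance,
    inferInstance, inferInstance, inferInstance, M₁, inferInstance, inferInstance, inferInstance,
    inferInstance, inferInstance, inferInstance, f, inferInstance, h1, h2, h3, h4, h5⟩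

end aux


section main

theorem main (H : Descent4848.{u}) (R : Type u) [CommRing R]
    (S : Type u) [CommRing S] [Algebra R S] [Algebra.FinitePresentation R S] (M : Type u)
    [AddCommGroup M] [Module S M] [Module R M] [IsScalarTower R S M]
    [Module.FinitePresentation S M] [Module.Flat R M] :
    ∃ (R₀ : Type u) (_ : CommRing R₀) (_ : Algebra R₀ R) (S₀ : Type u) (_ : CommRing S₀)
      (_ : Algebra R₀ S₀) (_ : Algebra S₀ S) (_ : Algebra R₀ S) (_ : IsScalarTower R₀ R S)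
      (_ : IsScalarTower R₀ S₀ S) (M₀ : Type u) (_ : AddCommGroup M₀) (_ : Module S₀ M₀)
      (_ : Module R₀ M₀) (_ : IsScalarTower R₀ S₀ M₀) (_ : Module S₀ M) (_ : IsScalarTower S₀ S M)
      (f : M₀ →ₗ[S₀] M),
      Algebra.FiniteType ℤ R₀ ∧ Algebra.FiniteType R₀ S₀ ∧ Module.Finite S₀ M₀ ∧ Module.Flat R₀ M₀ ∧
        Algebra.IsPushout R₀ R S₀ S ∧ IsBaseChange S f := by
  obtain ⟨A₀, S₀, _, _, e, M₀, _, _, hA₀fg, hfp, hfin, hM⟩ :=
    Groth.Agent.H49.ModuleModel.exists_model R S M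
  letI algS₀S : Algebra S₀ S := ((e.symm.toRingEquiv.toRingHom).comp
          Algebra.TensorProduct.includeRight.toRingHom).toAlgebra
  obtain ⟨eM⟩ := hM
  have hmapS₀ : ∀ y : S₀, algebraMap S₀ S y = e.symm (1 ⊗ₜ y) := fun _ => rfl
  haveI t1 : IsScalarTower A₀ S₀ S := IsScalarTower.of_algebraMap_eq fun a => by
    rw [hmapS₀, Algebra.algebraMap_eq_smul_one (A := S₀), ← TensorProduct.smul_tmul]
    have h1 : ((a • (1:R)) ⊗ₜ[A₀] (1:S₀)) = algebraMap R (R ⊗[A₀] S₀) (algebraMap A₀ R a) := by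
      rw [Algebra.TensorProduct.algebraMap_apply, Algebra.algebraMap_eq_smul_one (A := R)]
      rfl
    rw [h1, e.symm.commutes, ← IsScalarTower.algebraMap_apply]
  haveI po : Algebra.IsPushout A₀ R S₀ S :=
    ⟨IsBaseChange.of_equiv e.symm.toLinearEquiv (fun x => rfl)⟩
  letI modA₀M₀ : Module A₀ M₀ := Module.compHom M₀ (algebraMap A₀ S₀)
  haveI t2 : IsScalarTower A₀ S₀ M₀ := IsScalarTower.of_algebraMap_smul fun r x => rfl
  letI modS₀M : Module S₀ M := Module.compHom M (algebraMap S₀ S)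
  haveI t3 : IsScalarTower S₀ S M := IsScalarTower.of_algebraMap_smul fun r x => rfl
  let f₀ : M₀ →ₗ[S₀] M := (eM.toLinearMap.restrictScalars S₀) ∘ₗ (TensorProduct.mk S₀ S M₀ 1)
  have hf₀ : IsBaseChange S f₀ := IsBaseChange.of_equiv eM (fun x => rfl)
  haveI : Algebra.FiniteType ℤ A₀ := (Subalgebra.fg_iff_finiteType A₀).mp hA₀fg
  exact main_aux H A₀ R S₀ S M₀ M f₀ hf₀

end main

end Groth.Agent.H47.IntModel
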