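import Mathlib
import Groth.Agent.H47.PSEvalGen

/-!
# S15298: `A` `x`-adically complete, `x` a nonzerodivisor, `A/x` formally smooth over `k`
⟹ `A ≅ (A/x)[[T]]`
-/

set_option autoImplicit false
set_option linter.style.haveILetI false
universe u

namespace Groth.Agent.H47.PSQuotSmooth

open PowerSeries

theorem main (k A : Type u) [Field k] [CommRing A] [Algebra k A] (x : A)
    (hx : x ∈ nonZeroDivisors A) [IsAdicComplete (Ideal.span {x}) A]
    [Algebra.FormallySmooth k (A ⧸ Ideal.span {x})] :
    ∃ e : PowerSeries (A ⧸ Ideal.span {x}) ≃ₐ[k] A,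
      e PowerSeries.X = x ∧
      ∀ f : PowerSeries (A ⧸ Ideal.span {x}),
        Ideal.Quotient.mk (Ideal.span {x}) (e f) = PowerSeries.constantCoeff f := by
  classical
  obtain ⟨σ, hσ⟩ := Algebra.FormallySmooth.exists_mkₐ_comp_eq_of_isAdicComplete
    (R := k) (A := A ⧸ Ideal.span {x}) (S := A) (I := Ideal.span {x})
    (AlgHom.id k (A ⧸ Ideal.span {x}))
  have hσ' : ∀ b : A ⧸ Ideal.span {x}, Ideal.Quotient.mk (Ideal.span {x}) (σ b) = b :=
    fun b => DFunLike.congr_fun hσ b
  letI algBA : Algebra (A ⧸ Ideal.span {x}) A := σ.toRingHom.toAlgebra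
  haveI : IsScalarTower k (A ⧸ Ideal.span {x}) A :=
    IsScalarTower.of_algebraMap_eq (fun r => (σ.commutes r).symm)
  have hxI : x ∈ Ideal.span {x} := Ideal.mem_span_singleton_self x
  have hmkx : Ideal.Quotient.mk (Ideal.span {x}) x = 0 := Ideal.Quotient.eq_zero_iff_mem.2 hxI
  obtain ⟨ψ, hψ⟩ := Groth.Agent.H47.PSEvalGen.exists_evalHom_complete
    (k := A ⧸ Ideal.span {x}) (R := A) (Ideal.span {x}) (σ := Unit) (fun _ => x) (fun _ => hxI)
  have hψX : ψ (PowerSeries.X : PowerSeries (A ⧸ Ideal.span {x})) = x := hψ ()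
  have hψC : ∀ b : A ⧸ Ideal.span {x}, ψ (PowerSeries.C b) = σ b := by
    intro b
    have h1 := ψ.commutes b
    rw [PowerSeries.algebraMap_apply, Algebra.algebraMap_self, RingHom.id_apply] at h1
    exact h1
  -- K1
  have K1 : ∀ f : PowerSeries (A ⧸ Ideal.span {x}),
      Ideal.Quotient.mk (Ideal.span {x}) (ψ f) = PowerSeries.constantCoeff f := by
    intro f
    conv_lhs => rw [PowerSeries.eq_X_mul_shift_add_const f]
    rw [map_add, map_mul, hψX, hψC, map_add, map_mul, hmkx, zero_mul, zero_add, hσ']
  -- K2
  have K2 : ∀ (n : ℕ) (f : PowerSeries (A ⧸ Ideal.span {x})), ψ f = 0 →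
      PowerSeries.coeff n f = 0 := by
    intro n
    induction n with
    | zero =>
      intro f hf
      rw [PowerSeries.coeff_zero_eq_constantCoeff_apply, ← K1, hf, map_zero]
    | succ n ih =>
      intro f hf
      have hcc : PowerSeries.constantCoeff f = 0 := by rw [← K1, hf, map_zero]
      have hfe := PowerSeries.eq_X_mul_shift_add_const f
      rw [hcc, map_zero, add_zero] at hfe
      have h2 : x * ψ (PowerSeries.mk fun p => PowerSeries.coeff (p + 1) f) = 0 := by
        calc x * ψ (PowerSeries.mk fun p => PowerSeries.coeff (p + 1) f)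
            = ψ PowerSeries.X * ψ (PowerSeries.mk fun p => PowerSeries.coeff (p + 1) f) := by
              rw [hψX]
          _ = ψ (PowerSeries.X * PowerSeries.mk fun p => PowerSeries.coeff (p + 1) f) :=
              (map_mul ψ _ _).symm
          _ = ψ f := congrArg ψ hfe.symm
          _ = 0 := hf
      have h3 : ψ (PowerSeries.mk fun p => PowerSeries.coeff (p + 1) f) = 0 := by
        apply (mem_nonZeroDivisors_iff_right.1 hx)
        rw [mul_comm]; exact h2
      have := ih _ h3
      rwa [PowerSeries.coeff_mk] at this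
  have hinj : Function.Injective ψ := by
    rw [injective_iff_map_eq_zero]
    intro f hf
    ext n
    rw [K2 n f hf, map_zero]
  -- K3
  have hstep : ∀ a : A, ∃ c : A, a - σ (Ideal.Quotient.mk (Ideal.span {x}) a) = x * c := by
    intro a
    have h1 : a - σ (Ideal.Quotient.mk (Ideal.span {x}) a) ∈ Ideal.span {x} := by
      rw [← Ideal.Quotient.eq_zero_iff_mem, map_sub, hσ', sub_self]
    obtain ⟨c, hc⟩ := Ideal.mem_span_singleton'.1 h1
    exact ⟨c, by rw [← hc, mul_comm]⟩
  choose step hstep using hstep
  have hsurj : Function.Surjective ψ := by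
    intro a
    let seq : ℕ → A := fun n => step^[n] a
    let F : ℕ → PowerSeries (A ⧸ Ideal.span {x}) := fun m =>
      PowerSeries.mk fun n => Ideal.Quotient.mk (Ideal.span {x}) (seq (n + m))
    have hF : ∀ m, F m = PowerSeries.X * F (m + 1)
        + PowerSeries.C (Ideal.Quotient.mk (Ideal.span {x}) (seq m)) := by
      intro m
      have := PowerSeries.eq_X_mul_shift_add_const (F m)
      have e1 : (PowerSeries.mk fun p => PowerSeries.coeff (p + 1) (F m)) = F (m + 1) := by
        ext n
        simp only [F, PowerSeries.coeff_mk]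
        congr 2
        ring
      have e2 : PowerSeries.constantCoeff (F m)
          = Ideal.Quotient.mk (Ideal.span {x}) (seq m) := by
        rw [← PowerSeries.coeff_zero_eq_constantCoeff_apply]
        simp only [F, PowerSeries.coeff_mk, zero_add]
      rw [e1, e2] at this
      exact this
    have hseq : ∀ m, seq m = σ (Ideal.Quotient.mk (Ideal.span {x}) (seq m)) + x * seq (m + 1) := by
      intro m
      have h1 : seq (m + 1) = step (seq m) := Function.iterate_succ_apply' step m a
      rw [h1, ← hstep (seq m)]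
      ring
    have key : ∀ (n m : ℕ), ψ (F m) - seq m ∈ Ideal.span {x} ^ n := by
      intro n
      induction n with
      | zero => intro m; rw [pow_zero, Ideal.one_eq_top]; exact Submodule.mem_top
      | succ n ih =>
        intro m
        have e1 : ψ (F m) = x * ψ (F (m + 1))
            + σ (Ideal.Quotient.mk (Ideal.span {x}) (seq m)) := by
          rw [hF m, map_add, map_mul, hψX, hψC]
        have e2 := hseq m
        have h1 : ψ (F m) - seq m = x * (ψ (F (m + 1)) - seq (m + 1)) := by
          calc ψ (F m) - seq m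
              = (x * ψ (F (m + 1)) + σ (Ideal.Quotient.mk (Ideal.span {x}) (seq m)))
                - (σ (Ideal.Quotient.mk (Ideal.span {x}) (seq m)) + x * seq (m + 1)) := by
                rw [e1, ← e2]
            _ = x * (ψ (F (m + 1)) - seq (m + 1)) := by ring
        rw [h1, pow_succ']
        exact Ideal.mul_mem_mul hxI (ih (m + 1))
    refine ⟨F 0, ?_⟩
    have hH : IsHausdorff (Ideal.span {x}) A := inferInstance
    have : ψ (F 0) - a = 0 := by
      apply hH.haus'
      intro n
      rw [SModEq.zero, smul_eq_mul, Ideal.mul_top]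
      exact key n 0
    exact sub_eq_zero.1 this
  let e : PowerSeries (A ⧸ Ideal.span {x}) ≃ₐ[k] A :=
    AlgEquiv.ofBijective (ψ.restrictScalars k) ⟨hinj, hsurj⟩
  exact ⟨e, hψX, K1⟩

end Groth.Agent.H47.PSQuotSmooth
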