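import Mathlib.AlgebraicGeometry.PullbackCarrier
import Mathlib.AlgebraicGeometry.Morphisms.UnderlyingMap

set_option autoImplicit false
universe u

open AlgebraicGeometry CategoryTheory CategoryTheory.Limits

namespace Groth.Agent.H47

theorem range_snd_of_isPullback {X S X' S' : Scheme.{u}} {f : X ⟶ S} {g : S' ⟶ S}
    {g' : X' ⟶ X} {f' : X' ⟶ S'} (hsq : IsPullback g' f' f g) :
    Set.range f' = g ⁻¹' Set.range f := by
  rw [← Scheme.Pullback.range_snd, ← hsq.isoPullback_hom_snd]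
  have hsurj : Function.Surjective hsq.isoPullback.hom :=
    (hsq.isoPullback.hom.homeomorph).surjective
  ext y
  constructor
  · rintro ⟨z, rfl⟩
    exact ⟨hsq.isoPullback.hom z, rfl⟩
  · rintro ⟨z, rfl⟩
    obtain ⟨w, rfl⟩ := hsurj z
    exact ⟨w, rfl⟩

theorem range_fst_of_isPullback {X S X' S' : Scheme.{u}} {f : X ⟶ S} {g : S' ⟶ S}
    {g' : X' ⟶ X} {f' : X' ⟶ S'} (hsq : IsPullback g' f' f g) :
    Set.range g' = f ⁻¹' Set.range g :=
  range_snd_of_isPullback hsq.flip

/-- Points of a pullback square: any compatible pair of points lifts. -/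
theorem exists_preimage_of_isPullback {X S X' S' : Scheme.{u}} {f : X ⟶ S} {g : S' ⟶ S}
    {g' : X' ⟶ X} {f' : X' ⟶ S'} (hsq : IsPullback g' f' f g) (x : X) (s' : S')
    (h : f x = g s') : ∃ x' : X', g' x' = x ∧ f' x' = s' := by
  obtain ⟨z, hz1, hz2⟩ := Scheme.Pullback.exists_preimage_pullback x s' h
  refine ⟨hsq.isoPullback.inv z, ?_, ?_⟩
  · rw [← Scheme.Hom.comp_apply, hsq.isoPullback_inv_fst]; exact hz1
  · rw [← Scheme.Hom.comp_apply, hsq.isoPullback_inv_snd]; exact hz2

end Groth.Agent.H47
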