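import Mathlib.AlgebraicGeometry.Morphisms.QuasiCompact
import Mathlib.AlgebraicGeometry.Morphisms.UnderlyingMap
import Mathlib.RingTheory.Ideal.MinimalPrime.Localization

set_option autoImplicit false
universe u

open AlgebraicGeometry CategoryTheory TopologicalSpace

namespace Groth.Agent.H47

/-- For a ring map, every point in the closure of the range of `comap` is a specialization of a
point of the range. -/
theorem exists_comap_specializes_of_mem_closure {A R : Type u} [CommRing A] [CommRing R]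
    (φ : A →+* R) (s : PrimeSpectrum A) (hs : s ∈ closure (Set.range (PrimeSpectrum.comap φ))) :
    ∃ x : PrimeSpectrum R, PrimeSpectrum.comap φ x ⤳ s := by
  rw [PrimeSpectrum.closure_range_comap, PrimeSpectrum.mem_zeroLocus] at hs
  have hs' : RingHom.ker φ ≤ s.asIdeal := hs
  obtain ⟨p, hp, hps⟩ := Ideal.exists_minimalPrimes_le hs'
  have hp' : p ∈ ((⊥ : Ideal R).comap φ).minimalPrimes := by
    rwa [← RingHom.ker_eq_comap_bot]
  obtain ⟨p', hp'prime, -, rfl⟩ := Ideal.exists_comap_eq_of_mem_minimalPrimes φ p hp'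
  refine ⟨⟨p', hp'prime⟩, ?_⟩
  rw [← PrimeSpectrum.le_iff_specializes]
  exact hps

/-- The range of a quasi-compact morphism over an affine open of the target is the range of
a morphism of affine schemes. -/
theorem exists_spec_range_eq {X S : Scheme.{u}} (f : X ⟶ S) [QuasiCompact f]
    {U : S.Opens} (hU : IsAffineOpen U) :
    ∃ (R : CommRingCat.{u}) (φ : Γ(S, U) ⟶ R),
      Set.range (Spec.map φ) = hU.fromSpec ⁻¹' (Set.range f) := by
  have hc : IsCompact ((f ⁻¹ᵁ U : X.Opens) : Set X) :=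
    QuasiCompact.isCompact_preimage (f := f) _ U.isOpen hU.isCompact
  obtain ⟨R, g, hg⟩ := isCompact_iff_exists.mp hc
  have hrange : Set.range (g ≫ f) ⊆ Set.range hU.fromSpec := by
    rw [hU.range_fromSpec]
    rintro _ ⟨z, rfl⟩
    have : g z ∈ Set.range g := ⟨z, rfl⟩
    rw [hg] at this
    exact this
  let h : Spec R ⟶ Spec Γ(S, U) := IsOpenImmersion.lift hU.fromSpec (g ≫ f) hrange
  have hfac : h ≫ hU.fromSpec = g ≫ f := IsOpenImmersion.lift_fac _ _ _
  have hfac' : ∀ z, hU.fromSpec (h z) = f (g z) := by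
    intro z
    rw [← Scheme.Hom.comp_apply, ← Scheme.Hom.comp_apply, hfac]
  have hinj : Function.Injective hU.fromSpec := hU.fromSpec.isOpenEmbedding.injective
  have hrh : Set.range h = hU.fromSpec ⁻¹' (Set.range f) := by
    ext y
    constructor
    · rintro ⟨z, rfl⟩
      exact ⟨g z, (hfac' z).symm⟩
    · rintro ⟨x, hx⟩
      have hxU : x ∈ Set.range g := by
        rw [hg]
        change f x ∈ (U : Set S)
        rw [hx, ← hU.range_fromSpec]
        exact ⟨y, rfl⟩
      obtain ⟨z, rfl⟩ := hxU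
      refine ⟨z, hinj ?_⟩
      rw [hfac' z, hx]
  obtain ⟨φ, hφ⟩ := Spec.homEquiv.symm.surjective h
  refine ⟨R, φ, ?_⟩
  rw [← hrh, ← hφ]
  rfl

/-- Every point in the closure of the range of a quasi-compact morphism is a specialization of
a point in the range. -/
theorem exists_specializes_of_mem_closure_range {X S : Scheme.{u}} (f : X ⟶ S) [QuasiCompact f]
    (s : S) (hs : s ∈ closure (Set.range f)) : ∃ x : X, f x ⤳ s := by
  obtain ⟨_, ⟨U, hU : IsAffineOpen U, rfl⟩, hsU, -⟩ :=
    S.isBasis_affineOpens.exists_subset_of_mem_open (Set.mem_univ s) isOpen_univ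
  obtain ⟨R, φ, hφ⟩ := exists_spec_range_eq f hU
  have hsr : s ∈ Set.range hU.fromSpec := by rw [hU.range_fromSpec]; exact hsU
  obtain ⟨s₀, rfl⟩ := hsr
  have h1 : s₀ ∈ closure (hU.fromSpec ⁻¹' (Set.range f)) := by
    rw [← hU.fromSpec.isOpenEmbedding.isOpenMap.preimage_closure_eq_closure_preimage
      hU.fromSpec.continuous]
    exact hs
  rw [← hφ] at h1
  obtain ⟨x₀, hx₀⟩ := exists_comap_specializes_of_mem_closure φ.hom s₀ h1
  have h2 : (Spec.map φ) x₀ ∈ hU.fromSpec ⁻¹' (Set.range f) := by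
    rw [← hφ]; exact ⟨x₀, rfl⟩
  obtain ⟨x, hx⟩ := h2
  refine ⟨x, ?_⟩
  rw [hx]
  exact hx₀.map hU.fromSpec.continuous

end Groth.Agent.H47
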