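import Mathlib.AlgebraicGeometry.Morphisms.QuasiSeparated

set_option autoImplicit false
universe u

open AlgebraicGeometry CategoryTheory TopologicalSpace

namespace Groth.Agent.H47

/-- An open subset of a scheme is quasi-separated iff any two affine opens inside it have
quasi-compact intersection. -/
theorem isQuasiSeparated_iff_forall_affineOpens {X : Scheme.{u}} (O : X.Opens) :
    IsQuasiSeparated (O : Set X) ↔
      ∀ U V : X.affineOpens, (U : X.Opens) ≤ O → (V : X.Opens) ≤ O →
        IsCompact ((U : Set X) ∩ (V : Set X)) := by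
  constructor
  · intro H U V hU hV
    exact H U V hU U.1.2 U.2.isCompact hV V.1.2 V.2.isCompact
  · intro H
    suffices h : ∀ (U : X.Opens) (_ : IsCompact U.1) (V : X.Opens) (_ : IsCompact V.1),
        U ≤ O → V ≤ O → IsCompact (U ⊓ V).1 by
      intro U V hUO hU hU' hVO hV hV'
      exact h ⟨U, hU⟩ hU' ⟨V, hV⟩ hV' hUO hVO
    intro U hU V hV
    refine compact_open_induction_on (P := fun V => U ≤ O → V ≤ O → IsCompact (U ⊓ V).1) V hV ?_ ?_
    · intro _ _; simp
    · intro S _ V hV hUO hSV
      have hSO : S ≤ O := le_sup_left.trans hSV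
      have hVO : (V : X.Opens) ≤ O := le_sup_right.trans hSV
      change IsCompact (U.1 ∩ (S.1 ∪ V.1.1))
      rw [Set.inter_union_distrib_left]
      apply (hV hUO hSO).union
      clear hV
      revert hUO
      refine compact_open_induction_on (P := fun U => U ≤ O → IsCompact (U.1 ∩ V.1.1)) U hU ?_ ?_
      · intro _; simp
      · intro S' _ W hW hS'W
        have hS'O : S' ≤ O := le_sup_left.trans hS'W
        have hWO : (W : X.Opens) ≤ O := le_sup_right.trans hS'W
        change IsCompact ((S'.1 ∪ W.1.1) ∩ V.1.1)
        rw [Set.union_inter_distrib_right]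
        exact (hW hS'O).union (H W V hWO hVO)

theorem quasiSeparatedSpace_opens_iff {X : Scheme.{u}} (O : X.Opens) :
    QuasiSeparatedSpace ↥O ↔
      ∀ U V : X.affineOpens, (U : X.Opens) ≤ O → (V : X.Opens) ≤ O →
        IsCompact ((U : Set X) ∩ (V : Set X)) := by
  rw [← isQuasiSeparated_iff_forall_affineOpens]
  exact (isQuasiSeparated_iff_quasiSeparatedSpace (O : Set X) O.2).symm

end Groth.Agent.H47
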