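import Mathlib
import Groth.Agent.H47.SepFS

/-!
# Finite subsets of a separable field extension lie in smooth subalgebras
-/

set_option autoImplicit false
universe u

namespace Groth.Agent.H47

open IntermediateField
open scoped IntermediateField.algebraAdjoinAdjoin

theorem exists_subalgebra_smooth_of_isGeometricallyReduced (k : Type u) [Field k]
    (K : Type u) [Field K] [Algebra k K] [Algebra.IsGeometricallyReduced k K] (E : Finset K) :
    ∃ A : Subalgebra k K, (↑E : Set K) ⊆ (A : Set K) ∧ Algebra.Smooth k A := by
  classical
  let A₀ : Subalgebra k K := Algebra.adjoin k (E : Set K)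
  let L : IntermediateField k K := IntermediateField.adjoin k (E : Set K)
  haveI : Algebra.FiniteType k A₀ := .adjoin_of_finite E.finite_toSet
  haveI : Algebra.FinitePresentation k A₀ := Algebra.FinitePresentation.of_finiteType.mp inferInstance
  haveI : Algebra.EssFiniteType A₀ L := .of_isLocalization _ (nonZeroDivisors _)
  haveI : Algebra.EssFiniteType k L := .comp _ A₀ _
  haveI : Algebra.IsGeometricallyReduced k L :=
    Algebra.IsGeometricallyReduced.of_injective L.val L.val.injective
  haveI : Algebra.FormallySmooth k L := formallySmooth_of_isGeometricallyReduced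
  -- `L` is the localization of `A₀` at the zero ideal
  haveI : IsLocalization (nonZeroDivisors A₀) (Localization.AtPrime (⊥ : Ideal A₀)) := by
    simpa [Ideal.primeCompl_bot] using
      Localization.isLocalization (M := (⊥ : Ideal A₀).primeCompl)
  let e : L ≃ₐ[A₀] Localization.AtPrime (⊥ : Ideal A₀) :=
    IsLocalization.algEquiv (nonZeroDivisors A₀) L (Localization.AtPrime (⊥ : Ideal A₀))
  haveI : Algebra.IsSmoothAt k (⊥ : Ideal A₀) :=
    Algebra.FormallySmooth.of_equiv (e.restrictScalars k)
  obtain ⟨f, hf, hsm⟩ := Algebra.IsSmoothAt.exists_notMem_smooth k (⊥ : Ideal A₀)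
  have hf0 : f ≠ 0 := fun h => hf (h ▸ Ideal.zero_mem _)
  have hunit : ∀ y : Submonoid.powers f, IsUnit (A₀.val (y : A₀)) := by
    rintro ⟨_, n, rfl⟩
    rw [map_pow]
    refine IsUnit.pow n (IsUnit.mk0 _ ?_)
    exact fun h => hf0 (Subtype.ext h)
  let φ : Localization.Away f →ₐ[k] K := IsLocalization.liftAlgHom (M := Submonoid.powers f)
    (f := A₀.val) hunit
  have hφ : ∀ a : A₀, φ (algebraMap A₀ (Localization.Away f) a) = a := fun a =>
    IsLocalization.lift_eq hunit a
  have hinj : Function.Injective φ := by
    change Function.Injective (IsLocalization.lift hunit)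
    rw [IsLocalization.lift_injective_iff]
    intro x y
    constructor
    · intro h
      exact congrArg A₀.val
        (IsLocalization.injective _ (powers_le_nonZeroDivisors_of_noZeroDivisors hf0) h)
    · intro h
      rw [Subtype.ext h]
  refine ⟨φ.range, ?_, ?_⟩
  · intro x hx
    exact ⟨algebraMap A₀ (Localization.Away f) ⟨x, Algebra.subset_adjoin hx⟩, hφ _⟩
  · exact Algebra.Smooth.of_equiv (AlgEquiv.ofInjective φ hinj)

end Groth.Agent.H47
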