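import Mathlib

/-!
# A smooth algebra over a filtered colimit of rings descends to a stage
-/

set_option autoImplicit false
universe u
open CategoryTheory CategoryTheory.Limits TensorProduct

namespace Groth.Agent.H47

theorem exists_smooth_descends_filteredColimit {I : Type u} [SmallCategory I] [IsFiltered I]
    (D : I ⥤ CommRingCat.{u}) (c : Cocone D) (hc : IsColimit c) (B : Type u) [CommRing B]
    [Algebra c.pt B] [Algebra.Smooth c.pt B] :
    ∃ (i : I) (Bi : Type u) (_ : CommRing Bi) (_ : Algebra (D.obj i) Bi),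
      Algebra.Smooth (D.obj i) Bi ∧
      (letI : Algebra (D.obj i) c.pt := (c.ι.app i).hom.toAlgebra
       Nonempty (B ≃ₐ[c.pt] (c.pt ⊗[D.obj i] Bi))) := by
  classical
  letI : Algebra (ULift.{u} ℤ) c.pt := ULift.algebra' ℤ c.pt
  obtain ⟨A₀, B₀, _, _, hfg, hsm, ⟨e⟩⟩ := Algebra.Smooth.exists_subalgebra_fg (ULift.{u} ℤ) c.pt B
  -- all ring homs out of `ULift ℤ` agree
  have huniq : ∀ (T : Type u) [CommRing T] (φ ψ : ULift.{u} ℤ →+* T), φ = ψ := by
    intro T _ φ ψ
    have h : φ.comp (ULift.ringEquiv (R := ℤ)).symm.toRingHom =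
        ψ.comp (ULift.ringEquiv (R := ℤ)).symm.toRingHom := Subsingleton.elim _ _
    ext x
    have := RingHom.congr_fun h (ULift.ringEquiv x)
    simp only [RingHom.comp_apply, RingEquiv.toRingHom_eq_coe, RingHom.coe_coe,
      RingEquiv.symm_apply_apply] at this
    exact this
  haveI : IsNoetherianRing (ULift.{u} ℤ) :=
    isNoetherianRing_of_ringEquiv ℤ (ULift.ringEquiv (R := ℤ)).symm
  haveI : Algebra.FiniteType (ULift.{u} ℤ) A₀ := (Subalgebra.fg_iff_finiteType A₀).mp hfg
  haveI : Algebra.FinitePresentation (ULift.{u} ℤ) A₀ :=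
    Algebra.FinitePresentation.of_finiteType.mp inferInstance
  let R₀ : CommRingCat.{u} := CommRingCat.of (ULift.{u} ℤ)
  let α : (Functor.const I).obj R₀ ⟶ D :=
    { app := fun i => CommRingCat.ofHom
        ((Int.castRingHom (D.obj i)).comp (ULift.ringEquiv (R := ℤ)).toRingHom)
      naturality := fun i j f => by
        ext1
        exact huniq _ _ _ }
  let S₀ : CommRingCat.{u} := CommRingCat.of A₀
  let f : R₀ ⟶ S₀ := CommRingCat.ofHom (algebraMap (ULift.{u} ℤ) A₀)
  have hf : f.hom.FinitePresentation := by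
    change (algebraMap (ULift.{u} ℤ) A₀).FinitePresentation
    rw [RingHom.finitePresentation_algebraMap]
    infer_instance
  let g : S₀ ⟶ c.pt := CommRingCat.ofHom A₀.val.toRingHom
  obtain ⟨i, g', -, hg'⟩ := RingHom.EssFiniteType.exists_eq_comp_ι_app_of_isColimit R₀ D α f c hc hf g
    (fun i => by ext1; exact huniq _ _ _)
  letI : Algebra A₀ (D.obj i) := g'.hom.toAlgebra
  letI : Algebra (D.obj i) c.pt := (c.ι.app i).hom.toAlgebra
  haveI : IsScalarTower A₀ (D.obj i) c.pt := IsScalarTower.of_algebraMap_eq (fun x => by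
    have := congrArg (fun h => h.hom x) hg'
    exact this)
  refine ⟨i, (D.obj i) ⊗[A₀] B₀, inferInstance, inferInstance, inferInstance, ?_⟩
  exact ⟨e.trans (Algebra.TensorProduct.cancelBaseChange A₀ (D.obj i) c.pt c.pt B₀).symm⟩

end Groth.Agent.H47
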