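import Mathlib
import Groth.Prelude.Def_RegImm
import Groth.Agent.H47.EtaleDim

set_option autoImplicit false
set_option linter.unusedSectionVars false
set_option linter.style.haveILetI false
set_option linter.unusedVariables false
universe u

namespace Groth.Agent.H47.SLCI

open MvPolynomial

/-- A nontrivial standard smooth algebra over a field is a global complete intersection. -/
theorem isGlobalCI_of_submersivePresentation (k T : Type u) [Field k] [CommRing T] [Algebra k T]
    {ι σ : Type} [Finite ι] [Finite σ] (P : Algebra.SubmersivePresentation k T ι σ) :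
    Synt.IsGlobalCI k T := by
  classical
  by_cases hT : Subsingleton T
  · exact Or.inl hT
  haveI : Nontrivial T := not_subsingleton_iff_nontrivial.1 hT
  right
  letI := Fintype.ofFinite ι
  letI := Fintype.ofFinite σ
  set n := Nat.card ι with hn
  set c := Nat.card σ with hc
  have hcn : c ≤ n := P.card_relations_le_card_vars_of_isFinite
  let eι : ι ≃ Fin n := Finite.equivFin ι
  let eσ : σ ≃ Fin c := Finite.equivFin σ
  let ρ : MvPolynomial ι k ≃ₐ[k] MvPolynomial (Fin n) k := renameEquiv k eι
  let φ : MvPolynomial (Fin n) k →ₐ[k] T := (aeval P.val).comp ρ.symm.toAlgHom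
  let r : Fin c → MvPolynomial (Fin n) k := fun j => ρ (P.relation (eσ.symm j))
  refine ⟨n, c, hcn, φ, r, ?_, ?_, ?_⟩
  · -- surjective
    have h1 : Function.Surjective (aeval (R := k) P.val) := by
      intro t
      obtain ⟨x, hx⟩ := P.algebraMap_surjective t
      exact ⟨x, by rw [← hx, P.algebraMap_apply]⟩
    exact h1.comp ρ.symm.surjective
  · -- kernel
    have hker : RingHom.ker (aeval (R := k) P.val).toRingHom = Ideal.span (Set.range P.relation) := by
      rw [P.span_range_relation_eq_ker, Algebra.Generators.ker_eq_ker_aeval_val]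
      rfl
    have h1 : RingHom.ker φ.toRingHom =
        (RingHom.ker (aeval (R := k) P.val).toRingHom).comap ρ.symm.toRingEquiv.toRingHom := by
      ext x
      simp only [RingHom.mem_ker, Ideal.mem_comap]
      rfl
    rw [h1, hker]
    have h2 : (Ideal.span (Set.range P.relation)).comap ρ.symm.toRingEquiv.toRingHom =
        (Ideal.span (Set.range P.relation)).map ρ.toRingEquiv.toRingHom :=
      Ideal.comap_symm (I := Ideal.span (Set.range P.relation)) ρ.toRingEquiv
    rw [h2, Ideal.map_span]
    congr 1
    ext x
    constructor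
    · rintro ⟨_, ⟨i, rfl⟩, rfl⟩
      exact ⟨eσ i, by simp [r]⟩
    · rintro ⟨j, rfl⟩
      exact ⟨P.relation (eσ.symm j), ⟨_, rfl⟩, rfl⟩
  · -- dimension
    haveI : Algebra.IsStandardSmoothOfRelativeDimension (n - c) k T :=
      ⟨ι, σ, inferInstance, inferInstance, P, rfl⟩
    obtain ⟨g, hg⟩ := Algebra.IsStandardSmoothOfRelativeDimension.exists_etale_mvPolynomial
      (n - c) k T
    letI : Algebra (MvPolynomial (Fin (n - c)) k) T := g.toRingHom.toAlgebra
    haveI : IsScalarTower k (MvPolynomial (Fin (n - c)) k) T :=
      IsScalarTower.of_algebraMap_eq' g.comp_algebraMap.symm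
    haveI : Algebra.Etale (MvPolynomial (Fin (n - c)) k) T := hg
    exact ED.ringKrullDim_eq_of_etale_mvPolynomial k (n - c) T

/-- A smooth algebra over a field is a local complete intersection. -/
theorem isLCIOver_of_smooth (k S : Type u) [Field k] [CommRing S] [Algebra k S]
    [Algebra.Smooth k S] : Synt.IsLCIOver k S := by
  refine ⟨inferInstance, fun p => ?_⟩
  obtain ⟨s, hs, hstd⟩ := Algebra.Smooth.exists_span_eq_top_isStandardSmooth k S
  obtain ⟨g, hgs, hgp⟩ : ∃ g ∈ s, g ∉ p.asIdeal := by
    by_contra hcon
    push Not at hcon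
    have : Ideal.span s ≤ p.asIdeal := Ideal.span_le.mpr hcon
    rw [hs] at this
    exact p.2.ne_top (top_le_iff.mp this)
  refine ⟨g, hgp, ?_⟩
  obtain ⟨ι, σ, _, _, ⟨P⟩⟩ := (hstd g hgs).out
  exact isGlobalCI_of_submersivePresentation k (Localization.Away g) P

end Groth.Agent.H47.SLCI
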