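import Mathlib
import Groth.Agent.H17.DimIneq
import Groth.Agent.H48.DimIneqSch
import Groth.Agent.H24.AffineChart

/-!
# Transcendence degree of residue fields drops under nontrivial specialization in a fibre (S9381)
-/

set_option autoImplicit false
set_option linter.unusedSectionVars false
set_option linter.style.haveILetI false
universe u
open TensorProduct

namespace Groth.Agent.H47.TrdegSpec

/-- in a finite type algebra over a field, the transcendence degree of a residue field is finite. -/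
theorem exists_trdeg_residueField_eq (k F : Type u) [Field k] [CommRing F] [Algebra k F]
    [Algebra.FiniteType k F] (Q : Ideal F) [Q.IsPrime] :
    ∃ r : ℕ, Algebra.trdeg k Q.ResidueField = r := by
  obtain ⟨n, hn1, -, -⟩ := Groth.Agent.H14.ringKrullDim_eq_trdeg_of_finiteType_domain k (F ⧸ Q)
  have h1 : Algebra.trdeg k (FractionRing (F ⧸ Q)) = Algebra.trdeg k Q.ResidueField :=
    ((FractionRing.algEquiv (F ⧸ Q) Q.ResidueField).restrictScalars k).trdeg_eq
  exact ⟨n, by rw [← h1, hn1]⟩

/-- in a finite type algebra over a field, `trdeg κ(Q)` strictly drops under strict inclusion. -/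
theorem trdeg_residueField_lt (k : Type u) {F : Type u} [Field k] [CommRing F] [Algebra k F]
    [Algebra.FiniteType k F] (Q Q' : PrimeSpectrum F) (hlt : Q < Q') :
    Algebra.trdeg k Q'.asIdeal.ResidueField < Algebra.trdeg k Q.asIdeal.ResidueField := by
  obtain ⟨r, hr⟩ := exists_trdeg_residueField_eq k F Q.asIdeal
  obtain ⟨r', hr'⟩ := exists_trdeg_residueField_eq k F Q'.asIdeal
  have c := Groth.Agent.H11.FtDim.coheight_eq_trdeg (k := k) Q.asIdeal r hr
  have c' := Groth.Agent.H11.FtDim.coheight_eq_trdeg (k := k) Q'.asIdeal r' hr'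
  have hfin : Order.coheight Q' < ⊤ := by
    change Order.coheight (⟨Q'.asIdeal, inferInstance⟩ : PrimeSpectrum F) < ⊤
    rw [c']
    exact ENat.natCast_lt_top r'
  have hlt2 := Order.coheight_strictAnti hlt hfin
  change Order.coheight (⟨Q'.asIdeal, inferInstance⟩ : PrimeSpectrum F) <
    Order.coheight (⟨Q.asIdeal, inferInstance⟩ : PrimeSpectrum F) at hlt2
  rw [c, c'] at hlt2
  rw [hr, hr']
  exact_mod_cast hlt2

/-- Ring level: `R → A` of finite type, `P < P'` primes of `A` over the same prime `q` of `R`. -/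
theorem trdeg_quotient_lt (R A : Type u) [CommRing R] [CommRing A] [Algebra R A]
    [Algebra.FiniteType R A] (q : Ideal R) [q.IsPrime] (P P' : Ideal A) [P.IsPrime] [P'.IsPrime]
    [P.LiesOver q] [P'.LiesOver q] (hlt : P < P') :
    Algebra.trdeg (R ⧸ q) (A ⧸ P') < Algebra.trdeg (R ⧸ q) (A ⧸ P) := by
  let e := PrimeSpectrum.primesOverOrderIsoFiber R A q
  let Q := e ⟨P, ⟨inferInstance, inferInstance⟩⟩
  let Q' := e ⟨P', ⟨inferInstance, inferInstance⟩⟩
  have hQQ' : Q < Q' := e.lt_iff_lt.mpr hlt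
  have hQ : Q.asIdeal.comap (Algebra.TensorProduct.includeRight :
      A →ₐ[R] q.Fiber A).toRingHom = P := by
    have := PrimeSpectrum.coe_primesOverOrderIsoFiber_symm_apply (R := R) (S := A) (p := q) Q
    rw [OrderIso.symm_apply_apply] at this
    exact this.symm
  have hQ' : Q'.asIdeal.comap (Algebra.TensorProduct.includeRight :
      A →ₐ[R] q.Fiber A).toRingHom = P' := by
    have := PrimeSpectrum.coe_primesOverOrderIsoFiber_symm_apply (R := R) (S := A) (p := q) Q'
    rw [OrderIso.symm_apply_apply] at this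
    exact this.symm
  haveI : Q.asIdeal.IsPrime := Q.2
  haveI : Q'.asIdeal.IsPrime := Q'.2
  have h1 := Groth.Agent.H17.DimIneq.trdeg_residueField_fiber R A q Q.asIdeal
    (iA := IsLocalRing.ResidueField.algebra _) P hQ
  have h2 := Groth.Agent.H17.DimIneq.trdeg_residueField_fiber R A q Q'.asIdeal
    (iA := IsLocalRing.ResidueField.algebra _) P' hQ'
  rw [← h1, ← h2]
  exact trdeg_residueField_lt q.ResidueField Q Q' hQQ'


open AlgebraicGeometry CategoryTheory Groth.Agent.H48.DimIneq Groth.Agent.H48.DimIneqSch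

/-- the transcendence degree of the residue field extension computed on affine charts. -/
theorem trdeg_chart {X S : Scheme.{u}} (f : X ⟶ S) {V : S.Opens} {U : X.Opens}
    (hV : IsAffineOpen V) (hU : IsAffineOpen U) (hUV : U ≤ f ⁻¹ᵁ V) (y : X) (hy : y ∈ U)
    (q : Ideal Γ(S, V)) (P : Ideal Γ(X, U))
    (hq : (hV.primeIdealOf ⟨f y, hUV hy⟩).asIdeal = q)
    (hP : (hU.primeIdealOf ⟨y, hy⟩).asIdeal = P) :
    letI := (f.appLE V U hUV).hom.toAlgebra
    ∀ [P.LiesOver q], Algebra.trdeg (Γ(S, V) ⧸ q) (Γ(X, U) ⧸ P) =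
      @Algebra.trdeg (S.residueField (f y)) (X.residueField y) _ _
        (f.residueFieldMap y).hom.toAlgebra := by
  letI := (f.appLE V U hUV).hom.toAlgebra
  intro _
  letI algKL : Algebra (S.residueField (f y)) (X.residueField y) :=
    (f.residueFieldMap y).hom.toAlgebra
  have hsq : (algebraMap (S.residueField (f y)) (X.residueField y)).comp
      (S.evaluation V (f y) (hUV hy)).hom =
      (X.evaluation U y hy).hom.comp (algebraMap Γ(S, V) Γ(X, U)) :=
    evaluation_square f hUV y hy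
  have hK := isFrac_evaluation hV (f y) (hUV hy)
  have hL := isFrac_evaluation hU y hy
  exact trdeg_quotient_eq hsq hK hL q P (by rw [ker_evaluation hV (f y) (hUV hy), hq])
    (by rw [ker_evaluation hU y hy, hP])

/-- S9381. -/
theorem main {X S : Scheme.{u}} (f : X ⟶ S) [LocallyOfFiniteType f] (x x' : X)
    (hsp : x ⤳ x') (hne : x ≠ x') (hfx : f.base x = f.base x') :
    @Algebra.trdeg (S.residueField (f.base x')) (X.residueField x') _ _
        (f.residueFieldMap x').hom.toAlgebra <
      @Algebra.trdeg (S.residueField (f.base x)) (X.residueField x) _ _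
        (f.residueFieldMap x).hom.toAlgebra := by
  obtain ⟨V, U, hV, hU, hx'U, hUV⟩ := Groth.Agent.H24.exists_affine_charts f x'
  have hxU : x ∈ U := hsp.mem_open U.2 hx'U
  letI algAB : Algebra Γ(S, V) Γ(X, U) := (f.appLE V U hUV).hom.toAlgebra
  haveI : Algebra.FiniteType Γ(S, V) Γ(X, U) := f.finiteType_appLE hV hU hUV
  let q : Ideal Γ(S, V) := (hV.primeIdealOf ⟨f x', hUV hx'U⟩).asIdeal
  let P : Ideal Γ(X, U) := (hU.primeIdealOf ⟨x, hxU⟩).asIdeal
  let P' : Ideal Γ(X, U) := (hU.primeIdealOf ⟨x', hx'U⟩).asIdeal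
  haveI : q.IsPrime := (hV.primeIdealOf ⟨f x', hUV hx'U⟩).2
  haveI : P.IsPrime := (hU.primeIdealOf ⟨x, hxU⟩).2
  haveI : P'.IsPrime := (hU.primeIdealOf ⟨x', hx'U⟩).2
  have hq' : (hV.primeIdealOf ⟨f x, hUV hxU⟩).asIdeal = q := by
    have : (⟨f x, hUV hxU⟩ : V) = ⟨f x', hUV hx'U⟩ := Subtype.ext hfx
    rw [this]
  haveI hP'q : P'.LiesOver q :=
    ⟨congr($(IsAffineOpen.comap_primeIdealOf_appLE V hV U hU hUV hx'U).1).symm⟩
  haveI hPq : P.LiesOver q := by
    refine ⟨?_⟩
    rw [← hq']
    exact congr($(IsAffineOpen.comap_primeIdealOf_appLE V hV U hU hUV hxU).1).symm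
  have hle : P ≤ P' := by
    have h1 : (⟨x, hxU⟩ : U) ⤳ ⟨x', hx'U⟩ := (subtype_specializes_iff _ _).mpr hsp
    have h2 := h1.map hU.isoSpec.hom.continuous
    exact (PrimeSpectrum.le_iff_specializes _ _).mpr h2
  have hneP : P ≠ P' := by
    intro h
    have h1 : hU.primeIdealOf ⟨x, hxU⟩ = hU.primeIdealOf ⟨x', hx'U⟩ := PrimeSpectrum.ext h
    have h2 := congrArg hU.fromSpec h1
    rw [hU.fromSpec_primeIdealOf ⟨x, hxU⟩, hU.fromSpec_primeIdealOf ⟨x', hx'U⟩] at h2
    exact hne h2
  have hlt : P < P' := lt_of_le_of_ne hle hneP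
  have key := trdeg_quotient_lt Γ(S, V) Γ(X, U) q P P' hlt
  rw [trdeg_chart f hV hU hUV x hxU q P hq' rfl, trdeg_chart f hV hU hUV x' hx'U q P' rfl rfl]
    at key
  exact key

end Groth.Agent.H47.TrdegSpec
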