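import Mathlib
import Groth.Agent.H42.MilnorGlue

/-!
# The scheme-theoretic union of two closed subschemes is their pushout along the intersection
-/

set_option autoImplicit false
set_option backward.isDefEq.respectTransparency false
universe u

open CategoryTheory AlgebraicGeometry Limits

namespace Groth.Agent.H47.UnionPushout

open Groth.Agent.H42.MilnorGlue Scheme.IdealSheafData

/-- The Milnor square of quotient rings `R/(a ∩ b) = R/a ×_{R/(a+b)} R/b`. -/
theorem isMilnor_quot {R : Type u} [CommRing R] (a b : Ideal R) :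
    IsMilnor (Ideal.Quotient.factor (inf_le_left : a ⊓ b ≤ a))
      (Ideal.Quotient.factor (inf_le_right : a ⊓ b ≤ b))
      (Ideal.Quotient.factor (le_sup_left : a ≤ a ⊔ b))
      (Ideal.Quotient.factor (le_sup_right : b ≤ a ⊔ b)) where
  comm p := by
    obtain ⟨x, rfl⟩ := Ideal.Quotient.mk_surjective p
    simp only [Ideal.Quotient.factor_mk]
  exists_lift x y hxy := by
    obtain ⟨x, rfl⟩ := Ideal.Quotient.mk_surjective x
    obtain ⟨y, rfl⟩ := Ideal.Quotient.mk_surjective y
    simp only [Ideal.Quotient.factor_mk] at hxy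
    rw [Ideal.Quotient.eq, Submodule.mem_sup] at hxy
    obtain ⟨i, hi, j, hj, hij⟩ := hxy
    refine ⟨Ideal.Quotient.mk _ (x - i), ?_, ?_⟩
    · rw [Ideal.Quotient.factor_mk, Ideal.Quotient.eq]
      simpa using a.neg_mem hi
    · rw [Ideal.Quotient.factor_mk, Ideal.Quotient.eq]
      have : x - i - y = j := by linear_combination (-1 : R) * hij
      rw [this]
      exact hj
  inj p h1 h2 := by
    obtain ⟨x, rfl⟩ := Ideal.Quotient.mk_surjective p
    rw [Ideal.Quotient.factor_mk, Ideal.Quotient.eq_zero_iff_mem] at h1 h2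
    rw [Ideal.Quotient.eq_zero_iff_mem]
    exact ⟨h1, h2⟩
  surj := Ideal.Quotient.factor_surjective _

variable {X : Scheme.{u}}

/-- compatibility of the charts of `I.subscheme` with restriction to smaller affine opens. -/
theorem glueDataObjMap_cover (I : X.IdealSheafData) {U V : X.affineOpens} (h : U ≤ V) :
    I.glueDataObjMap h ≫ I.subschemeCover.f V = I.subschemeCover.f U := by
  rw [← cancel_mono I.subschemeι, Category.assoc, subschemeCover_map_subschemeι,
    subschemeCover_map_subschemeι, glueDataObjMap_glueDataObjι_assoc, Scheme.homOfLE_ι]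

instance (I : X.IdealSheafData) (U : X.affineOpens) : IsOpenImmersion (I.subschemeCover.f U) :=
  I.subschemeCover.map_prop U

theorem isOpenImmersion_glueDataObjMap (I : X.IdealSheafData) {U V : X.affineOpens} (h : U ≤ V) :
    IsOpenImmersion (I.glueDataObjMap h) := by
  have h1 : IsOpenImmersion (I.glueDataObjMap h ≫ I.subschemeCover.f V) := by
    rw [glueDataObjMap_cover]
    infer_instance
  exact IsOpenImmersion.of_comp (I.glueDataObjMap h) (I.subschemeCover.f V)

/-- naturality of the chart comparison maps. -/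
theorem glueDataObjMap_glueDataObjHom {I J : X.IdealSheafData} (hIJ : I ≤ J) {U V : X.affineOpens}
    (h : U ≤ V) :
    J.glueDataObjMap h ≫ glueDataObjHom hIJ V = glueDataObjHom hIJ U ≫ I.glueDataObjMap h := by
  rw [glueDataObjMap, glueDataObjHom, glueDataObjMap, glueDataObjHom, ← Spec.map_comp,
    ← Spec.map_comp, ← CommRingCat.ofHom_comp, ← CommRingCat.ofHom_comp]
  congr 2
  apply Ideal.Quotient.ringHom_ext
  ext x
  rfl

section directed

variable (K : X.IdealSheafData)

instance : Category K.subschemeCover.openCover.I₀ := inferInstanceAs (Category X.affineOpens)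

theorem exists_affine_le (U V : X.affineOpens) (x : X) (hxU : x ∈ U.1) (hxV : x ∈ V.1) :
    ∃ W : X.affineOpens, W ≤ U ∧ W ≤ V ∧ x ∈ W.1 := by
  obtain ⟨_, ⟨W, hW, rfl⟩, hxW, hWUV⟩ :=
    (X.isBasis_affineOpens).exists_subset_of_mem_open (show x ∈ ((U.1 ⊓ V.1 : X.Opens) : Set X)
      from ⟨hxU, hxV⟩) (U.1 ⊓ V.1).2
  exact ⟨⟨W, hW⟩, fun y hy => (hWUV hy).1, fun y hy => (hWUV hy).2, hxW⟩

theorem trans_id_aux (U : X.affineOpens) : K.glueDataObjMap (le_refl U) = 𝟙 _ := by
  rw [← cancel_mono (K.subschemeCover.f U), glueDataObjMap_cover, Category.id_comp]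

theorem trans_comp_aux {U V W : X.affineOpens} (h1 : U ≤ V) (h2 : V ≤ W) :
    K.glueDataObjMap (h1.trans h2) = K.glueDataObjMap h1 ≫ K.glueDataObjMap h2 := by
  rw [← cancel_mono (K.subschemeCover.f W), glueDataObjMap_cover, Category.assoc,
    glueDataObjMap_cover, glueDataObjMap_cover]

theorem directed_aux (U V : X.affineOpens)
    (x : ↥(pullback (K.subschemeCover.f U) (K.subschemeCover.f V))) :
    ∃ (W : X.affineOpens) (hU : W ≤ U) (hV : W ≤ V) (y : ↥(K.glueDataObj W)),
      (pullback.lift (K.glueDataObjMap hU) (K.glueDataObjMap hV)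
        (by rw [glueDataObjMap_cover, glueDataObjMap_cover])) y = x := by
  let z := (pullback.fst (K.subschemeCover.f U) (K.subschemeCover.f V) ≫
    K.subschemeCover.f U) x
  have hzi : z ∈ (K.subschemeCover.f U).opensRange := ⟨_, rfl⟩
  have hzj : z ∈ (K.subschemeCover.f V).opensRange := by
    refine ⟨pullback.snd (K.subschemeCover.f U) (K.subschemeCover.f V) x, ?_⟩
    show (pullback.snd _ _ ≫ K.subschemeCover.f V) x = _
    rw [← pullback.condition]
  rw [opensRange_subschemeCover_map] at hzi hzj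
  obtain ⟨W, hWU, hWV, hzW⟩ := exists_affine_le U V (K.subschemeι z) hzi hzj
  have hzW' : z ∈ (K.subschemeCover.f W).opensRange := by
    rw [opensRange_subschemeCover_map]
    exact hzW
  obtain ⟨y, hy⟩ := hzW'
  refine ⟨W, hWU, hWV, y, ?_⟩
  apply (pullback.fst (K.subschemeCover.f U) (K.subschemeCover.f V) ≫
    K.subschemeCover.f U).isOpenEmbedding.injective
  rw [← Scheme.Hom.comp_apply, pullback.lift_fst_assoc, glueDataObjMap_cover]
  exact hy

noncomputable instance : K.subschemeCover.openCover.LocallyDirected where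
  trans {i j} hij := K.glueDataObjMap (U := i) (V := j) (leOfHom hij)
  trans_id i := trans_id_aux K i
  trans_comp {i j k} hij hjk := trans_comp_aux K (U := i) (V := j) (W := k) (leOfHom hij) (leOfHom hjk)
  w {i j} hij := glueDataObjMap_cover K (U := i) (V := j) (leOfHom hij)
  directed {i j} x := by
    obtain ⟨W, hU, hV, y, hy⟩ := directed_aux K i j x
    exact ⟨W, (homOfLE hU : (W : X.affineOpens) ⟶ (i : X.affineOpens)),
      (homOfLE hV : (W : X.affineOpens) ⟶ (j : X.affineOpens)), y, hy⟩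
  property_trans {i j} hij := isOpenImmersion_glueDataObjMap K (U := i) (V := j) (leOfHom hij)

end directed

variable (I J : X.IdealSheafData) {T : Scheme.{u}}

theorem hom_ext {m₁ m₂ : (I ⊓ J).subscheme ⟶ T}
    (h₁ : inclusion (inf_le_left : I ⊓ J ≤ I) ≫ m₁ = inclusion inf_le_left ≫ m₂)
    (h₂ : inclusion (inf_le_right : I ⊓ J ≤ J) ≫ m₁ = inclusion inf_le_right ≫ m₂) :
    m₁ = m₂ := by
  have key : ∀ U : X.affineOpens, (I ⊓ J).subschemeCover.f U ≫ m₁ =
      (I ⊓ J).subschemeCover.f U ≫ m₂ := by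
    intro U
    apply (isMilnor_quot (I.ideal U) (J.ideal U)).hom_ext
    · show glueDataObjHom (inf_le_left : I ⊓ J ≤ I) U ≫ (I ⊓ J).subschemeCover.f U ≫ m₁ =
        glueDataObjHom (inf_le_left : I ⊓ J ≤ I) U ≫ (I ⊓ J).subschemeCover.f U ≫ m₂
      exact (subSchemeCover_map_inclusion_assoc (inf_le_left : I ⊓ J ≤ I) U m₁).symm.trans
        ((congrArg (fun m => I.subschemeCover.f U ≫ m) h₁).trans
          (subSchemeCover_map_inclusion_assoc (inf_le_left : I ⊓ J ≤ I) U m₂))
    · show glueDataObjHom (inf_le_right : I ⊓ J ≤ J) U ≫ (I ⊓ J).subschemeCover.f U ≫ m₁ =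
        glueDataObjHom (inf_le_right : I ⊓ J ≤ J) U ≫ (I ⊓ J).subschemeCover.f U ≫ m₂
      exact (subSchemeCover_map_inclusion_assoc (inf_le_right : I ⊓ J ≤ J) U m₁).symm.trans
        ((congrArg (fun m => J.subschemeCover.f U ≫ m) h₂).trans
          (subSchemeCover_map_inclusion_assoc (inf_le_right : I ⊓ J ≤ J) U m₂))
  exact (I ⊓ J).subschemeCover.openCover.hom_ext _ _ fun U => key U

theorem exists_desc (a : I.subscheme ⟶ T) (b : J.subscheme ⟶ T)
    (hab : inclusion (le_sup_left : I ≤ I ⊔ J) ≫ a = inclusion (le_sup_right : J ≤ I ⊔ J) ≫ b) :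
    ∃ c : (I ⊓ J).subscheme ⟶ T, inclusion (inf_le_left : I ⊓ J ≤ I) ≫ c = a ∧
      inclusion (inf_le_right : I ⊓ J ≤ J) ≫ c = b := by
  have hloc : ∀ U : X.affineOpens, ∃ c : (I ⊓ J).glueDataObj U ⟶ T,
      glueDataObjHom (inf_le_left : I ⊓ J ≤ I) U ≫ c = I.subschemeCover.f U ≫ a ∧
      glueDataObjHom (inf_le_right : I ⊓ J ≤ J) U ≫ c = J.subschemeCover.f U ≫ b := by
    intro U
    apply (isMilnor_quot (I.ideal U) (J.ideal U)).exists_desc
    show glueDataObjHom (le_sup_left : I ≤ I ⊔ J) U ≫ I.subschemeCover.f U ≫ a =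
      glueDataObjHom (le_sup_right : J ≤ I ⊔ J) U ≫ J.subschemeCover.f U ≫ b
    exact (subSchemeCover_map_inclusion_assoc (le_sup_left : I ≤ I ⊔ J) U a).symm.trans
      ((congrArg (fun m => (I ⊔ J).subschemeCover.f U ≫ m) hab).trans
        (subSchemeCover_map_inclusion_assoc (le_sup_right : J ≤ I ⊔ J) U b))
  choose c hcI hcJ using hloc
  have hfun : ∀ {U V : X.affineOpens} (h : U ≤ V), (I ⊓ J).glueDataObjMap h ≫ c V = c U := by
    intro U V h
    apply (isMilnor_quot (I.ideal U) (J.ideal U)).hom_ext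
    · show glueDataObjHom (inf_le_left : I ⊓ J ≤ I) U ≫ (I ⊓ J).glueDataObjMap h ≫ c V =
        glueDataObjHom (inf_le_left : I ⊓ J ≤ I) U ≫ c U
      calc glueDataObjHom (inf_le_left : I ⊓ J ≤ I) U ≫ (I ⊓ J).glueDataObjMap h ≫ c V
          = I.glueDataObjMap h ≫ glueDataObjHom (inf_le_left : I ⊓ J ≤ I) V ≫ c V := by
            rw [← Category.assoc, ← glueDataObjMap_glueDataObjHom, Category.assoc]
        _ = I.glueDataObjMap h ≫ I.subschemeCover.f V ≫ a := by rw [hcI]
        _ = I.subschemeCover.f U ≫ a := by rw [← Category.assoc, glueDataObjMap_cover]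
        _ = _ := (hcI U).symm
    · show glueDataObjHom (inf_le_right : I ⊓ J ≤ J) U ≫ (I ⊓ J).glueDataObjMap h ≫ c V =
        glueDataObjHom (inf_le_right : I ⊓ J ≤ J) U ≫ c U
      calc glueDataObjHom (inf_le_right : I ⊓ J ≤ J) U ≫ (I ⊓ J).glueDataObjMap h ≫ c V
          = J.glueDataObjMap h ≫ glueDataObjHom (inf_le_right : I ⊓ J ≤ J) V ≫ c V := by
            rw [← Category.assoc, ← glueDataObjMap_glueDataObjHom, Category.assoc]
        _ = J.glueDataObjMap h ≫ J.subschemeCover.f V ≫ b := by rw [hcJ]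
        _ = J.subschemeCover.f U ≫ b := by rw [← Category.assoc, glueDataObjMap_cover]
        _ = _ := (hcJ U).symm
  let g : (I ⊓ J).subscheme ⟶ T :=
    (I ⊓ J).subschemeCover.openCover.glueMorphismsOfLocallyDirected (fun U => c U)
      (fun {i j} hij => hfun (U := i) (V := j) (leOfHom hij))
  have hg : ∀ U : X.affineOpens, (I ⊓ J).subschemeCover.f U ≫ g = c U := fun U =>
    (I ⊓ J).subschemeCover.openCover.map_glueMorphismsOfLocallyDirected (fun U => c U)
      (fun {i j} hij => hfun (U := i) (V := j) (leOfHom hij)) U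
  refine ⟨g, ?_, ?_⟩
  · refine I.subschemeCover.openCover.hom_ext _ _ fun U => ?_
    have hU : ∀ U : X.affineOpens, I.subschemeCover.f U ≫
        inclusion (inf_le_left : I ⊓ J ≤ I) ≫ g = I.subschemeCover.f U ≫ a := by
      intro U
      calc I.subschemeCover.f U ≫ inclusion (inf_le_left : I ⊓ J ≤ I) ≫ g
          = glueDataObjHom (inf_le_left : I ⊓ J ≤ I) U ≫ (I ⊓ J).subschemeCover.f U ≫ g :=
            subSchemeCover_map_inclusion_assoc _ U g
        _ = glueDataObjHom (inf_le_left : I ⊓ J ≤ I) U ≫ c U := by rw [hg]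
        _ = _ := hcI U
    exact hU U
  · refine J.subschemeCover.openCover.hom_ext _ _ fun U => ?_
    have hU : ∀ U : X.affineOpens, J.subschemeCover.f U ≫
        inclusion (inf_le_right : I ⊓ J ≤ J) ≫ g = J.subschemeCover.f U ≫ b := by
      intro U
      calc J.subschemeCover.f U ≫ inclusion (inf_le_right : I ⊓ J ≤ J) ≫ g
          = glueDataObjHom (inf_le_right : I ⊓ J ≤ J) U ≫ (I ⊓ J).subschemeCover.f U ≫ g :=
            subSchemeCover_map_inclusion_assoc _ U g
        _ = glueDataObjHom (inf_le_right : I ⊓ J ≤ J) U ≫ c U := by rw [hg]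
        _ = _ := hcJ U
    exact hU U

/-- **S9383**: the scheme-theoretic union is the pushout along the scheme-theoretic
intersection. -/
theorem main (S : Scheme.{u}) (I J : S.IdealSheafData) :
    IsPushout (Scheme.IdealSheafData.inclusion (le_sup_left : I ≤ I ⊔ J))
      (Scheme.IdealSheafData.inclusion (le_sup_right : J ≤ I ⊔ J))
      (Scheme.IdealSheafData.inclusion (inf_le_left : I ⊓ J ≤ I))
      (Scheme.IdealSheafData.inclusion (inf_le_right : I ⊓ J ≤ J)) := by
  refine ⟨⟨by rw [inclusion_comp, inclusion_comp]⟩, ⟨PushoutCocone.IsColimit.mk _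
    (fun s => (exists_desc I J s.inl s.inr s.condition).choose)
    (fun s => (exists_desc I J s.inl s.inr s.condition).choose_spec.1)
    (fun s => (exists_desc I J s.inl s.inr s.condition).choose_spec.2)
    (fun s m h₁ h₂ => ?_)⟩⟩
  apply hom_ext I J
  · exact h₁.trans (exists_desc I J s.inl s.inr s.condition).choose_spec.1.symm
  · exact h₂.trans (exists_desc I J s.inl s.inr s.condition).choose_spec.2.symm

end Groth.Agent.H47.UnionPushout
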