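import Mathlib
import Groth.Prelude.Def_Omega3

set_option autoImplicit false
set_option linter.unusedSectionVars false
set_option linter.style.haveILetI false
set_option linter.unusedVariables false
universe u

namespace Groth.Agent.H47.UTU

open OmegaSh

variable {A B B' : Type u} [CommRing A] [CommRing B] [CommRing B'] [Algebra A B] [Algebra A B']
  (π : B' →ₐ[A] B)

/-- Key step: two lifts of the same map agree modulo `I * φ₁(J)`. -/
theorem sub_mem_mul (h : IsUnivThickeningRing A B B' π) {E : Type u} [CommRing E] [Algebra A E]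
    (I : Ideal E) (hI : I ^ 2 = ⊥) (φ₁ φ₂ : B' →ₐ[A] E)
    (hφ : ∀ x, φ₁ x - φ₂ x ∈ I) (x : B') :
    φ₁ x - φ₂ x ∈ I * (RingHom.ker π.toRingHom).map (φ₁ : B' →+* E) := by
  classical
  obtain ⟨hsurj, hJ, huniv⟩ := h
  set J := RingHom.ker π.toRingHom with hJdef
  set Jφ : Ideal E := J.map (φ₁ : B' →+* E) with hJφ
  set I₂ : Ideal E := I * Jφ with hI₂
  let I₁ : Ideal (E ⧸ I₂) := (I ⊔ Jφ).map (Ideal.Quotient.mk I₂)
  have hJφsq : Jφ * Jφ = ⊥ := by
    rw [hJφ, ← Ideal.map_mul, ← pow_two, hJ, Ideal.map_bot]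
  have hI₁ : I₁ ^ 2 = ⊥ := by
    rw [← Ideal.map_pow, eq_bot_iff, Ideal.map_le_iff_le_comap]
    intro y hy
    rw [Ideal.mem_comap, Ideal.mem_bot, Ideal.Quotient.eq_zero_iff_mem]
    have hle : (I ⊔ Jφ) ^ 2 ≤ I₂ := by
      rw [pow_two, Ideal.sup_mul, Ideal.mul_sup, Ideal.mul_sup, ← pow_two, hI, hJφsq]
      simp only [bot_sup_eq, sup_bot_eq]
      rw [Ideal.mul_comm Jφ I]
      exact le_of_eq (sup_idem _)
    exact hle hy
  let ψ₁ : B' →ₐ[A] E ⧸ I₂ := (Ideal.Quotient.mkₐ A I₂).comp φ₁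
  let ψ₂ : B' →ₐ[A] E ⧸ I₂ := (Ideal.Quotient.mkₐ A I₂).comp φ₂
  -- the induced map `B → (E/I₂)/I₁`
  have hkill : ∀ y : B', y ∈ RingHom.ker (π : B' →+* B) →
      ((Ideal.Quotient.mkₐ A I₁).comp ψ₁) y = 0 := by
    intro y hy
    change Ideal.Quotient.mk I₁ (Ideal.Quotient.mk I₂ (φ₁ y)) = 0
    rw [Ideal.Quotient.eq_zero_iff_mem]
    apply Ideal.mem_map_of_mem
    exact Ideal.mem_sup_right (Ideal.mem_map_of_mem _ hy)
  let e : (B' ⧸ RingHom.ker (π : B' →+* B)) ≃ₐ[A] B := Ideal.quotientKerAlgEquivOfSurjective hsurj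
  let a : B →ₐ[A] (E ⧸ I₂) ⧸ I₁ :=
    (Ideal.Quotient.liftₐ (RingHom.ker (π : B' →+* B)) ((Ideal.Quotient.mkₐ A I₁).comp ψ₁)
      hkill).comp e.symm.toAlgHom
  have ha : ∀ y : B', a (π y) = Ideal.Quotient.mk I₁ (ψ₁ y) := by
    intro y
    have : e.symm (π y) = Ideal.Quotient.mk _ y := by
      rw [AlgEquiv.symm_apply_eq]
      rfl
    change (Ideal.Quotient.liftₐ _ _ hkill) (e.symm (π y)) = _
    rw [this]
    rfl
  obtain ⟨a', -, huniq⟩ := huniv (E ⧸ I₂) I₁ hI₁ a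
  have h1 : ψ₁ = a' := huniq ψ₁ (by
    ext y
    exact (ha y).symm)
  have h2 : ψ₂ = a' := huniq ψ₂ (by
    ext y
    change Ideal.Quotient.mk I₁ (ψ₂ y) = a (π y)
    rw [ha, Ideal.Quotient.mk_eq_mk_iff_sub_mem]
    change Ideal.Quotient.mk I₂ (φ₂ y) - Ideal.Quotient.mk I₂ (φ₁ y) ∈ I₁
    rw [← map_sub]
    apply Ideal.mem_map_of_mem
    apply Ideal.mem_sup_left
    have := (Ideal.neg_mem_iff I).2 (hφ y)
    simpa using this)
  have h3 := AlgHom.congr_fun (h1.trans h2.symm) x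
  change Ideal.Quotient.mk I₂ (φ₁ x) = Ideal.Quotient.mk I₂ (φ₂ x) at h3
  rwa [Ideal.Quotient.mk_eq_mk_iff_sub_mem] at h3

/-- The universal first order thickening of a ring map is formally unramified over the base. -/
theorem formallyUnramified (h : IsUnivThickeningRing A B B' π) :
    Algebra.FormallyUnramified A B' := by
  rw [Algebra.FormallyUnramified.iff_comp_injective]
  intro E _ _ I hI φ₁ φ₂ hφ
  have hφ' : ∀ x, φ₁ x - φ₂ x ∈ I := by
    intro x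
    have := AlgHom.congr_fun hφ x
    change Ideal.Quotient.mk I (φ₁ x) = Ideal.Quotient.mk I (φ₂ x) at this
    rwa [Ideal.Quotient.mk_eq_mk_iff_sub_mem] at this
  set Jφ : Ideal E := (RingHom.ker π.toRingHom).map (φ₁ : B' →+* E) with hJφ
  have step1 := sub_mem_mul π h I hI φ₁ φ₂ hφ'
  have hI₂ : (I * Jφ) ^ 2 = ⊥ := by
    rw [eq_bot_iff, ← hI]
    exact Ideal.pow_right_mono (Ideal.mul_le_left (I := I) (J := Jφ)) 2
  have step2 := sub_mem_mul π h (I * Jφ) hI₂ φ₁ φ₂ step1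
  have hJφsq : Jφ * Jφ = ⊥ := by
    rw [hJφ, ← Ideal.map_mul, ← pow_two, h.2.1, Ideal.map_bot]
  ext x
  have := step2 x
  rw [mul_assoc, hJφsq, Ideal.mul_bot, Ideal.mem_bot, sub_eq_zero] at this
  exact this

end Groth.Agent.H47.UTU
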