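import Mathlib
import Groth.Agent.H47.UnivThickUnram

set_option autoImplicit false
set_option linter.unusedSectionVars false
set_option linter.style.haveILetI false
set_option linter.unusedVariables false
universe u

namespace Groth.Agent.H47.UTK

open OmegaSh TensorProduct

section Twist

variable (R A B : Type u) [CommRing R] [CommRing A] [Algebra R A] [CommRing B] [Algebra A B]

/-- The trivial square-zero extension `B ⊕ (B ⊗[A] Ω[A⁄R])`, as a type synonym carrying only its
ring structure (the `A`-algebra structure will be the twisted one). -/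
def TE : Type u := TrivSqZeroExt B (B ⊗[A] Ω[A⁄R])

noncomputable instance : CommRing (TE R A B) :=
  inferInstanceAs (CommRing (TrivSqZeroExt B (B ⊗[A] Ω[A⁄R])))

/-- first projection -/
noncomputable def TE.fst : TE R A B →+* B :=
  (TrivSqZeroExt.fstHom B B (B ⊗[A] Ω[A⁄R]) : TrivSqZeroExt B (B ⊗[A] Ω[A⁄R]) →+* B)

/-- second projection -/
noncomputable def TE.snd (x : TE R A B) : B ⊗[A] Ω[A⁄R] := TrivSqZeroExt.snd x

/-- the element `(b, m)` -/
noncomputable def TE.mk (b : B) (m : B ⊗[A] Ω[A⁄R]) : TE R A B := (TrivSqZeroExt.inl b + TrivSqZeroExt.inr m :)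

variable {R A B}

@[simp] lemma TE.fst_mk (b : B) (m : B ⊗[A] Ω[A⁄R]) : TE.fst R A B (TE.mk R A B b m) = b := by
  change TrivSqZeroExt.fst (TrivSqZeroExt.inl b + TrivSqZeroExt.inr m) = b
  simp

@[simp] lemma TE.snd_mk (b : B) (m : B ⊗[A] Ω[A⁄R]) : TE.snd R A B (TE.mk R A B b m) = m := by
  change TrivSqZeroExt.snd (TrivSqZeroExt.inl b + TrivSqZeroExt.inr m) = m
  simp

lemma TE.ext {x y : TE R A B} (h1 : TE.fst R A B x = TE.fst R A B y)
    (h2 : TE.snd R A B x = TE.snd R A B y) : x = y :=
  TrivSqZeroExt.ext h1 h2

lemma TE.snd_mul (x y : TE R A B) :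
    TE.snd R A B (x * y) = TE.fst R A B x • TE.snd R A B y + TE.fst R A B y • TE.snd R A B x := by
  have h := TrivSqZeroExt.snd_mul (R := B) (M := B ⊗[A] Ω[A⁄R]) x y
  rw [op_smul_eq_smul] at h
  exact h

lemma TE.snd_add (x y : TE R A B) :
    TE.snd R A B (x + y) = TE.snd R A B x + TE.snd R A B y := rfl

lemma TE.snd_one : TE.snd R A B 1 = 0 := rfl

lemma TE.snd_zero : TE.snd R A B 0 = 0 := rfl

variable (R A B)

/-- The twisted structure map `a ↦ (a, 1 ⊗ da)`. -/
noncomputable def twist : A →+* TE R A B where
  toFun a := TE.mk R A B (algebraMap A B a) ((1 : B) ⊗ₜ[A] KaehlerDifferential.D R A a)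
  map_one' := by
    apply TE.ext
    · simp
    · simp [TE.snd_one]
  map_mul' a b := by
    apply TE.ext
    · simp
    · rw [TE.snd_mul]
      simp only [TE.snd_mk, TE.fst_mk, Derivation.leibniz, tmul_add, tmul_smul]
      rw [algebraMap_smul, algebraMap_smul]
  map_zero' := by
    apply TE.ext
    · simp
    · simp [TE.snd_zero]
  map_add' a b := by
    apply TE.ext
    · simp
    · simp [TE.snd_add, tmul_add]

noncomputable instance : Algebra A (TE R A B) := (twist R A B).toAlgebra

lemma algebraMap_TE (a : A) : algebraMap A (TE R A B) a =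
    TE.mk R A B (algebraMap A B a) ((1 : B) ⊗ₜ[A] KaehlerDifferential.D R A a) := rfl

/-- The augmentation ideal. -/
noncomputable def augI : Ideal (TE R A B) := RingHom.ker (TE.fst R A B)

lemma augI_sq : augI R A B ^ 2 = ⊥ := by
  rw [eq_bot_iff, pow_two, Ideal.mul_le]
  intro x hx y hy
  rw [Ideal.mem_bot]
  have hx' : TE.fst R A B x = 0 := hx
  have hy' : TE.fst R A B y = 0 := hy
  apply TE.ext
  · rw [map_mul, hx', zero_mul, map_zero]
  · rw [TE.snd_mul, hx', hy', zero_smul, zero_smul, add_zero, TE.snd_zero]

end Twist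

section Main

variable (R A B B' : Type u) [CommRing R] [CommRing A] [Algebra R A] [CommRing B] [Algebra A B]
  [CommRing B'] [Algebra A B'] [Algebra R B'] [IsScalarTower R A B'] [Algebra B' B]
  [IsScalarTower A B' B]

/-- inclusion of `B` -/
noncomputable def TE.inl : B →+* TE R A B :=
  (TrivSqZeroExt.inlHom B (B ⊗[A] Ω[A⁄R]) : B →+* TrivSqZeroExt B (B ⊗[A] Ω[A⁄R]))

lemma TE.fst_inl (b : B) : TE.fst R A B (TE.inl R A B b) = b := rfl

lemma TE.snd_inl (b : B) : TE.snd R A B (TE.inl R A B b) = 0 := rfl

theorem bijective_baseChange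
    (h : IsUnivThickeningRing A B B' (IsScalarTower.toAlgHom A B' B)) :
    Function.Bijective ((KaehlerDifferential.mapBaseChange R A B').baseChange B) := by
  classical
  haveI : Algebra.FormallyUnramified A B' := UTU.formallyUnramified _ h
  -- R-algebra structure on B
  letI algRB : Algebra R B := ((algebraMap A B).comp (algebraMap R A)).toAlgebra
  haveI : IsScalarTower R A B := IsScalarTower.of_algebraMap_eq (fun _ => rfl)
  haveI : IsScalarTower R B' B := IsScalarTower.of_algebraMap_eq (fun r => by
    change algebraMap A B (algebraMap R A r) = algebraMap B' B (algebraMap R B' r)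
    rw [IsScalarTower.algebraMap_apply R A B', ← IsScalarTower.algebraMap_apply A B' B])
  -- the map `B → TE / augI`
  let a : B →ₐ[A] TE R A B ⧸ augI R A B :=
    { (Ideal.Quotient.mk (augI R A B)).comp (TE.inl R A B) with
      commutes' := fun r => by
        change Ideal.Quotient.mk (augI R A B) (TE.inl R A B (algebraMap A B r)) =
          Ideal.Quotient.mk (augI R A B) (algebraMap A (TE R A B) r)
        rw [Ideal.Quotient.mk_eq_mk_iff_sub_mem]
        change TE.fst R A B _ = 0
        rw [map_sub, TE.fst_inl, algebraMap_TE, TE.fst_mk, sub_self] }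
  obtain ⟨a', ha', -⟩ := h.2.2 (TE R A B) (augI R A B) (augI_sq R A B) a
  have hfst : ∀ x : B', TE.fst R A B (a' x) = algebraMap B' B x := by
    intro x
    have := AlgHom.congr_fun ha' x
    change Ideal.Quotient.mk (augI R A B) (a' x) =
      Ideal.Quotient.mk (augI R A B) (TE.inl R A B (algebraMap B' B x)) at this
    rw [Ideal.Quotient.mk_eq_mk_iff_sub_mem] at this
    have h2 : TE.fst R A B (a' x - TE.inl R A B (algebraMap B' B x)) = 0 := this
    rw [map_sub, TE.fst_inl, sub_eq_zero] at h2
    exact h2
  let δ : Derivation R B' (B ⊗[A] Ω[A⁄R]) :=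
    { toLinearMap :=
        { toFun := fun x => TE.snd R A B (a' x)
          map_add' := fun x y => by rw [map_add, TE.snd_add]
          map_smul' := fun r x => by
            have h1 : a' (r • x) = algebraMap A (TE R A B) (algebraMap R A r) * a' x := by
              rw [Algebra.smul_def, IsScalarTower.algebraMap_apply R A B', map_mul,
                AlgHom.commutes]
            rw [h1, TE.snd_mul, algebraMap_TE, TE.fst_mk, TE.snd_mk, Derivation.map_algebraMap,
              tmul_zero, smul_zero, add_zero, RingHom.id_apply]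
            change algebraMap R B r • _ = _
            rw [algebraMap_smul] }
      map_one_eq_zero' := by
        change TE.snd R A B (a' 1) = 0
        rw [map_one, TE.snd_one]
      leibniz' := fun x y => by
        change TE.snd R A B (a' (x * y)) = x • TE.snd R A B (a' y) + y • TE.snd R A B (a' x)
        rw [map_mul, TE.snd_mul, hfst, hfst, algebraMap_smul, algebraMap_smul] }
  have hδ : ∀ x, δ x = TE.snd R A B (a' x) := fun x => rfl
  have hδA : ∀ s : A, δ (algebraMap A B' s) = (1 : B) ⊗ₜ[A] KaehlerDifferential.D R A s := by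
    intro s
    rw [hδ, AlgHom.commutes, algebraMap_TE, TE.snd_mk]
  let ρ₀ : Ω[B'⁄R] →ₗ[B'] (B ⊗[A] Ω[A⁄R]) := δ.liftKaehlerDifferential
  let ρ : B ⊗[B'] Ω[B'⁄R] →ₗ[B] (B ⊗[A] Ω[A⁄R]) := LinearMap.liftBaseChange B ρ₀
  let θ : B ⊗[B'] (B' ⊗[A] Ω[A⁄R]) ≃ₗ[B] B ⊗[A] Ω[A⁄R] :=
    TensorProduct.AlgebraTensorModule.cancelBaseChange A B' B B Ω[A⁄R]
  set Ψ := (KaehlerDifferential.mapBaseChange R A B').baseChange B with hΨ
  have hcomp : ∀ z, ρ (Ψ z) = θ z := by
    intro z
    induction z using TensorProduct.induction_on with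
    | zero => simp
    | add x y hx hy => rw [map_add, map_add, map_add, hx, hy]
    | tmul b w =>
      induction w using TensorProduct.induction_on with
      | zero => simp
      | add x y hx hy => rw [tmul_add, map_add, map_add, map_add, hx, hy]
      | tmul b' ω =>
        have hω : ω ∈ Submodule.span A (Set.range (KaehlerDifferential.D R A)) := by
          rw [KaehlerDifferential.span_range_derivation]; trivial
        induction hω using Submodule.span_induction generalizing b' with
        | zero => simp
        | add x y _ _ hx hy => rw [tmul_add, tmul_add, map_add, map_add, map_add, hx b', hy b']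
        | mem x hx =>
          obtain ⟨s, rfl⟩ := hx
          rw [hΨ, LinearMap.baseChange_tmul, KaehlerDifferential.mapBaseChange_tmul,
            KaehlerDifferential.map_D, LinearMap.liftBaseChange_tmul, map_smul,
            Derivation.liftKaehlerDifferential_comp_D, hδA,
            TensorProduct.AlgebraTensorModule.cancelBaseChange_tmul]
          rw [smul_tmul', smul_tmul']
          congr 1
          rw [smul_eq_mul, Algebra.smul_def, Algebra.smul_def, mul_one, mul_comm]
        | smul c x _ hx =>
          rw [← TensorProduct.smul_tmul]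
          exact hx (c • b')
  refine ⟨?_, ?_⟩
  · rw [injective_iff_map_eq_zero]
    intro z hz
    have := hcomp z
    rw [hz, map_zero] at this
    exact (LinearEquiv.map_eq_zero_iff θ).1 this.symm
  · have hsurj : Function.Surjective (KaehlerDifferential.mapBaseChange R A B') := by
      intro y
      have hex := KaehlerDifferential.exact_mapBaseChange_map R A B'
      exact (hex y).1 (Subsingleton.elim _ _)
    rw [hΨ, LinearMap.baseChange_eq_ltensor]
    exact LinearMap.lTensor_surjective B hsurj

end Main

end Groth.Agent.H47.UTK
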